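import Cfsg.Agent.Lib.Characters.Induction
import Cfsg.Agent.Lib.Characters.Integrality
import Cfsg.Agent.Lib.Characters.Counting
import Cfsg.Agent.Lib.CN.Basic
import Cfsg.Agent.S0165

/-!
# The character lemma of the case where all pairs are PSL(2,11)

A nontrivial linear character of a point stabiliser inducing a character with two constituents leads to a
contradiction: the product sums over the class of the swap and over the elements of order eleven determine
the degrees up to an equation without solutions.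
-/

set_option autoImplicit false
set_option linter.style.haveILetI false

namespace Cfsg.Agent.ElevenPairs.LCore

open Characters
open scoped ComplexConjugate

universe u v

section Sums

variable {G : Type u} [Group G] [Fintype G]

/-- The sum of an irreducible character over the products of two elements of a normal set. -/
theorem sum_mul_normal {χ : G → ℂ} (h : Cfsg.IsIrrCharacter G χ) (X : Finset G)
    (hX : ∀ g : G, ∀ x ∈ X, g * x * g⁻¹ ∈ X) :
    (∑ x ∈ X, ∑ y ∈ X, χ (x * y)) * χ 1 = (∑ x ∈ X, χ x) ^ 2 := by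
  have hG : (Nat.card G : ℂ) ≠ 0 := natCard_ne_zero
  have hconj : ∀ g : G, ∀ f : G → ℂ, ∑ y ∈ X, f (g * y * g⁻¹) = ∑ y ∈ X, f y := fun g f =>
    Finset.sum_nbij' (fun y => g * y * g⁻¹) (fun y => g⁻¹ * y * g) (fun y hy => hX g y hy)
      (fun y hy => by simpa using hX g⁻¹ y hy) (fun y _ => by group) (fun y _ => by group)
      (fun y _ => rfl)
  have key : ∑ g : G, ∑ x ∈ X, ∑ y ∈ X, χ (x * (g * y * g⁻¹)) =
      (Nat.card G : ℂ) * (∑ x ∈ X, χ x) ^ 2 / χ 1 := by
    rw [Finset.sum_comm, pow_two, Finset.sum_mul_sum, Finset.mul_sum, Finset.sum_div]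
    refine Finset.sum_congr rfl fun x _ => ?_
    rw [Finset.sum_comm, Finset.mul_sum, Finset.sum_div]
    exact Finset.sum_congr rfl fun y _ => by rw [sum_mul_conjugates h x y]; ring
  rw [Finset.sum_congr rfl (fun g _ => Finset.sum_congr rfl fun x _ =>
      hconj g (fun y => χ (x * y))), Finset.sum_const, Finset.card_univ, nsmul_eq_mul,
    ← Nat.card_eq_fintype_card] at key
  rw [eq_div_iff (irr_one_ne_zero h), mul_assoc] at key
  exact mul_left_cancel₀ hG key

/-- The sum of an induced function over a normal set. -/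
theorem sum_ind (H : Subgroup G) (θ : H → ℂ) (X : Finset G)
    (hX : ∀ g : G, ∀ x ∈ X, g * x * g⁻¹ ∈ X) :
    (Nat.card H : ℂ) * ∑ y ∈ X, Cfsg.indFun H θ y =
      (Nat.card G : ℂ) * ∑ y ∈ X, Cfsg.extendByZero H θ y := by
  rw [Finset.mul_sum]
  simp only [CharTheory.IndBasic.card_mul_indFun]
  rw [Finset.sum_comm]
  have hx : ∀ g : G, ∑ y ∈ X, Cfsg.extendByZero H θ (g⁻¹ * y * g) =
      ∑ y ∈ X, Cfsg.extendByZero H θ y := fun g =>
    Finset.sum_nbij' (fun y => g⁻¹ * y * g) (fun y => g * y * g⁻¹)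
      (fun y hy => by simpa using hX g⁻¹ y hy) (fun y hy => hX g y hy) (fun y _ => by group)
      (fun y _ => by group) (fun y _ => rfl)
  simp only [hx, Finset.sum_const, Finset.card_univ, nsmul_eq_mul, ← Nat.card_eq_fintype_card]

/-- The sum of an induced function over the products of two elements of a normal set. -/
theorem sum_ind_mul (H : Subgroup G) (θ : H → ℂ) (X : Finset G)
    (hX : ∀ g : G, ∀ x ∈ X, g * x * g⁻¹ ∈ X) :
    (Nat.card H : ℂ) * ∑ x ∈ X, ∑ y ∈ X, Cfsg.indFun H θ (x * y) =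
      (Nat.card G : ℂ) * ∑ x ∈ X, ∑ y ∈ X, Cfsg.extendByZero H θ (x * y) := by
  rw [← Finset.sum_product', ← Finset.sum_product', Finset.mul_sum]
  simp only [CharTheory.IndBasic.card_mul_indFun]
  rw [Finset.sum_comm]
  have hx : ∀ g : G, ∑ p ∈ X ×ˢ X, Cfsg.extendByZero H θ (g⁻¹ * (p.1 * p.2) * g) =
      ∑ p ∈ X ×ˢ X, Cfsg.extendByZero H θ (p.1 * p.2) := fun g =>
    Finset.sum_nbij' (fun p => (g⁻¹ * p.1 * g, g⁻¹ * p.2 * g))
      (fun p => (g * p.1 * g⁻¹, g * p.2 * g⁻¹))
      (fun p hp => by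
        rw [Finset.mem_product] at hp ⊢
        exact ⟨by simpa using hX g⁻¹ p.1 hp.1, by simpa using hX g⁻¹ p.2 hp.2⟩)
      (fun p hp => by
        rw [Finset.mem_product] at hp ⊢
        exact ⟨hX g p.1 hp.1, hX g p.2 hp.2⟩)
      (fun p _ => by refine Prod.ext ?_ ?_ <;> group) (fun p _ => by refine Prod.ext ?_ ?_ <;> group)
      (fun p _ => by simp only; congr 1; group)
  simp only [hx, Finset.sum_const, Finset.card_univ, nsmul_eq_mul, ← Nat.card_eq_fintype_card]

/-- A character of norm two is the sum of two irreducible characters. -/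
theorem exists_two {π : G → ℂ} (hπ : Cfsg.IsCharacter G π) (h2 : Cfsg.classInner π π = 2) :
    ∃ φ ψ : G → ℂ, Cfsg.IsIrrCharacter G φ ∧ Cfsg.IsIrrCharacter G ψ ∧ π = φ + ψ ∧
      Cfsg.classInner π φ = 1 ∧ Cfsg.classInner π ψ = 1 := by
  classical
  haveI := Fintype.ofFinite (Cfsg.IrrCharacter G)
  have hn : ∀ χ : Cfsg.IrrCharacter G, ∃ m : ℕ, Cfsg.classInner π (χ : G → ℂ) = (m : ℂ) :=
    fun χ => classInner_char_nat hπ (irr_isCharacter χ)
  choose m hm using hn
  have hsum : ∑ χ, m χ * m χ = 2 := by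
    have := classInner_eq_sum π (char_isClassFunction hπ)
    simp only [fun χ : Cfsg.IrrCharacter G => classInner_conj_symm π (χ : G → ℂ), hm,
      Complex.conj_natCast, h2] at this
    exact_mod_cast this.symm
  have hle : ∀ χ, m χ ≤ 1 := fun χ => by
    have h1 : m χ * m χ ≤ 2 :=
      hsum ▸ Finset.single_le_sum (f := fun χ => m χ * m χ) (fun _ _ => Nat.zero_le _)
        (Finset.mem_univ χ)
    by_contra hh
    have := Nat.mul_le_mul (Nat.lt_of_not_le hh) (Nat.lt_of_not_le hh)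
    omega
  have hS : (Finset.univ.filter fun χ => m χ = 1).card = 2 := by
    rw [Finset.card_filter, ← hsum]
    refine Finset.sum_congr rfl fun χ _ => ?_
    rcases (show m χ = 0 ∨ m χ = 1 by have := hle χ; omega) with e | e <;> simp [e]
  obtain ⟨φ, ψ, hne, hS⟩ := Finset.card_eq_two.1 hS
  have h1 : ∀ χ, m χ = 1 ↔ χ = φ ∨ χ = ψ := fun χ => by
    simpa using Finset.ext_iff.1 hS χ
  refine ⟨φ, ψ, φ.2, ψ.2, ?_, by rw [hm, (h1 φ).2 (Or.inl rfl), Nat.cast_one],
    by rw [hm, (h1 ψ).2 (Or.inr rfl), Nat.cast_one]⟩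
  conv_lhs => rw [classFun_eq_sum (char_isClassFunction hπ)]
  rw [Finset.sum_eq_add φ ψ hne (fun χ _ hc => ?_) (by simp) (by simp)]
  · simp [hm, (h1 φ).2 (Or.inl rfl), (h1 ψ).2 (Or.inr rfl)]
  · have : m χ = 0 := by
      have := hle χ
      have : m χ ≠ 1 := fun e => ((h1 χ).1 e).elim hc.1 hc.2
      omega
    simp [hm, this]

end Sums

/-- The degrees split as the prime divisors of `11 * r` do. -/
theorem sides {r d d' : ℕ} (hd : d + d' = 11 * r + 1) (hd0 : d ≠ 0) (hd0' : d' ≠ 0) (hd1 : d ≠ 1)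
    (hd1' : d' ≠ 1) (hN : 11 * r ∣ d * d') (good : ℕ → Prop)
    (hg : ∀ q : ℕ, q.Prime → q ∣ r → q ≠ 11 → good q) (hg11 : 11 ∣ r → good 11)
    (hmix : ∀ q q' : ℕ, q.Prime → q'.Prime → q ∣ 11 * r → q' ∣ 11 * r → good q → good q' →
      q ∣ d → q' ∣ d' → False) :
    ¬ 11 ∣ r ∧ 1 < r ∧ ¬ good 11 ∧ ((r ∣ d ∧ 11 ∣ d') ∨ (r ∣ d' ∧ 11 ∣ d)) := by
  have p11 : Nat.Prime 11 := by norm_num
  have hr0 : r ≠ 0 := fun e => by subst e; omega
  have hor : ∀ q : ℕ, q.Prime → q ∣ 11 * r → q ∣ d ∨ q ∣ d' := fun q hq h =>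
    hq.dvd_mul.1 (h.trans hN)
  have hnb : ∀ q : ℕ, q.Prime → q ∣ 11 * r → q ∣ d → ¬ q ∣ d' := fun q hq h h1 h2 =>
    hq.one_lt.ne' (Nat.dvd_one.1 ((Nat.dvd_add_right h).1 (hd ▸ Nat.dvd_add h1 h2)))
  have key : ∀ q0 : ℕ, q0.Prime → q0 ∣ 11 * r → good q0 → ∀ m : ℕ, m ∣ 11 * r →
      (∀ q : ℕ, q.Prime → q ∣ m → good q) → m ∣ d ∧ q0 ∣ d ∨ m ∣ d' ∧ q0 ∣ d' := by
    intro q0 hq0 h0 hg0 m hm hgm
    rcases hor q0 hq0 h0 with h | h
    · exact Or.inl ⟨(Nat.coprime_of_dvd fun q hq hqm hqd => hmix q0 q hq0 hq h0 (hqm.trans hm) hg0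
        (hgm q hq hqm) h hqd).dvd_of_dvd_mul_right (hm.trans hN), h⟩
    · exact Or.inr ⟨(Nat.coprime_of_dvd fun q hq hqm hqd => hmix q q0 hq hq0 (hqm.trans hm) h0
        (hgm q hq hqm) hg0 hqd h).dvd_of_dvd_mul_left (hm.trans hN), h⟩
  have hbig : ¬ 11 * r ∣ d ∧ ¬ 11 * r ∣ d' := by
    constructor <;> intro h <;>
      have := Nat.le_of_dvd (Nat.pos_of_ne_zero (by assumption)) h <;> omega
  have hb : ¬ good 11 := fun hg0 => by
    have hall : ∀ q : ℕ, q.Prime → q ∣ 11 * r → good q := fun q hq h => by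
      by_cases e : q = 11
      · exact e ▸ hg0
      · exact hg q hq ((hq.dvd_mul.1 h).resolve_left fun h' =>
          e ((Nat.prime_dvd_prime_iff_eq hq p11).1 h')) e
    rcases key 11 p11 (dvd_mul_right _ _) hg0 _ dvd_rfl hall with h | h
    exacts [hbig.1 h.1, hbig.2 h.1]
  have h11r : ¬ 11 ∣ r := fun h => hb (hg11 h)
  have hr1 : 1 < r := by
    by_contra hh
    obtain rfl : r = 1 := by omega
    rcases hor 11 p11 dvd_rfl with h | h
    exacts [hbig.1 h, hbig.2 h]
  have hgr : ∀ q : ℕ, q.Prime → q ∣ r → good q := fun q hq h =>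
    hg q hq h fun e => h11r (e ▸ h)
  have hq0 := Nat.minFac_prime (n := r) (by omega)
  refine ⟨h11r, hr1, hb, ?_⟩
  have cop : Nat.Coprime 11 r := (p11.coprime_iff_not_dvd).2 h11r
  rcases key r.minFac hq0 ((Nat.minFac_dvd r).trans (dvd_mul_left _ _))
    (hgr _ hq0 (Nat.minFac_dvd r)) r (dvd_mul_left _ _) hgr with h | h
  · exact Or.inl ⟨h.1, (hor 11 p11 (dvd_mul_right _ _)).resolve_left fun h' =>
      hbig.1 (cop.mul_dvd_of_dvd_of_dvd h' h.1)⟩
  · exact Or.inr ⟨h.1, (hor 11 p11 (dvd_mul_right _ _)).resolve_right fun h' =>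
      hbig.2 (cop.mul_dvd_of_dvd_of_dvd h' h.1)⟩

/-- The last equation has no solution. -/
theorem no_solution {r n k α : ℤ} (hn : n = 11 * r + 1) (h12 : 12 ∣ n) (h5 : n % 5 = 2) (hr : 1 < r)
    (hk : 0 ≤ k) (hα : 1 ≤ α) (hα' : α ≤ 10)
    (he : (11 * k - α) ^ 2 * n = 20 * α * (11 * k - α) + 100 * α * (11 - α)) : False := by
  have hn672 : 672 ≤ n := by omega
  have hk1 : k ≤ 1 := by
    by_contra hh
    have hc : 12 ≤ 11 * k - α := by omega
    have h1 : 672 * ((11 * k - α) * 12) ≤ n * ((11 * k - α) * (11 * k - α)) :=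
      mul_le_mul hn672 (mul_le_mul_of_nonneg_left hc (by omega)) (by positivity) (by omega)
    nlinarith
  interval_cases k <;> interval_cases α <;> omega

theorem core_false {G : Type u} [Group G] [Finite G] {Ω : Type v} [Finite Ω] [MulAction G Ω]
    (hperf : commutator G = ⊤) {a b : Ω} (hab : a ≠ b)
    (htrans : MulAction.IsPretransitive G Ω)
    (htrans' : ∀ c : Ω, c ≠ a → ∃ h ∈ MulAction.stabilizer G a, h • b = c)
    {r : ℕ} (hn : Nat.card Ω = 11 * r + 1) (h12 : 12 ∣ Nat.card Ω) (h5 : Nat.card Ω % 5 = 2)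
    (j : G) (hj : orderOf j = 2) (hjab : j • a = b) (hjfree : ∀ ω : Ω, j • ω ≠ ω)
    (hswap : Nat.card {x : G // IsConj j x ∧ x • a = b} = 5)
    (Λ : (MulAction.stabilizer G a) →* ℂˣ) (hne : Λ ≠ 1)
    (hswapΛ : ∀ x y : G, IsConj j x → x • a = b → IsConj j y → y • a = b →
      ∀ h : x * y ∈ MulAction.stabilizer G a, Λ ⟨x * y, h⟩ = 1)
    (hinv : ∀ z : G, ∀ h : z ∈ MulAction.stabilizer G a, z • b = b →
      ∀ h' : j * z * j⁻¹ ∈ MulAction.stabilizer G a, Λ ⟨j * z * j⁻¹, h'⟩ = Λ ⟨z, h⟩)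
    (P : Subgroup G) (hP : Nat.card P = 11)
    (hfix : Nat.card {y : G // (y ≠ 1 ∧ ∃ g : G, g * y * g⁻¹ ∈ P) ∧ y • a = a} = 10)
    (hmove : Nat.card {y : G // (y ≠ 1 ∧ ∃ g : G, g * y * g⁻¹ ∈ P) ∧ y • a = b} = 10)
    (hone : ∀ y : G, y ≠ 1 → (∃ g : G, g * y * g⁻¹ ∈ P) → ∃! ω : Ω, y • ω = ω)
    (hYΛ : ∀ x y : G, x ≠ 1 → (∃ g : G, g * x * g⁻¹ ∈ P) → y ≠ 1 → (∃ g : G, g * y * g⁻¹ ∈ P) →
      (y • a = a ∨ y • a = b) → ∀ h : x * y ∈ MulAction.stabilizer G a, Λ ⟨x * y, h⟩ = 1)
    (M : Subgroup G) (hMa : M ≤ MulAction.stabilizer G a) (hPM : P ≤ M) (hMn : Group.IsNilpotent M)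
    (hMcard : Nat.card M = 11 * r)
    (hMfree : ∀ m ∈ M, m ≠ 1 → ∀ ω : Ω, m • ω = ω → ω = a)
    (hcop : ∀ q : ℕ, q.Prime → q ∣ r → q ≠ 11 →
      ¬ q ∣ Nat.card (MulAction.stabilizer G a ⊓ MulAction.stabilizer G b : Subgroup G))
    (h11 : 11 ∣ r → ¬ 11 ∣ Nat.card (MulAction.stabilizer G a ⊓ MulAction.stabilizer G b : Subgroup G)) :
    False := by
  classical
  haveI := Fintype.ofFinite G
  haveI := Fintype.ofFinite Ω
  haveI := Fintype.ofFinite (MulAction.stabilizer G a)
  have hmemH : ∀ g : G, g ∈ (MulAction.stabilizer G a) ↔ g • a = a := fun g => MulAction.mem_stabilizer_iff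
  set nA := Nat.card (MulAction.stabilizer G a ⊓ MulAction.stabilizer G b : Subgroup G) with hnA
  -- orbit counting
  have hF : ∀ c : Ω, (Finset.univ.filter fun g : G => g • a = c).card = Nat.card (MulAction.stabilizer G a) := by
    intro c
    obtain ⟨g0, rfl⟩ := htrans.exists_smul_eq a c
    rw [Nat.subtype_card (Finset.univ.filter fun g : G => g • a = a) (fun x => by
      simp [MulAction.mem_stabilizer_iff])]
    exact Finset.card_equiv (Equiv.mulLeft g0⁻¹) fun x => by
      simp [mul_smul, inv_smul_eq_iff]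
  have hK : ∀ c : Ω, c ≠ a →
      (Finset.univ.filter fun g : G => g • a = a ∧ g • b = c).card = nA := by
    intro c hc
    obtain ⟨k, hk, rfl⟩ := htrans' c hc
    rw [hnA, Nat.subtype_card (Finset.univ.filter fun g : G => g • a = a ∧ g • b = b) (fun x => by
      simp [MulAction.mem_stabilizer_iff, Subgroup.mem_inf])]
    refine Finset.card_equiv (Equiv.mulLeft k⁻¹) fun x => ?_
    have hka : k⁻¹ • a = a := inv_smul_eq_iff.2 ((hmemH k).1 hk).symm
    simp [mul_smul, inv_smul_eq_iff, (hmemH k).1 hk]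
  have hcG : Nat.card G = Nat.card Ω * Nat.card (MulAction.stabilizer G a) := by
    rw [Nat.card_eq_fintype_card (α := G), Nat.card_eq_fintype_card (α := Ω), ← Finset.card_univ,
      Finset.card_eq_sum_card_fiberwise (f := fun g : G => g • a) (t := Finset.univ) (by simp),
      Finset.sum_congr rfl fun c _ => hF c, Finset.sum_const, Finset.card_univ, smul_eq_mul]
  have hcard_ne : (Finset.univ.filter fun c : Ω => c ≠ a).card = 11 * r := by
    rw [Finset.filter_ne', Finset.card_erase_of_mem (Finset.mem_univ a), Finset.card_univ,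
      ← Nat.card_eq_fintype_card, hn, Nat.add_sub_cancel]
  have hcH : Nat.card (MulAction.stabilizer G a) = 11 * r * nA := by
    rw [← hF a, Finset.card_eq_sum_card_fiberwise (f := fun g : G => g • b)
      (t := Finset.univ.filter fun c : Ω => c ≠ a) ?_, Finset.sum_congr rfl (fun c hc => ?_),
      Finset.sum_const, hcard_ne, smul_eq_mul]
    · rw [Finset.filter_filter]; exact hK c (Finset.mem_filter.1 hc).2
    · intro g hg
      simp only [Finset.coe_filter, Finset.mem_univ, true_and, Set.mem_setOf_eq] at hg ⊢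
      intro e
      exact hab ((smul_left_cancel_iff g).1 (hg.trans e.symm))
  have hH0 : (Nat.card (MulAction.stabilizer G a) : ℂ) ≠ 0 := natCard_ne_zero
  have hjj : j * j = 1 := by rw [← pow_two, ← hj, pow_orderOf_eq_one]
  have hjb : j • b = a := by rw [← hjab, ← mul_smul, hjj, one_smul]
  -- the induced character
  set θ : (MulAction.stabilizer G a) → ℂ := fun h => (Λ h : ℂ) with hθ
  set π := Cfsg.indFun (MulAction.stabilizer G a) θ with hπdef
  have hπ : Cfsg.IsCharacter G π := isCharacter_indFun (MulAction.stabilizer G a) (isCharacter_linear Λ)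
  have hext : ∀ g : G, ∀ hg : g • a = a, Cfsg.extendByZero (MulAction.stabilizer G a) θ g = (Λ ⟨g, (hmemH g).2 hg⟩ : ℂ) :=
    fun g hg => CharTheory.IndBasic.extendByZero_of_mem (MulAction.stabilizer G a) θ ((hmemH g).2 hg)
  have hext0 : ∀ g : G, g • a ≠ a → Cfsg.extendByZero (MulAction.stabilizer G a) θ g = 0 := fun g hg =>
    CharTheory.IndBasic.extendByZero_of_notMem (MulAction.stabilizer G a) θ fun h => hg ((hmemH g).1 h)
  have hLconj : ∀ (k g : (MulAction.stabilizer G a)), Λ (k * g * k⁻¹) = Λ g := fun k g => by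
    rw [map_mul, map_mul, map_inv, mul_comm (Λ k), mul_inv_cancel_right]
  have hterm : ∀ (h : (MulAction.stabilizer G a)) (x : G), Cfsg.extendByZero (MulAction.stabilizer G a) θ (x⁻¹ * h * x) =
      (Λ h : ℂ) * if (h : G) • (x • a) = x • a then 1 else 0 := by
    intro h x
    by_cases hfx : (h : G) • (x • a) = x • a
    · have hm : (x⁻¹ * h * x) • a = a := by
        rw [mul_smul, mul_smul, hfx, inv_smul_smul]
      rw [if_pos hfx, mul_one, hext _ hm]
      congr 1
      by_cases hxa : x • a = a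
      · rw [show (⟨x⁻¹ * h * x, (hmemH _).2 hm⟩ : (MulAction.stabilizer G a)) =
          (⟨x, (hmemH x).2 hxa⟩ : (MulAction.stabilizer G a))⁻¹ * h * ((⟨x, (hmemH x).2 hxa⟩ : (MulAction.stabilizer G a))⁻¹)⁻¹ from
            Subtype.ext (by simp), hLconj]
      · obtain ⟨k, hk, hkc⟩ := htrans' (x • a) hxa
        have hka := (hmemH k).1 hk
        have hh' : ((k * j)⁻¹ * x) • a = a := by
          rw [mul_smul, inv_smul_eq_iff, mul_smul, hjab, hkc]
        have hzb : (k⁻¹ * h * k) • b = b := by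
          rw [mul_smul, mul_smul, hkc, hfx, ← hkc, inv_smul_smul]
        set z : (MulAction.stabilizer G a) := (⟨k, hk⟩ : (MulAction.stabilizer G a))⁻¹ * h * ((⟨k, hk⟩ : (MulAction.stabilizer G a))⁻¹)⁻¹ with hz
        have hzv : (z : G) = k⁻¹ * h * k := by simp [hz]
        have hjz : (j * (z : G) * j⁻¹) • a = a := by
          rw [mul_smul, mul_smul, inv_smul_eq_iff.2 hjb.symm, hzv, hzb, hjb]
        set h' : (MulAction.stabilizer G a) := ⟨(k * j)⁻¹ * x, (hmemH _).2 hh'⟩ with hh'def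
        rw [show (⟨x⁻¹ * h * x, (hmemH _).2 hm⟩ : (MulAction.stabilizer G a)) =
            h'⁻¹ * ⟨j * (z : G) * j⁻¹, (hmemH _).2 hjz⟩ * h'⁻¹⁻¹ from Subtype.ext (by
              have hji : j⁻¹ = j := inv_eq_of_mul_eq_one_left hjj
              simp only [Subgroup.coe_mul, Subgroup.coe_inv, hh'def, hzv, mul_inv_rev, inv_inv, hji]
              have hjj2 : ∀ w : G, j * (j * w) = w := fun w => by rw [← mul_assoc, hjj, one_mul]
              simp only [mul_assoc, hjj2, mul_inv_cancel_left, inv_mul_cancel_left]),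
          hLconj, hinv z z.2 (hzv ▸ hzb), hz, hLconj]
    · rw [if_neg hfx, mul_zero, hext0]
      intro hm
      rw [mul_smul, mul_smul, inv_smul_eq_iff] at hm
      exact hfx hm
  have hres : ∀ h : (MulAction.stabilizer G a), (Nat.card (MulAction.stabilizer G a) : ℂ) * π h =
      (Λ h : ℂ) * ∑ x : G, if (h : G) • (x • a) = x • a then 1 else 0 := fun h => by
    rw [CharTheory.IndBasic.card_mul_indFun, Finset.mul_sum]
    exact Finset.sum_congr rfl fun x _ => hterm h x
  have hLone : ∀ h : (MulAction.stabilizer G a), (Λ h : ℂ) * conj (Λ h : ℂ) = 1 := fun h => by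
    rw [Complex.mul_conj, Complex.normSq_eq_norm_sq, linear_norm_eq_one Λ h]; simp
  have hnorm : Cfsg.classInner π π = 2 := by
    have h1 : ∑ x : G, ((Finset.univ.filter fun h : (MulAction.stabilizer G a) => (h : G) • (x • a) = x • a).card) =
        2 * (Nat.card (MulAction.stabilizer G a) * Nat.card (MulAction.stabilizer G a)) := by
      rw [← Finset.sum_fiberwise_of_maps_to (g := fun x : G => x • a) (t := Finset.univ) (by simp),
        ← Finset.add_sum_erase _ _ (Finset.mem_univ a)]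
      have hfib : ∀ c : Ω, ∑ x ∈ Finset.univ.filter (fun x : G => x • a = c),
          (Finset.univ.filter fun h : (MulAction.stabilizer G a) => (h : G) • (x • a) = x • a).card =
          Nat.card (MulAction.stabilizer G a) * (Finset.univ.filter fun h : (MulAction.stabilizer G a) => (h : G) • c = c).card := fun c => by
        rw [Finset.sum_congr rfl (g := fun _ =>
          (Finset.univ.filter fun h : (MulAction.stabilizer G a) => (h : G) • c = c).card) (fun x hx => by
            rw [(Finset.mem_filter.1 hx).2]), Finset.sum_const, hF, smul_eq_mul]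
      simp only [hfib]
      have ha' : (Finset.univ.filter fun h : (MulAction.stabilizer G a) => (h : G) • a = a) = Finset.univ :=
        Finset.filter_true_of_mem fun h _ => (hmemH h).1 h.2
      have hc' : ∀ c ∈ (Finset.univ : Finset Ω).erase a,
          (Finset.univ.filter fun h : (MulAction.stabilizer G a) => (h : G) • c = c).card = nA := by
        intro c hc
        obtain ⟨k, hk, rfl⟩ := htrans' c (Finset.mem_erase.1 hc).1
        rw [← hK b hab.symm]
        refine Finset.card_bij' (fun h _ => k⁻¹ * (h : G) * k)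
          (fun g hg => ⟨k * g * k⁻¹, (hmemH _).2 ?_⟩) ?_ ?_ ?_ ?_
        · have hg' := (Finset.mem_filter.1 hg).2.1
          rw [mul_smul, mul_smul, inv_smul_eq_iff.2 ((hmemH k).1 hk).symm, hg', (hmemH k).1 hk]
        · intro h hh
          have hh' := (Finset.mem_filter.1 hh).2
          refine Finset.mem_filter.2 ⟨Finset.mem_univ _, ?_, ?_⟩
          · rw [mul_smul, mul_smul, (hmemH k).1 hk, (hmemH h).1 h.2,
              inv_smul_eq_iff.2 ((hmemH k).1 hk).symm]
          · rw [mul_smul, mul_smul, hh', inv_smul_smul]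
        · intro g hg
          refine Finset.mem_filter.2 ⟨Finset.mem_univ _, ?_⟩
          show (k * g * k⁻¹) • (k • b) = k • b
          rw [mul_smul, mul_smul, inv_smul_smul, (Finset.mem_filter.1 hg).2.2]
        · intro h _; exact Subtype.ext (by group)
        · intro g _; group
      rw [Finset.sum_congr rfl (fun c hc => by rw [hc' c hc]), ha', Finset.card_univ,
        ← Nat.card_eq_fintype_card, Finset.sum_const, Finset.card_erase_of_mem (Finset.mem_univ a),
        Finset.card_univ, ← Nat.card_eq_fintype_card, hn, Nat.add_sub_cancel, smul_eq_mul]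
      rw [show 11 * r * (Nat.card (MulAction.stabilizer G a) * nA) = Nat.card (MulAction.stabilizer G a) * (11 * r * nA) by ring, ← hcH]
      ring
    rw [hπdef, frobenius_reciprocity (MulAction.stabilizer G a) θ (indFun_isClassFunction (MulAction.stabilizer G a) θ), classInner_def]
    apply mul_left_cancel₀ (mul_ne_zero hH0 hH0)
    calc (Nat.card (MulAction.stabilizer G a) : ℂ) * Nat.card (MulAction.stabilizer G a) *
          ((Nat.card (MulAction.stabilizer G a) : ℂ)⁻¹ * ∑ h : (MulAction.stabilizer G a), θ h * conj (π h))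
        = ∑ h : (MulAction.stabilizer G a), θ h * conj ((Nat.card (MulAction.stabilizer G a) : ℂ) * π h) := by
          rw [mul_assoc, mul_inv_cancel_left₀ hH0, Finset.mul_sum]
          exact Finset.sum_congr rfl fun h _ => by rw [map_mul, Complex.conj_natCast]; ring
      _ = ∑ h : (MulAction.stabilizer G a), ((Finset.univ.filter fun x : G => (h : G) • (x • a) = x • a).card : ℂ) := by
          refine Finset.sum_congr rfl fun h _ => ?_
          rw [hres h, map_mul, ← mul_assoc, hLone, one_mul, Finset.sum_boole, Complex.conj_natCast]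
      _ = _ := by
          rw [← Nat.cast_sum]
          simp only [Finset.card_filter]
          rw [Finset.sum_comm]
          simp only [← Finset.card_filter]
          rw [h1]; push_cast; ring
  obtain ⟨φ₁, φ₂, hφ₁, hφ₂, hsplit, hi₁, hi₂⟩ := exists_two hπ hnorm
  have hval : ∀ g : G, π g = φ₁ g + φ₂ g := fun g => by rw [hsplit]; rfl
  obtain ⟨d₁, hd₁0, hd₁⟩ := irr_one_pos hφ₁
  obtain ⟨d₂, hd₂0, hd₂⟩ := irr_one_pos hφ₂
  have hπ1 : π 1 = (Nat.card Ω : ℂ) := by
    rw [hπdef, indFun_one, hθ]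
    have : (MulAction.stabilizer G a).index = Nat.card Ω := by
      have := (MulAction.stabilizer G a).card_mul_index
      rw [hcG, mul_comm (Nat.card Ω)] at this
      exact Nat.eq_of_mul_eq_mul_left Nat.card_pos this
    simp [this]
  have hdsum : d₁ + d₂ = 11 * r + 1 := by
    have h := hval 1
    rw [hπ1, hd₁, hd₂, hn] at h
    exact_mod_cast h.symm
  -- no constituent of degree one
  have hnolin : ∀ {χ : G → ℂ} {d : ℕ}, Cfsg.IsIrrCharacter G χ → Cfsg.classInner π χ = 1 →
      χ 1 = (d : ℂ) → d ≠ 1 := by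
    intro χ d hχ hi hd e
    subst e
    rw [Nat.cast_one] at hd
    have hker : (linearOfDegreeOne (isCharacter_of_isIrr hχ) hd) = 1 := by
      refine MonoidHom.ext fun g => ?_
      have := hperf ▸ Abelianization.commutator_subset_ker
        (linearOfDegreeOne (isCharacter_of_isIrr hχ) hd)
      exact MonoidHom.mem_ker.1 (this (Subgroup.mem_top g))
    have hχ1 : χ = fun _ => 1 := funext fun g => by
      rw [← linearOfDegreeOne_apply (isCharacter_of_isIrr hχ) hd g, hker]; simp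
    subst hχ1
    rw [hπdef, frobenius_reciprocity (MulAction.stabilizer G a) θ (fun g x => rfl)] at hi
    rw [classInner_isIrr_ne (isIrrCharacter_linear Λ) isIrrCharacter_one] at hi
    · exact zero_ne_one hi
    · intro e
      exact hne (MonoidHom.ext fun h => Units.ext (congrFun e h))
  have hd₁1 := hnolin hφ₁ hi₁ hd₁
  have hd₂1 := hnolin hφ₂ hi₂ hd₂
  -- sums over normal sets
  have hsumtwo : ∀ X : Finset G, (∀ g : G, ∀ x ∈ X, g * x * g⁻¹ ∈ X) →
      (∑ x ∈ X, φ₁ x) ^ 2 / (d₁ : ℂ) + (∑ x ∈ X, φ₂ x) ^ 2 / (d₂ : ℂ) =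
        (Nat.card Ω : ℂ) * ∑ x ∈ X, ∑ y ∈ X, Cfsg.extendByZero (MulAction.stabilizer G a) θ (x * y) := by
    intro X hX
    have h1 := sum_mul_normal hφ₁ X hX
    have h2 := sum_mul_normal hφ₂ X hX
    rw [← h1, ← h2, hd₁, hd₂, mul_div_assoc, mul_div_assoc,
      div_self (Nat.cast_ne_zero.2 (by omega)), div_self (Nat.cast_ne_zero.2 (by omega)),
      mul_one, mul_one, ← Finset.sum_add_distrib]
    simp only [← Finset.sum_add_distrib, ← hval]
    apply mul_left_cancel₀ hH0
    rw [sum_ind_mul (MulAction.stabilizer G a) θ X hX, hcG]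
    push_cast; ring
  -- the class of `j`
  set X := Finset.univ.filter fun x : G => IsConj j x with hXdef
  have hXn : ∀ g : G, ∀ x ∈ X, g * x * g⁻¹ ∈ X := fun g x hx =>
    Finset.mem_filter.2 ⟨Finset.mem_univ _,
      (Finset.mem_filter.1 hx).2.trans (isConj_iff.2 ⟨g, rfl⟩)⟩
  have hmove0 : ∀ S : Finset G, (∀ g : G, ∀ x ∈ S, g * x * g⁻¹ ∈ S) → ∀ c : Ω, c ≠ a →
      (S.filter fun x => x • a = c).card = (S.filter fun x => x • a = b).card := by
    intro S hS c hc
    obtain ⟨k, hk, rfl⟩ := htrans' c hc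
    have hka := (hmemH k).1 hk
    have hka' : k⁻¹ • a = a := inv_smul_eq_iff.2 hka.symm
    refine Finset.card_bij' (fun x _ => k⁻¹ * x * k) (fun x _ => k * x * k⁻¹) ?_ ?_
      (fun x _ => by group) (fun x _ => by group)
    · intro x hx
      rw [Finset.mem_filter] at hx ⊢
      exact ⟨by simpa using hS k⁻¹ x hx.1, by rw [mul_smul, mul_smul, hka, hx.2, inv_smul_smul]⟩
    · intro x hx
      rw [Finset.mem_filter] at hx ⊢
      exact ⟨hS k x hx.1, by rw [mul_smul, mul_smul, hka', hx.2]⟩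
  have hXfree : ∀ x ∈ X, ∀ ω : Ω, x • ω ≠ ω := by
    intro x hx ω e
    obtain ⟨g, rfl⟩ := isConj_iff.1 (Finset.mem_filter.1 hx).2
    rw [mul_smul, mul_smul, ← eq_inv_smul_iff] at e
    exact hjfree _ e
  have hXinv : ∀ x ∈ X, x⁻¹ = x := by
    intro x hx
    obtain ⟨g, rfl⟩ := isConj_iff.1 (Finset.mem_filter.1 hx).2
    rw [mul_inv_rev, mul_inv_rev, inv_inv, inv_eq_of_mul_eq_one_left hjj, mul_assoc]
  have hX5 : (X.filter fun x => x • a = b).card = 5 := by
    rw [← hswap, Nat.subtype_card]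
    intro x; simp [X]
  have hXcard : X.card = 11 * r * 5 := by
    rw [Finset.card_eq_sum_card_fiberwise (f := fun x : G => x • a)
      (t := Finset.univ.filter fun c : Ω => c ≠ a)
      (fun x hx => Finset.mem_filter.2 ⟨Finset.mem_univ _, hXfree x hx a⟩),
      Finset.sum_congr rfl fun c hc => (hmove0 X hXn c (Finset.mem_filter.1 hc).2).trans hX5,
      Finset.sum_const, hcard_ne, smul_eq_mul]
  have hpair : ∀ {k : G}, k ∈ (MulAction.stabilizer G a) → ∀ x y : G, (x * y) • a = a →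
      (∀ h : (k⁻¹ * x * k) * (k⁻¹ * y * k) ∈ (MulAction.stabilizer G a), Λ ⟨_, h⟩ = 1) →
      Cfsg.extendByZero (MulAction.stabilizer G a) θ (x * y) = 1 := by
    intro k hk x y hxy hone'
    have hm : k⁻¹ * x * k * (k⁻¹ * y * k) ∈ (MulAction.stabilizer G a) := by
      rw [show k⁻¹ * x * k * (k⁻¹ * y * k) = k⁻¹ * (x * y) * k by group]
      exact mul_mem (mul_mem (inv_mem hk) ((hmemH _).2 hxy)) hk
    rw [hext _ hxy, show (⟨x * y, (hmemH _).2 hxy⟩ : (MulAction.stabilizer G a)) =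
      ⟨k, hk⟩ * ⟨_, hm⟩ * (⟨k, hk⟩ : (MulAction.stabilizer G a))⁻¹ from Subtype.ext (by simp; group), hLconj, hone' hm]
    simp
  have hXsum : ∑ x ∈ X, ∑ y ∈ X, Cfsg.extendByZero (MulAction.stabilizer G a) θ (x * y) = ((11 * r * 25 : ℕ) : ℂ) := by
    rw [Finset.sum_comm]
    have hy : ∀ y ∈ X, ∑ x ∈ X, Cfsg.extendByZero (MulAction.stabilizer G a) θ (x * y) = 5 := by
      intro y hy
      have hc := hXfree y hy a
      obtain ⟨k, hk, hkb⟩ := htrans' (y • a) hc
      have hka := (hmemH k).1 hk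
      rw [← Finset.sum_filter_add_sum_filter_not X (fun x => x • a = y • a), Finset.sum_eq_zero
        (s := X.filter fun x => ¬ x • a = y • a), add_zero, Finset.sum_congr rfl (g := fun _ => 1),
        Finset.sum_const, hmove0 X hXn _ hc, hX5]
      · simp
      · intro x hx
        rw [Finset.mem_filter] at hx
        have hxy : (x * y) • a = a := by
          rw [mul_smul, ← hx.2, ← mul_smul]
          nth_rw 1 [← hXinv x hx.1]
          rw [inv_mul_cancel, one_smul]
        refine hpair hk x y hxy (hswapΛ _ _ ?_ ?_ ?_ ?_)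
        · have hh := hXn k⁻¹ x hx.1
          rw [inv_inv] at hh
          exact (Finset.mem_filter.1 hh).2
        · rw [mul_smul, mul_smul, hka, hx.2, ← hkb, inv_smul_smul]
        · have hh := hXn k⁻¹ y hy
          rw [inv_inv] at hh
          exact (Finset.mem_filter.1 hh).2
        · rw [mul_smul, mul_smul, hka, ← hkb, inv_smul_smul]
      · intro x hx
        rw [Finset.mem_filter] at hx
        refine hext0 _ fun e => hx.2 ?_
        rw [mul_smul, ← eq_inv_smul_iff, hXinv x hx.1] at e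
        exact e.symm
    rw [Finset.sum_congr rfl hy, Finset.sum_const, hXcard]
    push_cast; ring
  have hπj : π j = 0 := by
    apply mul_left_cancel₀ hH0
    rw [mul_zero, CharTheory.IndBasic.card_mul_indFun]
    refine Finset.sum_eq_zero fun x _ => hext0 _ fun e => ?_
    rw [mul_smul, mul_smul, inv_smul_eq_iff] at e
    exact hjfree _ e
  have hvj : φ₂ j = - φ₁ j := eq_neg_of_add_eq_zero_right (by rw [← hval, hπj])
  have hsumX : ∀ χ : G → ℂ, Cfsg.IsCharacter G χ → ∑ x ∈ X, χ x = (X.card : ℂ) * χ j := by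
    intro χ hχ
    rw [Finset.sum_congr rfl (g := fun _ => χ j) (fun x hx => ?_), Finset.sum_const, nsmul_eq_mul]
    obtain ⟨g, rfl⟩ := isConj_iff.1 (Finset.mem_filter.1 hx).2
    exact char_isClassFunction hχ j g
  have hr0 : r ≠ 0 := fun e => by subst e; omega
  have hdd : ((d₁ * d₂ : ℕ) : ℂ) = ((11 * r : ℕ) : ℂ) * φ₁ j ^ 2 := by
    have h := hsumtwo X hXn
    rw [hsumX _ (isCharacter_of_isIrr hφ₁), hsumX _ (isCharacter_of_isIrr hφ₂), hvj, hXsum, hXcard,
      hn] at h
    have e1 : (d₁ : ℂ) ≠ 0 := Nat.cast_ne_zero.2 (by omega)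
    have e2 : (d₂ : ℂ) ≠ 0 := Nat.cast_ne_zero.2 (by omega)
    have e3 : (d₁ : ℂ) + d₂ = 11 * (r : ℂ) + 1 := by exact_mod_cast congrArg (Nat.cast (R := ℂ)) hdsum
    have e4 : (25 * (11 * (r : ℂ) + 1)) ≠ 0 := by
      exact_mod_cast Nat.mul_ne_zero (show (25 : ℕ) ≠ 0 by omega) (show 11 * r + 1 ≠ 0 by omega)
    push_cast at h ⊢
    field_simp at h
    apply mul_left_cancel₀ e4
    linear_combination (-1 : ℂ) * h + 275 * (r : ℂ) * φ₁ j ^ 2 * e3
  have hNdd : 11 * r ∣ d₁ * d₂ := by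
    refine dvd_of_isIntegral_div (by omega) ?_
    rw [hdd, mul_div_cancel_left₀ _ (Nat.cast_ne_zero.2 (by omega))]
    exact (char_value_isIntegral (isCharacter_of_isIrr hφ₁) j).pow 2
  -- the elements of order eleven
  set Y := Finset.univ.filter fun y : G => y ≠ 1 ∧ ∃ g : G, g * y * g⁻¹ ∈ P with hYdef
  have hYn : ∀ g : G, ∀ y ∈ Y, g * y * g⁻¹ ∈ Y := by
    intro g y hy
    obtain ⟨h1, g', hg'⟩ := (Finset.mem_filter.1 hy).2
    refine Finset.mem_filter.2 ⟨Finset.mem_univ _, fun e => h1 (conj_eq_one_iff.1 e), g' * g⁻¹, ?_⟩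
    rwa [show g' * g⁻¹ * (g * y * g⁻¹) * (g' * g⁻¹)⁻¹ = g' * y * g'⁻¹ by group]
  have hY10 : (Y.filter fun y => y • a = a).card = 10 := by
    rw [← hfix, Nat.subtype_card]
    intro y; simp [Y]
  have hY10' : (Y.filter fun y => y • a = b).card = 10 := by
    rw [← hmove, Nat.subtype_card]
    intro y; simp [Y]
  have hY11 : ∀ y ∈ Y, y ^ 11 = 1 := by
    intro y hy
    obtain ⟨-, g, hg⟩ := (Finset.mem_filter.1 hy).2
    have h := pow_card_eq_one' (x := (⟨_, hg⟩ : P))
    rw [hP] at h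
    have h' : (g * y * g⁻¹) ^ 11 = 1 := congrArg Subtype.val h
    rwa [conj_pow, conj_eq_one_iff] at h'
  have hYinv : ∀ y ∈ Y, y⁻¹ ∈ Y := by
    intro y hy
    obtain ⟨h1, g, hg⟩ := (Finset.mem_filter.1 hy).2
    refine Finset.mem_filter.2 ⟨Finset.mem_univ _, inv_ne_one.2 h1, g, ?_⟩
    rw [← conj_inv]
    exact inv_mem hg
  have hYsum : ∑ x ∈ Y, ∑ y ∈ Y, Cfsg.extendByZero (MulAction.stabilizer G a) θ (x * y) =
      ((100 * (11 * r + 1) : ℕ) : ℂ) := by
    rw [Finset.sum_comm]
    have hy : ∀ y ∈ Y, ∑ x ∈ Y, Cfsg.extendByZero (MulAction.stabilizer G a) θ (x * y) = 10 := by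
      intro y hy
      rw [← Finset.sum_filter_add_sum_filter_not Y (fun x => x • (y • a) = a),
        Finset.sum_eq_zero (s := Y.filter fun x => ¬ x • (y • a) = a), add_zero,
        Finset.sum_congr rfl (g := fun _ => 1), Finset.sum_const]
      · have hcount : (Y.filter fun x => x • (y • a) = a).card = 10 := by
          rw [show (Y.filter fun x => x • (y • a) = a).card =
            (Y.filter fun x => x • a = y • a).card from Finset.card_bij' (fun x _ => x⁻¹) (fun x _ => x⁻¹)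
              (fun x hx => by
                rw [Finset.mem_filter] at hx ⊢
                exact ⟨hYinv x hx.1, by rw [inv_smul_eq_iff, hx.2]⟩)
              (fun x hx => by
                rw [Finset.mem_filter] at hx ⊢
                exact ⟨hYinv x hx.1, by rw [inv_smul_eq_iff, hx.2]⟩)
              (fun x _ => inv_inv x) (fun x _ => inv_inv x)]
          by_cases hc : y • a = a
          · rw [hc, hY10]
          · rw [hmove0 Y hYn _ hc, hY10']
        rw [hcount]; simp
      · intro x hx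
        rw [Finset.mem_filter] at hx
        have hxy : (x * y) • a = a := by rw [mul_smul, hx.2]
        obtain ⟨x1, hx1, hx1'⟩ := Finset.mem_filter.1 hx.1
        obtain ⟨y1, hy1, hy1'⟩ := Finset.mem_filter.1 hy
        by_cases hc : y • a = a
        · rw [hext _ hxy, hYΛ x y hx1 hx1' hy1 hy1' (Or.inl hc)]; simp
        · obtain ⟨k, hk, hkb⟩ := htrans' (y • a) hc
          have hx2 := Finset.mem_filter.1 (hYn k⁻¹ x hx.1)
          have hy2 := Finset.mem_filter.1 (hYn k⁻¹ y hy)
          rw [inv_inv] at hx2 hy2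
          refine hpair hk x y hxy (hYΛ _ _ hx2.2.1 hx2.2.2 hy2.2.1 hy2.2.2 (Or.inr ?_))
          rw [mul_smul, mul_smul, (hmemH k).1 hk, ← hkb, inv_smul_smul]
      · intro x hx
        rw [Finset.mem_filter] at hx
        exact hext0 _ fun e => hx.2 (by rw [← mul_smul]; exact e)
    rw [Finset.sum_congr rfl hy, Finset.sum_const, nsmul_eq_mul,
      Finset.card_eq_sum_card_fiberwise (f := fun x : G => x • a) (t := Finset.univ) (by simp),
      ← Finset.add_sum_erase _ _ (Finset.mem_univ a), hY10,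
      Finset.sum_congr rfl (fun c hc => (hmove0 Y hYn c (Finset.mem_erase.1 hc).1).trans hY10'),
      Finset.sum_const, Finset.card_erase_of_mem (Finset.mem_univ a), Finset.card_univ,
      ← Nat.card_eq_fintype_card, hn, Nat.add_sub_cancel, smul_eq_mul]
    push_cast; ring
  set Q := Y.filter fun y => y • a = a with hQdef
  have hΛQ : ∀ y ∈ Q, Cfsg.extendByZero (MulAction.stabilizer G a) θ y = 1 := by
    intro y hy
    obtain ⟨hyY, hya⟩ := Finset.mem_filter.1 hy
    obtain ⟨h1, h1'⟩ := (Finset.mem_filter.1 hyY).2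
    set y' : (MulAction.stabilizer G a) := ⟨y, (hmemH y).2 hya⟩ with hy'
    have h2 : Λ y' * Λ y' = 1 := by
      rw [← map_mul]
      exact hYΛ y y h1 h1' h1 h1' (Or.inl hya) (mul_mem y'.2 y'.2)
    have h11' : Λ y' ^ 11 = 1 := by
      rw [← map_pow, show y' ^ 11 = 1 from Subtype.ext (hY11 y hyY), map_one]
    rw [show (11 : ℕ) = 2 * 5 + 1 from rfl, pow_succ, pow_mul, pow_two, h2, one_pow, one_mul] at h11'
    rw [hext _ hya, h11']; simp
  have hfib : ∀ χ : G → ℂ, Cfsg.IsCharacter G χ →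
      ∑ y ∈ Y, χ y = (Nat.card Ω : ℂ) * ∑ y ∈ Q, χ y := by
    intro χ hχ
    have h1 : ∀ y ∈ Y, χ y = ∑ c : Ω, if y • c = c then χ y else 0 := by
      intro y hy
      obtain ⟨h1, h1'⟩ := (Finset.mem_filter.1 hy).2
      obtain ⟨ω, hω, huniq⟩ := hone y h1 h1'
      rw [Finset.sum_eq_single ω (fun c _ hc => if_neg fun e => hc (huniq c e)) (by simp), if_pos hω]
    rw [Finset.sum_congr rfl h1, Finset.sum_comm, Finset.sum_congr rfl (g := fun _ => ∑ y ∈ Q, χ y),
      Finset.sum_const, Finset.card_univ, nsmul_eq_mul, ← Nat.card_eq_fintype_card]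
    intro c _
    obtain ⟨g, rfl⟩ := htrans.exists_smul_eq a c
    rw [hQdef, ← Finset.sum_filter]
    refine Finset.sum_nbij' (fun y => g⁻¹ * y * g) (fun y => g * y * g⁻¹) ?_ ?_ (fun y _ => by group)
      (fun y _ => by group) ?_
    · intro y hy
      rw [Finset.mem_filter] at hy ⊢
      exact ⟨by simpa using hYn g⁻¹ y hy.1, by rw [mul_smul, mul_smul, hy.2, inv_smul_smul]⟩
    · intro y hy
      rw [Finset.mem_filter] at hy ⊢
      exact ⟨hYn g y hy.1, by rw [mul_smul, mul_smul, inv_smul_smul, hy.2]⟩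
    · intro y _
      simpa using (char_isClassFunction hχ y g⁻¹).symm
  have hπY : ∑ y ∈ Q, φ₁ y + ∑ y ∈ Q, φ₂ y = 10 := by
    have hn0 : (Nat.card Ω : ℂ) ≠ 0 := Nat.cast_ne_zero.2 (by omega)
    apply mul_left_cancel₀ hn0
    rw [mul_add, ← hfib _ (isCharacter_of_isIrr hφ₁), ← hfib _ (isCharacter_of_isIrr hφ₂),
      ← Finset.sum_add_distrib]
    simp only [← hval]
    apply mul_left_cancel₀ hH0
    rw [sum_ind (MulAction.stabilizer G a) θ Y hYn, ← Finset.sum_filter_add_sum_filter_not Y (fun y => y • a = a),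
      Finset.sum_eq_zero (s := Y.filter fun y => ¬ y • a = a)
        (fun y hy => hext0 y (Finset.mem_filter.1 hy).2), add_zero, Finset.sum_congr rfl hΛQ,
      Finset.sum_const, hY10, hcG]
    push_cast; ring
  have hYeq : (∑ y ∈ Q, φ₁ y) ^ 2 * d₂ + (∑ y ∈ Q, φ₂ y) ^ 2 * d₁ = 100 * ((d₁ * d₂ : ℕ) : ℂ) := by
    have h := hsumtwo Y hYn
    rw [hfib _ (isCharacter_of_isIrr hφ₁), hfib _ (isCharacter_of_isIrr hφ₂), hYsum, ← hn] at h
    have e1 : (d₁ : ℂ) ≠ 0 := Nat.cast_ne_zero.2 (by omega)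
    have e2 : (d₂ : ℂ) ≠ 0 := Nat.cast_ne_zero.2 (by omega)
    have e3 : (Nat.card Ω : ℂ) ^ 2 ≠ 0 := pow_ne_zero _ (Nat.cast_ne_zero.2 (by omega))
    push_cast at h ⊢
    field_simp at h
    apply mul_left_cancel₀ e3
    linear_combination h
  -- vanishing
  have hvanish : ∀ {χ : G → ℂ} {d d' : ℕ}, Cfsg.IsIrrCharacter G χ → χ 1 = (d : ℂ) →
      11 * r ∣ d * d' → ∀ q : ℕ, q.Prime → q ∣ 11 * r → ¬ q ∣ nA → ¬ q ∣ d' →
      ∀ g : G, q ∣ orderOf g → χ g = 0 := by
    intro χ d d' hχ hd hdd' q hq hqN hqA hqd' g hg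
    obtain ⟨m, ρ, hρ, rfl⟩ := hχ
    have hdeg : Module.finrank ℂ (Fin m → ℂ) = d := by
      apply Nat.cast_injective (R := ℂ)
      rw [← hd, ρ.char_one]
    have hG : Nat.card G = (11 * r) * ((11 * r + 1) * nA) := by rw [hcG, hcH, hn]; ring
    have hqn : ¬ q ∣ (11 * r + 1) * nA := fun h => (hq.dvd_mul.1 h).elim
      (fun h' => hq.one_lt.ne' (Nat.dvd_one.1 ((Nat.dvd_add_right hqN).1 h'))) hqA
    refine S0165.result ρ q ((11 * r).factorization q) hq ?_ ?_ ?_ g hg
    · rw [hG]; exact (Nat.ordProj_dvd _ q).trans (dvd_mul_right _ _)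
    · rw [hG]
      intro h
      exact Nat.pow_succ_factorization_not_dvd (by omega) hq
        ((Nat.Coprime.pow_left _ ((hq.coprime_iff_not_dvd).2 hqn)).dvd_of_dvd_mul_right h)
    · rw [hdeg]
      exact (Nat.Coprime.pow_left _ ((hq.coprime_iff_not_dvd).2 hqd')).dvd_of_dvd_mul_right
        ((Nat.ordProj_dvd _ q).trans hdd')
  have hnb : ∀ {d d' : ℕ}, d + d' = 11 * r + 1 → ∀ q : ℕ, q.Prime → q ∣ 11 * r → q ∣ d → ¬ q ∣ d' :=
    fun {d d'} hs q hq h h1 h2 =>
      hq.one_lt.ne' (Nat.dvd_one.1 ((Nat.dvd_add_right h).1 (hs ▸ Nat.dvd_add h1 h2)))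
  have hπM : ∀ m ∈ M, m ≠ 1 → π m ≠ 0 := by
    intro m hm hm1 h0
    have h := hres ⟨m, hMa hm⟩
    rw [h0, mul_zero, eq_comm, mul_eq_zero] at h
    refine h.elim (Units.ne_zero _) fun h' => ?_
    rw [Finset.sum_boole, Nat.cast_eq_zero, Finset.card_eq_zero] at h'
    exact absurd (Finset.mem_filter.2 ⟨Finset.mem_univ (1 : G), by
      show m • ((1 : G) • a) = (1 : G) • a
      rw [one_smul]; exact (hmemH m).1 (hMa hm)⟩) (Finset.eq_empty_iff_forall_notMem.1 h' 1)
  have hmix : ∀ q q' : ℕ, q.Prime → q'.Prime → q ∣ 11 * r → q' ∣ 11 * r → ¬ q ∣ nA → ¬ q' ∣ nA →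
      q ∣ d₁ → q' ∣ d₂ → False := by
    intro q q' hq hq' h h' hg hg' hqd hqd'
    have hne' : q ≠ q' := fun e => hnb hdsum q hq h hqd (e ▸ hqd')
    haveI := Fact.mk hq
    haveI := Fact.mk hq'
    obtain ⟨x, hx⟩ := exists_prime_orderOf_dvd_card' (G := M) q (hMcard ▸ h)
    obtain ⟨y, hy⟩ := exists_prime_orderOf_dvd_card' (G := M) q' (hMcard ▸ h')
    have hco : Nat.Coprime (orderOf x) (orderOf y) := by
      rw [hx, hy]; exact (Nat.coprime_primes hq hq').2 hne'
    have hc : Commute x y := CN.commute_of_coprime_group (hH := hMn) x y hco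
    have ho : orderOf ((x * y : M) : G) = q * q' := by
      rw [Subgroup.orderOf_coe, hc.orderOf_mul_eq_mul_orderOf_of_coprime hco, hx, hy]
    refine hπM _ (x * y).2 (fun e => ?_) ?_
    · rw [e, orderOf_one] at ho
      exact hq.one_lt.ne' (Nat.eq_one_of_mul_eq_one_right ho.symm)
    · rw [hval, hvanish hφ₁ hd₁ hNdd q hq h hg (hnb hdsum q hq h hqd) _ (ho ▸ dvd_mul_right q q'),
        hvanish (d' := d₁) hφ₂ hd₂ (mul_comm d₁ d₂ ▸ hNdd) q' hq' h' hg'
          (hnb (by omega) q' hq' h' hqd') _ (ho ▸ dvd_mul_left q' q), add_zero]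
  obtain ⟨h11r, hr1, -, hside⟩ := sides hdsum (by omega) (by omega) hd₁1 hd₂1 hNdd
    (fun q => ¬ q ∣ nA) hcop h11 hmix
  -- the equation
  have hfin : ∀ (χ χ' : G → ℂ) (d d' : ℕ), Cfsg.IsIrrCharacter G χ → χ 1 = (d : ℂ) →
      0 < d → 0 < d' → d + d' = 11 * r + 1 → 11 * r ∣ d * d' →
      ∑ y ∈ Q, χ y + ∑ y ∈ Q, χ' y = 10 →
      (∑ y ∈ Q, χ y) ^ 2 * d' + (∑ y ∈ Q, χ' y) ^ 2 * d = 100 * ((d * d' : ℕ) : ℂ) →
      r ∣ d → 11 ∣ d' → False := by
    intro χ χ' d d' hχ hd hd0 hd0' hs hdd' hsum heq hrd h11d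
    have p11 : Nat.Prime 11 := by norm_num
    haveI := Fact.mk p11
    set P' := P.subgroupOf M with hP'
    have hP'card : Nat.card P' = 11 := by
      rw [hP', Nat.card_congr (Subgroup.subgroupOfEquivOfLe hPM).toEquiv, hP]
    have hzero : ∀ m : M, m ∉ P' → χ m = 0 := by
      intro m hm
      have hdvd : orderOf m ∣ 11 * r := hMcard ▸ orderOf_dvd_natCard m
      obtain ⟨q, hq, hqr, hqm⟩ : ∃ q : ℕ, q.Prime ∧ q ∣ r ∧ q ∣ orderOf m := by
        by_contra hno
        push Not at hno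
        have h11m : orderOf m ∣ 11 :=
          (Nat.coprime_of_dvd fun q hq hqm hqr => hno q hq hqr hqm).dvd_of_dvd_mul_right hdvd
        haveI : Group.IsNilpotent M := hMn
        have hSP : IsPGroup 11 P' := IsPGroup.of_card (n := 1) (by rw [hP'card, pow_one])
        have hidx : ¬ 11 ∣ P'.index := by
          have h := P'.card_mul_index
          rw [hP'card, hMcard] at h
          rw [Nat.eq_of_mul_eq_mul_left (by omega) h]
          exact h11r
        let S : Sylow 11 M := hSP.toSylow hidx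
        haveI : (S : Subgroup M).Normal := Sylow.normal_of_normalizerCondition
          Group.normalizerCondition_of_isNilpotent S
        have hSn : P'.Normal := by
          rwa [show (S : Subgroup M) = P' from rfl] at *
        have h1 : orderOf (QuotientGroup.mk' P' m) ∣ Nat.gcd 11 r := by
          refine Nat.dvd_gcd ((orderOf_map_dvd _ m).trans h11m) ?_
          have h := P'.card_mul_index
          rw [hP'card, hMcard] at h
          rw [← Nat.eq_of_mul_eq_mul_left (by omega) h]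
          exact orderOf_dvd_natCard _
        rw [(p11.coprime_iff_not_dvd).2 h11r, Nat.dvd_one, orderOf_eq_one_iff] at h1
        exact hm ((QuotientGroup.eq_one_iff m).1 h1)
      refine hvanish hχ hd hdd' q hq (hqr.trans (dvd_mul_left _ _))
        (hcop q hq hqr fun e => h11r (e ▸ hqr))
        (hnb hs q hq (hqr.trans (dvd_mul_left _ _)) (hqr.trans hrd)) _ ?_
      rwa [Subgroup.orderOf_coe]
    obtain ⟨k, hk⟩ := classInner_char_nat
      (isCharacter_restrict M (isCharacter_of_isIrr hχ)) (isCharacter_one (G := M))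
    have hMsum : (d : ℂ) + ∑ y ∈ Q, χ y = (11 * r : ℕ) * (k : ℂ) := by
      have hk' := hk
      rw [classInner_def, inv_mul_eq_iff_eq_mul₀ natCard_ne_zero, hMcard] at hk'
      simp only [map_one, mul_one] at hk'
      rw [← hk']
      have hsub : ∀ m : G, m ∈ P → m ≠ 1 → m ∈ Q := fun m hm hm1 =>
        Finset.mem_filter.2 ⟨Finset.mem_filter.2 ⟨Finset.mem_univ _, hm1, 1, by simpa using hm⟩,
          (hmemH m).1 (hMa (hPM hm))⟩
      have hQ : (Finset.univ.filter fun g : G => g ∈ P).erase 1 = Q := by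
        refine Finset.eq_of_subset_of_card_le (fun m hm => ?_) ?_
        · rw [Finset.mem_erase, Finset.mem_filter] at hm
          exact hsub m hm.2.2 hm.1
        · rw [hY10, Finset.card_erase_of_mem (by simp), ← Nat.subtype_card (p := fun g => g ∈ P) _ (by simp)]
          rw [show Nat.card {g : G // g ∈ P} = 11 from hP]
      have h1 : ∑ m : M, χ (m : G) = ∑ m ∈ Finset.univ.filter (fun g : G => g ∈ P), χ m := by
        rw [← Finset.sum_filter_add_sum_filter_not Finset.univ (fun m : M => m ∈ P'),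
          Finset.sum_eq_zero (s := Finset.univ.filter fun m : M => ¬ m ∈ P')
            (fun m hm => hzero m (Finset.mem_filter.1 hm).2), add_zero]
        exact Finset.sum_bij (fun m _ => (m : G))
          (fun m hm => Finset.mem_filter.2 ⟨Finset.mem_univ _,
            Subgroup.mem_subgroupOf.1 (Finset.mem_filter.1 hm).2⟩)
          (fun _ _ _ _ e => Subtype.ext e)
          (fun g hg => ⟨⟨g, hPM (Finset.mem_filter.1 hg).2⟩, Finset.mem_filter.2 ⟨Finset.mem_univ _,
            Subgroup.mem_subgroupOf.2 (Finset.mem_filter.1 hg).2⟩, rfl⟩) (fun _ _ => rfl)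
      rw [h1, ← Finset.add_sum_erase _ _ (show (1 : G) ∈ _ by simp : (1 : G) ∈
        Finset.univ.filter fun g : G => g ∈ P), hQ, hd]
    obtain ⟨α, rfl⟩ := hrd
    have hα1 : 1 ≤ α := by
      rcases Nat.eq_zero_or_pos α with rfl | h
      · simp at hd0
      · exact h
    have hα10 : α ≤ 10 := by
      by_contra hh
      have : 11 * r ≤ r * α := by rw [mul_comm 11]; exact Nat.mul_le_mul_left r (by omega)
      have : d' = 1 := by omega
      rw [this] at h11d
      exact absurd (Nat.dvd_one.1 h11d) (by omega)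
    have hW : ∑ y ∈ Q, χ y = ((r * (11 * (k : ℤ) - α) : ℤ) : ℂ) := by
      push_cast at hMsum ⊢
      linear_combination hMsum
    have hW' : ∑ y ∈ Q, χ' y = ((10 - r * (11 * (k : ℤ) - α) : ℤ) : ℂ) := by
      push_cast at hW ⊢
      linear_combination hsum - hW
    rw [hW, hW'] at heq
    have he : ((r : ℤ) * (11 * k - α)) ^ 2 * d' + (10 - r * (11 * (k : ℤ) - α)) ^ 2 * ((r : ℤ) * α) =
        100 * ((r : ℤ) * α * d') := by
      apply Int.cast_injective (α := ℂ)
      push_cast at heq ⊢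
      linear_combination heq
    have hd'e : (d' : ℤ) = 11 * r + 1 - r * α := by
      have := congrArg (Nat.cast (R := ℤ)) hs
      push_cast at this
      linarith
    refine no_solution (r := r) (n := (Nat.card Ω : ℤ)) (k := k) (α := α) (by rw [hn]; push_cast; ring)
      (Int.natCast_dvd_natCast.2 h12) (by omega) (by omega) (Int.natCast_nonneg k) (by omega) (by omega) ?_
    rw [hn]; push_cast
    rw [hd'e] at he
    apply mul_left_cancel₀ (show (r : ℤ) ^ 2 ≠ 0 from pow_ne_zero 2 (by omega))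
    linear_combination he
  rcases hside with ⟨h, h'⟩ | ⟨h, h'⟩
  · exact hfin φ₁ φ₂ d₁ d₂ hφ₁ hd₁ hd₁0 hd₂0 hdsum hNdd hπY hYeq h h'
  · refine hfin φ₂ φ₁ d₂ d₁ hφ₂ hd₂ hd₂0 hd₁0 (by omega) (mul_comm d₁ d₂ ▸ hNdd) ?_ ?_ h h'
    · rw [add_comm]; exact hπY
    · rw [mul_comm d₂ d₁, add_comm]; exact hYeq

end Cfsg.Agent.ElevenPairs.LCore
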