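import Cfsg.Agent.Lib.ElevenPairs.LCase.Kernel
import Cfsg.Agent.Lib.ElevenPairs.LCase.Core

/-!
# Linear characters of a member stabiliser

With a kernel on the lines and no further swaps in the class of `j`, every linear character of the
stabiliser of `Q` that is trivial on the torus is trivial.
-/

set_option autoImplicit false

namespace Cfsg.Agent.ElevenPairs

universe u

variable {G : Type u} [Group G] {P : Subgroup G}

/-- For every involution `k` of `K`, the swap `j k` fixes a member. -/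
def SwapsFix (Q R : Mem P) (j : G) : Prop :=
  ∀ k ∈ lineCent Q R, k * k = 1 → k ≠ 1 → ∃ S : Mem P, (j * k) • S = S

theorem exists_conj_mem_iff (Q : Mem P) (y : G) :
    (∃ g : G, g * y * g⁻¹ ∈ Q.1) ↔ ∃ S : Mem P, y ∈ S.1 := by
  constructor
  · rintro ⟨g, hg⟩
    refine ⟨g⁻¹ • Q, ?_⟩
    have h1 := (mem_iff_smul (g := g⁻¹) (x := g * y * g⁻¹)).2 hg
    rwa [show g⁻¹ * (g * y * g⁻¹) * g⁻¹⁻¹ = y by group] at h1
  · rintro ⟨S, hS⟩
    obtain ⟨g, rfl⟩ := exists_smul_eq S Q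
    exact ⟨g, mem_iff_smul.2 hS⟩

namespace Frame

variable {Q R : Mem P} {f j : G} [Finite G]

theorem j_f_pow (fr : Frame P Q R f j) (m : ℕ) : j * f ^ m = (f ^ m)⁻¹ * j := by
  have h : j * f ^ m * j⁻¹ = (f ^ m)⁻¹ := by rw [← conj_pow, fr.j_f, inv_pow]
  rw [← h]; group

theorem isConj_j_f_pow (fr : Frame P Q R f j) (i : ℕ) : IsConj j (j * f ^ i) := by
  refine isConj_iff.2 ⟨f ^ (2 * i), ?_⟩
  have h5 : f ^ (4 * i) * f ^ i = 1 := by
    rw [← pow_add, show 4 * i + i = 5 * i by ring, pow_mul, fr.f_pow_five, one_pow]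
  calc f ^ (2 * i) * j * (f ^ (2 * i))⁻¹ = f ^ (2 * i) * (j * f ^ (2 * i)) * (f ^ (4 * i))⁻¹ := by
        rw [show 4 * i = 2 * i + 2 * i by ring, pow_add]; group
    _ = j * (f ^ (4 * i))⁻¹ := by rw [fr.j_f_pow]; group
    _ = j * f ^ i := by rw [inv_eq_of_mul_eq_one_right h5]

/-- The elements of the class of `j` mapping `Q` to `R`. -/
theorem swap_eq (fr : Frame P Q R f j) (hsw : SwapsFix Q R j) {x : G} (hx : IsConj j x)
    (hQ : x • Q = R) : ∃ i : ℕ, x = j * f ^ i := by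
  have hjj : j * j = 1 := by
    have := pow_orderOf_eq_one j
    rwa [fr.j_order, pow_two] at this
  obtain ⟨g, hg⟩ := isConj_iff.1 hx
  have hxx : x * x = 1 := by
    rw [← hg, show g * j * g⁻¹ * (g * j * g⁻¹) = g * (j * j) * g⁻¹ by group, hjj]; group
  have hfree : ∀ S : Mem P, x • S ≠ S := fun S e => fr.j_free (g⁻¹ • S) (by
    rw [← hg, mul_smul, mul_smul] at e
    exact eq_inv_smul_iff.2 e)
  have hxR : x • R = Q := by rw [← hQ, ← mul_smul, hxx, one_smul]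
  have hA : j * x ∈ twoStab Q R := ⟨show (j * x) • Q = Q by rw [mul_smul, hQ, fr.j_smul_R],
    show (j * x) • R = R by rw [mul_smul, hxR, fr.j_smul_Q]⟩
  obtain ⟨k, hk⟩ := fr.exists_exponent hA.1
  have hxe : x = j * (j * x) := by rw [← mul_assoc, hjj, one_mul]
  by_cases h5 : k ^ 5 ≡ 1 [MOD 11]
  swap
  · obtain ⟨S, -, hS⟩ := fr.j_outer _ hA.1 hA.2 k hk h5
    rw [← hxe] at hS
    exact absurd hS (hfree S)
  obtain ⟨i, hi⟩ := fr.exists_decomp hA hk h5
  refine ⟨i, ?_⟩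
  obtain ⟨c, hc⟩ : ∃ c, c = (f ^ i)⁻¹ * (j * x) := ⟨_, rfl⟩
  rw [← hc] at hi
  have hxc : x = j * f ^ i * c := by
    rw [hc, mul_assoc j, mul_inv_cancel_left, ← mul_assoc, hjj, one_mul]
  have hjj' : j * f ^ i * (j * f ^ i) = 1 := by
    rw [mul_assoc, ← mul_assoc (f ^ i) j (f ^ i), ← mul_assoc j, ← mul_assoc j, fr.j_f_pow,
      mul_assoc _ j j, hjj]
    group
  have hcomm : c * (j * f ^ i) = j * f ^ i * c :=
    fr.K_commute hi (mul_mem fr.j_mem (pow_mem fr.f_mem i))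
  have hcc : c * c = 1 := by
    have e : j * f ^ i * c * (j * f ^ i * c) = c * c := by
      calc j * f ^ i * c * (j * f ^ i * c) = j * f ^ i * (c * (j * f ^ i)) * c := by group
        _ = j * f ^ i * (j * f ^ i) * (c * c) := by rw [hcomm]; group
        _ = c * c := by rw [hjj', one_mul]
    rw [← e, ← hxc, hxx]
  by_cases hc1 : c = 1
  · rw [hxc, hc1, mul_one]
  exfalso
  obtain ⟨S, hS⟩ := hsw c hi hcc hc1
  obtain ⟨g', hg'⟩ := isConj_iff.1 (fr.isConj_j_f_pow i)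
  -- `x` is conjugate to `j c` by a power of the torus
  have hconj : x = f ^ (2 * i) * (j * c) * (f ^ (2 * i))⁻¹ := by
    have h5 : f ^ (4 * i) * f ^ i = 1 := by
      rw [← pow_add, show 4 * i + i = 5 * i by ring, pow_mul, fr.f_pow_five, one_pow]
    have hce : c * (f ^ (2 * i))⁻¹ = (f ^ (2 * i))⁻¹ * c :=
      fr.K_commute hi (inv_mem (pow_mem fr.f_mem _))
    calc x = j * (f ^ (4 * i))⁻¹ * c := by rw [hxc, inv_eq_of_mul_eq_one_right h5]
      _ = f ^ (2 * i) * (j * f ^ (2 * i)) * (f ^ (4 * i))⁻¹ * c := by rw [fr.j_f_pow]; group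
      _ = f ^ (2 * i) * j * ((f ^ (2 * i))⁻¹ * c) := by
        rw [show 4 * i = 2 * i + 2 * i by ring, pow_add]; group
      _ = f ^ (2 * i) * (j * c) * (f ^ (2 * i))⁻¹ := by rw [← hce]; group
  refine hfree (f ^ (2 * i) • S) ?_
  rw [hconj, ← mul_smul, mul_assoc _ (f ^ (2 * i))⁻¹ (f ^ (2 * i)), inv_mul_cancel, mul_one,
    mul_smul, hS]

theorem card_swaps (fr : Frame P Q R f j) (hsw : SwapsFix Q R j) :
    Nat.card {x : G // IsConj j x ∧ x • Q = R} = 5 := by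
  let m : Fin 5 → {x : G // IsConj j x ∧ x • Q = R} := fun i => ⟨j * f ^ i.val, fr.isConj_j_f_pow _,
    by rw [mul_smul, MulAction.mem_stabilizer_iff.1 (pow_mem fr.f_mem_twoStab i.val).1, fr.j_smul_Q]⟩
  have hm : Function.Bijective m := by
    constructor
    · intro a b hab
      have h1 : f ^ a.val = f ^ b.val := mul_left_cancel (congrArg Subtype.val hab)
      have h2 := pow_eq_pow_iff_modEq.1 h1
      rw [fr.f_order] at h2
      exact Fin.ext (h2.eq_of_lt_of_lt a.isLt b.isLt)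
    · rintro ⟨x, hx, hQ⟩
      obtain ⟨i, rfl⟩ := fr.swap_eq hsw hx hQ
      exact ⟨⟨i % 5, Nat.mod_lt _ (by norm_num)⟩,
        Subtype.ext (congrArg (j * ·) (pow_eq_pow_mod i fr.f_pow_five).symm)⟩
  rw [← Nat.card_congr (Equiv.ofBijective m hm), Nat.card_fin]

/-- A nontrivial linear character of the stabiliser of `Q`, trivial on the torus, is impossible. -/
theorem false_of_hom (fr : Frame P Q R f j) (hsw : SwapsFix Q R j) {M : Subgroup G} {r : ℕ}
    (hM : Kernel Q R M r) (Λ : MulAction.stabilizer G Q →* ℂˣ) (hne : Λ ≠ 1)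
    (hΛf : Λ ⟨f, fr.f_smul_Q⟩ = 1) : False := by
  classical
  -- the character is trivial on `Q ⟨f⟩`
  set Z : Subgroup G := Λ.ker.map (MulAction.stabilizer G Q).subtype with hZ
  have hZ1 : ∀ (g : G) (hg : g ∈ (MulAction.stabilizer G Q)), g ∈ Z → Λ ⟨g, hg⟩ = 1 := by
    rintro g hg ⟨w, hw, rfl⟩
    exact hw
  have hQH : Q.1 ≤ (MulAction.stabilizer G Q) := fun q hq => (smul_eq_iff q Q).2 (Subgroup.le_normalizer hq)
  have hQZ : Q.1 ≤ Z := by
    intro q hq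
    refine ⟨⟨q, hQH hq⟩, MonoidHom.mem_ker.2 ?_, rfl⟩
    set l := Λ ⟨q, hQH hq⟩ with hl
    have h5 : l = l ^ 5 := by
      have e : (⟨f, fr.f_smul_Q⟩ : (MulAction.stabilizer G Q)) * ⟨q, hQH hq⟩ * (⟨f, fr.f_smul_Q⟩ : (MulAction.stabilizer G Q))⁻¹ = ⟨q, hQH hq⟩ ^ 5 :=
        Subtype.ext (fr.f_act_Q q hq)
      have := congrArg Λ e
      rwa [map_mul, map_mul, map_inv, hΛf, one_mul, inv_one, mul_one, map_pow] at this
    have h11 : l ^ 11 = 1 := by
      rw [hl, ← map_pow, show (⟨q, hQH hq⟩ : (MulAction.stabilizer G Q)) ^ 11 = 1 from Subtype.ext (by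
        show q ^ 11 = 1
        rw [fr.pow_modEq (show 11 ≡ 0 [MOD 11] from rfl) hq, pow_zero]), map_one]
    have h4 : l ^ 4 = 1 := by
      have := h5.symm
      rw [pow_succ] at this
      exact mul_eq_right.1 this
    calc l = l ^ 1 := (pow_one l).symm
      _ = (l ^ 4) ^ 3 * (l ^ 11)⁻¹ := by rw [← pow_mul, show 4 * 3 = 11 + 1 from rfl, pow_add]; simp [h11]
      _ = 1 := by rw [h4, h11, one_pow, inv_one, mul_one]
  have hfZ : f ∈ Z := ⟨⟨f, fr.f_smul_Q⟩, hΛf, rfl⟩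
  have hfQ : Subgroup.zpowers f ≤ Subgroup.normalizer (Q.1 : Set G) := by
    rw [Subgroup.zpowers_le]
    exact (smul_eq_iff f Q).1 fr.f_smul_Q
  have hdQf : Disjoint Q.1 (Subgroup.zpowers f) := by
    rw [Subgroup.disjoint_def]
    intro x hxQ hxf
    by_contra hx1
    obtain ⟨i, rfl⟩ := fr.exists_pow_of_mem hxf
    exact fr.ne (fr.eq_of_smul_eq hx1 hxQ (MulAction.mem_stabilizer_iff.1
      (pow_mem fr.f_mem_twoStab i).2))
  have hline : ∀ g : G, g ∈ Q.1 ⊔ R.1 → g • Q = Q → g ∈ Z := by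
    intro g hgL hgQ
    have hle : Q.1 ⊔ Subgroup.zpowers f ≤ (MulAction.stabilizer G Q) ⊓ (Q.1 ⊔ R.1) :=
      sup_le (le_inf hQH le_sup_left)
        (Subgroup.zpowers_le.2 ⟨fr.f_smul_Q, fr.f_mem⟩)
    have hcard : Nat.card ↥((MulAction.stabilizer G Q) ⊓ (Q.1 ⊔ R.1)) ≤ Nat.card ↥(Q.1 ⊔ Subgroup.zpowers f) := by
      rw [SylowAb.card_sup hfQ hdQf, fr.mem_card, Nat.card_zpowers, fr.f_order]
      have h55 := fr.card_stab_line fr.ne (S := Q) le_sup_left
      rw [← Nat.card_congr (Subgroup.subgroupOfEquivOfLe (inf_le_right : (MulAction.stabilizer G Q) ⊓ (Q.1 ⊔ R.1) ≤ _)).toEquiv,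
        Subgroup.inf_subgroupOf_right, h55]
    have heq := Subgroup.eq_of_le_of_card_ge hle hcard
    have hg : g ∈ Q.1 ⊔ Subgroup.zpowers f := by rw [heq]; exact ⟨hgQ, hgL⟩
    exact (sup_le hQZ (Subgroup.zpowers_le.2 hfZ)) hg
  obtain ⟨hMC, hQM, hMn, hMcard, hMinv, hMreg, hn, hr1, hcop⟩ := hM
  refine LCore.core_false (Ω := Mem P) fr.perfect fr.ne inferInstance ?_ hn fr.twelve_dvd
    fr.card_mod_five j fr.j_order fr.j_smul_Q fr.j_free (fr.card_swaps hsw) Λ hne ?_ ?_ Q.1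
    (fr.mem_card Q) ?_ ?_ ?_ ?_ M
    (fun x hx => smul_eq_of_mem_centralizer (hMC hx)) hQM hMn hMcard ?_
    (fun q hq hqr _ => hcop q hq hqr) (fun hd => hcop 11 (by norm_num) hd)
  · intro S hS
    obtain ⟨c, hc, hcR⟩ := fr.exists_centralizing fr.ne.symm hS
    exact ⟨c, smul_eq_of_mem_centralizer hc, hcR⟩
  · intro x y hx hxQ hy hyQ hmem
    obtain ⟨a, rfl⟩ := fr.swap_eq hsw hx hxQ
    obtain ⟨b, rfl⟩ := fr.swap_eq hsw hy hyQ
    refine hZ1 _ hmem ?_
    have hjj : j * j = 1 := by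
      have := pow_orderOf_eq_one j
      rwa [fr.j_order, pow_two] at this
    have e : j * f ^ a * (j * f ^ b) = (f ^ a)⁻¹ * f ^ b := by
      rw [fr.j_f_pow, mul_assoc, ← mul_assoc j j, hjj, one_mul]
    rw [e]
    exact mul_mem (inv_mem (pow_mem hfZ a)) (pow_mem hfZ b)
  · intro z hzQ hzR hz'
    obtain ⟨i, hi⟩ := fr.swap_eq hsw (x := z * j * z⁻¹) (isConj_iff.2 ⟨z, rfl⟩) (by
      rw [mul_smul, mul_smul, inv_smul_eq_iff.2 (MulAction.mem_stabilizer_iff.1 hzQ).symm,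
        fr.j_smul_Q, hzR])
    have hjj : j * j = 1 := by
      have := pow_orderOf_eq_one j
      rwa [fr.j_order, pow_two] at this
    have e : j * z * j⁻¹ = f ^ i * z := by
      have h1 : z * j = j * f ^ i * z := by rw [← hi]; group
      rw [fr.j_inv, mul_assoc, h1, ← mul_assoc, ← mul_assoc, hjj, one_mul]
    have hfi : f ^ i ∈ (MulAction.stabilizer G Q) := pow_mem (fr.f_smul_Q : f ∈ (MulAction.stabilizer G Q)) i
    rw [show (⟨j * z * j⁻¹, hz'⟩ : (MulAction.stabilizer G Q)) = ⟨f ^ i, hfi⟩ * ⟨z, hzQ⟩ from Subtype.ext e, map_mul,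
      hZ1 _ hfi (pow_mem hfZ i), one_mul]
  · rw [← fr.card_ne_one Q]
    refine Nat.card_congr (Equiv.ofBijective (fun y => (⟨⟨y.1, ?_⟩, fun e => y.2.1.1
      (congrArg Subtype.val e)⟩ : {z : Q.1 // z ≠ 1})) ⟨fun a b hab => Subtype.ext
        (congrArg (fun z : {z : Q.1 // z ≠ 1} => (z.1 : G)) hab), fun z => ?_⟩)
    · obtain ⟨⟨hy1, hy⟩, hyQ⟩ := y.2
      obtain ⟨S, hS⟩ := (exists_conj_mem_iff Q _).1 hy
      rwa [fr.eq_of_smul_eq hy1 hS hyQ] at hS
    · exact ⟨⟨z.1, ⟨fun e => z.2 (Subtype.ext e), (exists_conj_mem_iff Q _).2 ⟨Q, z.1.2⟩⟩,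
        hQH z.1.2⟩, rfl⟩
  · rw [← fr.card_moving fr.ne.symm]
    exact Nat.card_congr (Equiv.subtypeEquivRight fun y => by
      unfold InMember; rw [exists_conj_mem_iff])
  · intro y hy1 hy
    obtain ⟨S, hS⟩ := (exists_conj_mem_iff Q _).1 hy
    exact ⟨S, (smul_eq_iff y S).2 (Subgroup.le_normalizer hS),
      fun T hT => (fr.eq_of_smul_eq hy1 hS hT).symm⟩
  · intro x y hx1 hx hy1 hy hyQ hmem
    obtain ⟨S, hS⟩ := (exists_conj_mem_iff Q _).1 hy
    obtain ⟨T, hT⟩ := (exists_conj_mem_iff Q _).1 hx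
    refine hZ1 _ hmem ?_
    have hxy : (x * y) • Q = Q := hmem
    rcases hyQ with hyQ | hyQ
    · obtain rfl := fr.eq_of_smul_eq hy1 hS hyQ
      rw [mul_smul, hyQ] at hxy
      obtain rfl := fr.eq_of_smul_eq hx1 hT hxy
      exact hQZ (mul_mem hT hS)
    · refine hline _ (mul_mem ?_ (fr.le_of_moving fr.ne hy1 hS hyQ hS)) hxy
      rw [mul_smul, hyQ] at hxy
      rw [sup_comm]
      exact fr.le_of_moving fr.ne.symm hx1 hT hxy hT
  · intro x hxM hx1 S hS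
    by_contra hSQ
    obtain ⟨c, hc, hcR⟩ := fr.exists_centralizing fr.ne.symm hSQ
    have h1 := hMinv c⁻¹ (smul_eq_of_mem_centralizer (inv_mem hc)) x hxM
    refine hx1 ?_
    have h2 := hMreg _ h1 (by
      rw [inv_inv, mul_smul, mul_smul, hcR, hS, ← hcR, inv_smul_smul])
    rw [inv_inv] at h2
    calc x = c * (c⁻¹ * x * c) * c⁻¹ := by group
      _ = 1 := by rw [h2]; group

end Frame

end Cfsg.Agent.ElevenPairs
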