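import Mathlib

/-!
# An element of order eleven with small centralizer and an automorphism of order five

A chain of invariant 11-subgroups reaches a Sylow subgroup, which is the only one containing the element;
the transfer then gives a homomorphism onto the group of order eleven which is not trivial on it.
-/

set_option autoImplicit false
set_option linter.style.haveILetI false

namespace Cfsg.Agent.ElevenPairs.LChain

open Subgroup
open scoped commutatorElement

universe u

/-- In a `p`-group an element generating modulo the derived group generates. -/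
theorem zpowers_eq_top_of_sup_commutator {G : Type u} [Group G] [Finite G] {p : ℕ} [hp : Fact p.Prime]
    (hG : IsPGroup p G) (x : G) (h : zpowers x ⊔ commutator G = ⊤) : zpowers x = ⊤ := by
  by_contra hne
  obtain ⟨M, hM, hxM⟩ := (eq_top_or_exists_le_coatom (zpowers x)).resolve_left hne
  haveI := hG.isNilpotent
  haveI hMn : M.Normal := (Group.normalizerCondition_of_isNilpotent (G := G)).normal_of_coatom M hM
  obtain ⟨n, hn⟩ := IsPGroup.iff_card.1 hG
  obtain ⟨i, hi, hi'⟩ := (Nat.dvd_prime_pow hp.out).1 (hn ▸ M.card_subgroup_dvd_card)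
  have hlt : i < n := by
    rcases Nat.lt_or_ge i n with h' | h'
    · exact h'
    · exact absurd (Subgroup.eq_top_of_card_eq M (by rw [hi', hn, le_antisymm hi h'])) hM.1
  obtain ⟨K, hK, hMK⟩ := Sylow.exists_subgroup_card_pow_succ (hn ▸ pow_dvd_pow p hlt) hi'
  have hKtop : K = ⊤ := hM.2 K (lt_of_le_of_ne hMK fun e => by
    rw [← e, hi'] at hK
    exact absurd (Nat.pow_right_injective hp.out.two_le hK) (by omega))
  have hQ : Nat.card (G ⧸ M) = p := by
    have h1 := M.card_eq_card_quotient_mul_card_subgroup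
    rw [← card_top (G := G), ← hKtop, hK, hi', pow_succ'] at h1
    exact (Nat.eq_of_mul_eq_mul_right (pow_pos hp.out.pos i) h1).symm
  haveI : IsCyclic (G ⧸ M) := isCyclic_of_prime_card hQ
  have hle : commutator G ≤ M := by
    rw [commutator_def, commutator_le]
    intro a _ b _
    rw [← QuotientGroup.eq_one_iff]
    letI := IsCyclic.commGroup (α := G ⧸ M)
    rw [← QuotientGroup.mk'_apply, map_commutatorElement]
    exact commutatorElement_eq_one_iff_mul_comm.2 (mul_comm _ _)
  exact hM.1 (top_unique (h ▸ sup_le hxM hle))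

theorem exists_hom {Γ : Type u} [Group Γ] [Finite Γ] (φ : MulAut Γ) (hφ : φ ^ 5 = 1) (k : Γ)
    (hk : orderOf k = 11) (hφk : φ k = k)
    (hC : Nat.card (Subgroup.centralizer ({k} : Set Γ)) = 121)
    (hfix : ∀ x ∈ Subgroup.centralizer ({k} : Set Γ), φ x = x → x ∈ Subgroup.zpowers k)
    (hN : Subgroup.normalizer (Subgroup.zpowers k : Set Γ) = Subgroup.centralizer ({k} : Set Γ)) :
    ∃ θ : Γ →* Multiplicative (ZMod 11), θ k ≠ 1 := by
  classical
  haveI := Fintype.ofFinite Γ
  haveI h11 : Fact (Nat.Prime 11) := ⟨by norm_num⟩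
  haveI : Fact (Nat.Prime 5) := ⟨by norm_num⟩
  set W := Subgroup.centralizer ({k} : Set Γ) with hWdef
  have hmemW : ∀ y, y ∈ W ↔ y * k = k * y := fun y => mem_centralizer_singleton_iff
  have hkW : k ∈ W := (hmemW k).2 rfl
  have hzW : zpowers k ≤ W := zpowers_le.2 hkW
  have hzcard : Nat.card (zpowers k) = 11 := by rw [Nat.card_zpowers, hk]
  have hk1 : k ≠ 1 := fun e => by rw [e, orderOf_one] at hk; omega
  haveI hWab : IsMulCommutative W := IsPGroup.isMulCommutative_of_card_eq_prime_sq (p := 11) (by rw [hC]; norm_num)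
  have hWp : IsPGroup 11 W := IsPGroup.of_card (n := 2) (by rw [hC]; norm_num)
  have hφW : ∀ y ∈ W, φ y ∈ W := fun y hy => by
    rw [hmemW, ← hφk, ← map_mul, ← map_mul, (hmemW y).1 hy]
  have hgen : ∀ i : ℕ, ¬ 11 ∣ i → zpowers (k ^ i) = zpowers k := fun i hi => by
    refine Subgroup.eq_of_le_of_card_ge (zpowers_le.2 (pow_mem (mem_zpowers k) i)) ?_
    rw [hzcard, Nat.card_zpowers, (Nat.Coprime.orderOf_pow (by
      rw [hk]; exact (h11.out.coprime_iff_not_dvd).2 hi)), hk]
  -- fixed points
  have hfixU : ∀ U : Subgroup Γ, IsPGroup 11 U → W ≤ U → ∀ x ∈ U, φ x = x → x ∈ zpowers k := by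
    intro U hU hWU x hx hxf
    let F : Subgroup Γ := U ⊓ (φ.toMonoidHom.eqLocus (MonoidHom.id Γ))
    have hF : ∀ y, y ∈ F ↔ y ∈ U ∧ φ y = y := fun y => Iff.rfl
    have hFp : IsPGroup 11 F := hU.to_le inf_le_left
    have hkF : zpowers k ≤ F := zpowers_le.2 ((hF k).2 ⟨hWU hkW, hφk⟩)
    haveI := hFp.isNilpotent
    by_contra hxn
    have hlt : (zpowers k).subgroupOf F < ⊤ := by
      refine lt_top_iff_ne_top.2 fun e => hxn ?_
      exact subgroupOf_eq_top.1 e ((hF x).2 ⟨hx, hxf⟩)
    obtain ⟨y, hy, hyn⟩ := SetLike.exists_of_lt (Group.normalizerCondition_of_isNilpotent (G := F) _ hlt)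
    refine hyn (mem_subgroupOf.2 (hfix _ ?_ ((hF _).1 y.2).2))
    rw [← hN, mem_normalizer_iff]
    intro z
    rw [mem_normalizer_iff] at hy
    constructor
    · intro hz
      exact mem_subgroupOf.1 ((hy ⟨z, hkF hz⟩).1 (mem_subgroupOf.2 hz))
    · intro hz
      have h1 : z ∈ F := by
        have := mul_mem (mul_mem (inv_mem y.2) (hkF hz)) y.2
        simpa [mul_assoc] using this
      exact mem_subgroupOf.1 ((hy ⟨z, h1⟩).2 (mem_subgroupOf.2 hz))
  -- counting in an 11-subgroup containing `W`
  have hbase : ∀ U : Subgroup Γ, IsPGroup 11 U → W ≤ U →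
      Nat.card U = 121 * Nat.card (⁅U, U⁆ : Subgroup Γ) ∧
      (∀ i : ℕ, ¬ 11 ∣ i → k ^ i ∉ ⁅U, U⁆ ∧ ∀ d ∈ ⁅U, U⁆, ∃ u ∈ U, u * k ^ i * u⁻¹ = k ^ i * d) ∧
      (∀ x ∈ U, ∃ y ∈ U, y ∉ zpowers x ⊔ ⁅U, U⁆) := by
    intro U hU hWU
    set D : Subgroup Γ := ⁅U, U⁆ with hDdef
    have hDU : D ≤ U := commutator_le_self U
    have hncyc : ∀ x ∈ U, ¬ U ≤ zpowers x ⊔ D := by
      intro x hx hle
      haveI : Fact (Nat.Prime 11) := h11
      have htop : zpowers (⟨x, hx⟩ : U) ⊔ commutator U = ⊤ := by
        apply Subgroup.map_injective U.subtype_injective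
        rw [Subgroup.map_sup, MonoidHom.map_zpowers, map_subtype_commutator, ← MonoidHom.range_eq_map,
          range_subtype]
        exact le_antisymm (sup_le (zpowers_le.2 hx) hDU) hle
      have hz := zpowers_eq_top_of_sup_commutator hU _ htop
      have hab : ∀ y ∈ U, y ∈ W := fun y hy => by
        obtain ⟨a, ha⟩ := (hz ▸ mem_top (⟨y, hy⟩ : U) : (⟨y, hy⟩ : U) ∈ zpowers (⟨x, hx⟩ : U))
        obtain ⟨b, hb⟩ := (hz ▸ mem_top (⟨k, hWU hkW⟩ : U) : (⟨k, hWU hkW⟩ : U) ∈ zpowers (⟨x, hx⟩ : U))
        have ha' : x ^ a = y := congrArg Subtype.val ha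
        have hb' : x ^ b = k := congrArg Subtype.val hb
        rw [hmemW, ← ha', ← hb', ← zpow_add, ← zpow_add, add_comm]
      have hxW : W = zpowers x := by
        refine le_antisymm (fun y hy => ?_) (zpowers_le.2 (hab x hx))
        obtain ⟨a, ha⟩ := (hz ▸ mem_top (⟨y, hWU hy⟩ : U) : (⟨y, hWU hy⟩ : U) ∈ zpowers (⟨x, hx⟩ : U))
        exact ⟨a, congrArg Subtype.val ha⟩
      -- an automorphism of order five fixing `k` fixes a cyclic group of order 121
      have hox : orderOf x = 121 := by rw [← Nat.card_zpowers, ← hxW, hC]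
      obtain ⟨a, ha⟩ := (mem_powers_iff_mem_zpowers.2 (hxW ▸ hφW x (hab x hx)) :
        φ x ∈ Submonoid.powers x)
      obtain ⟨b, hb⟩ := (mem_powers_iff_mem_zpowers.2 (hxW ▸ hkW) : k ∈ Submonoid.powers x)
      have ha' : φ x = x ^ a := ha.symm
      have hb' : x ^ b = k := hb
      have h1 : x ^ (a * b) = x ^ b := by
        rw [pow_mul, ← ha', ← map_pow, hb', hφk]
      have hpow : ∀ m, (φ ^ m) x = x ^ (a ^ m) := by
        intro m
        induction m with
        | zero => simp
        | succ m ih => rw [pow_succ', MulAut.mul_apply, ih, map_pow, ha', ← pow_mul, ← pow_succ']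
      have h5 := hpow 5
      rw [hφ, MulAut.one_apply] at h5
      have hm5 : a ^ 5 % 121 = 1 := by
        have := (pow_inj_mod (x := x) (n := a ^ 5) (m := 1)).1 (by rw [pow_one]; exact h5.symm)
        rwa [hox] at this
      have hmb : a * b % 121 = b % 121 := by
        have := pow_inj_mod.1 h1
        rwa [hox] at this
      have hb11 : b % 121 ≠ 0 := fun e => hk1 (by rw [← hb', ← pow_mod_orderOf, hox, e, pow_zero])
      have ha11 : a % 11 = 1 := by
        have hz0 : ((a : ZMod 121) - 1) * b = 0 := by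
          rw [sub_mul, one_mul, sub_eq_zero, ← Nat.cast_mul]
          exact (ZMod.natCast_eq_natCast_iff' _ _ _).2 hmb
        have key : ∀ u v : ZMod 121, u * v = 0 → v ≠ 0 → (u.val) % 11 = 0 := by decide +kernel
        have hv : (b : ZMod 121) ≠ 0 := fun e => hb11 (by
          have h := congrArg ZMod.val e
          rw [ZMod.val_natCast, ZMod.val_zero] at h
          exact h)
        have h2 := key _ _ hz0 hv
        have : ((a : ZMod 121) - 1).val % 11 = ((a : ZMod 121).val + 120) % 121 % 11 := by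
          rw [sub_eq_add_neg, ZMod.val_add]; rfl
        rw [this, ZMod.val_natCast] at h2
        omega
      have key2 : ∀ u : ZMod 121, u.val % 11 = 1 → u ^ 5 = 1 → u = 1 := by decide +kernel
      have hu := key2 (a : ZMod 121) (by rw [ZMod.val_natCast]; omega) (by
        rw [← Nat.cast_pow, ← Nat.cast_one]
        exact (ZMod.natCast_eq_natCast_iff' _ _ _).2 hm5)
      have hxa : φ x = x := by
        rw [ha']
        conv_rhs => rw [← pow_one x]
        rw [pow_inj_mod, hox]
        rw [← Nat.cast_one] at hu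
        exact (ZMod.natCast_eq_natCast_iff' _ _ _).1 hu
      have := hfix x (hab x hx) hxa
      have hd := orderOf_dvd_of_pow_eq_one (show x ^ 11 = 1 by
        obtain ⟨c, rfl⟩ := this
        show (k ^ c) ^ 11 = 1
        rw [← zpow_natCast, ← zpow_mul, mul_comm, zpow_mul, zpow_natCast, ← hk, pow_orderOf_eq_one,
          one_zpow])
      rw [hox] at hd
      omega
    have hy' : ∀ x ∈ U, ∃ y ∈ U, y ∉ zpowers x ⊔ D := fun x hx => by
      by_contra hh; push Not at hh; exact hncyc x hx hh
    obtain ⟨n, hn⟩ := IsPGroup.iff_card.1 hU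
    obtain ⟨m, -, hm⟩ := (Nat.dvd_prime_pow h11.out).1 (hn ▸ card_dvd_of_le hDU)
    have hge : 121 * Nat.card D ≤ Nat.card U := by
      by_contra hlt
      obtain ⟨x, hx, hxD⟩ := hy' 1 (one_mem U)
      rw [zpowers_one_eq_bot, bot_sup_eq] at hxD
      apply hncyc x hx
      have hlt' : D < zpowers x ⊔ D := lt_of_le_of_ne le_sup_right fun e => hxD (e ▸
        (le_sup_left : zpowers x ≤ _) (mem_zpowers x))
      have hle' : zpowers x ⊔ D ≤ U := sup_le (zpowers_le.2 hx) hDU
      refine (Subgroup.eq_of_le_of_card_ge hle' ?_).ge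
      obtain ⟨l, -, hl⟩ := (Nat.dvd_prime_pow h11.out).1 (hn ▸ card_dvd_of_le hle')
      have h1 : Nat.card D < Nat.card (zpowers x ⊔ D : Subgroup Γ) :=
        Set.Finite.card_lt_card (Set.toFinite _) hlt'
      rw [hm, hl] at h1
      rw [hm, hn] at hlt
      have hml := (Nat.pow_lt_pow_iff_right (show 1 < 11 by omega)).1 h1
      have hnm : n < m + 2 := (Nat.pow_lt_pow_iff_right (show 1 < 11 by omega)).1 (by
        rw [pow_add]; omega)
      rw [hl, hn]
      exact Nat.pow_le_pow_right (by omega) (by omega)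
    have hsurj : ∀ i : ℕ, ¬ 11 ∣ i →
        Nat.card U = 121 * Nat.card D ∧ ∀ d ∈ D, ∃ u ∈ U, u * k ^ i * u⁻¹ = k ^ i * d := by
      intro i hi
      have hmemD : ∀ u ∈ U, (k ^ i)⁻¹ * (u * k ^ i * u⁻¹) ∈ D := fun u hu => by
        rw [show (k ^ i)⁻¹ * (u * k ^ i * u⁻¹) = ⁅(k ^ i)⁻¹, u⁆ by
          simp [commutatorElement_def, mul_assoc]]
        exact commutator_mem_commutator (inv_mem (pow_mem (hWU hkW) i)) hu
      let f : U → D := fun u => ⟨_, hmemD u u.2⟩
      have hf : ∀ u v : U, f u = f v → (v : Γ)⁻¹ * u ∈ W := fun u v e => by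
        have e1 : (u : Γ) * k ^ i * (u : Γ)⁻¹ = (v : Γ) * k ^ i * (v : Γ)⁻¹ :=
          mul_left_cancel (congrArg Subtype.val e)
        have e2 : (v : Γ)⁻¹ * u * k ^ i = k ^ i * ((v : Γ)⁻¹ * u) := by
          calc (v : Γ)⁻¹ * u * k ^ i = (v : Γ)⁻¹ * ((u : Γ) * k ^ i * (u : Γ)⁻¹) * u := by group
            _ = (v : Γ)⁻¹ * ((v : Γ) * k ^ i * (v : Γ)⁻¹) * u := by rw [e1]
            _ = _ := by group
        obtain ⟨c, hc⟩ := (hgen i hi).ge (mem_zpowers k)
        rw [hmemW, ← (show (k ^ i) ^ c = k from hc)]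
        exact ((show Commute ((v : Γ)⁻¹ * u) (k ^ i) from e2).zpow_right c).eq
      let g : U → D × W := fun u => (f u, ⟨(Function.invFun f (f u) : U).1⁻¹ * u,
        hf u _ (Function.invFun_eq ⟨u, rfl⟩).symm⟩)
      have hg : Function.Injective g := fun u v e => by
        have e1 : f u = f v := congrArg Prod.fst e
        have e2 := congrArg (fun z : D × W => (z.2 : Γ)) e
        simp only [g, e1] at e2
        exact Subtype.ext (mul_left_cancel e2)
      have hbij := (Nat.bijective_iff_injective_and_card g).2 ⟨hg, le_antisymm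
        (Nat.card_le_card_of_injective g hg) (by rw [Nat.card_prod, hC, mul_comm]; exact hge)⟩
      refine ⟨by rw [Nat.card_eq_of_bijective g hbij, Nat.card_prod, hC, mul_comm], fun d hd => ?_⟩
      obtain ⟨u, hu⟩ := hbij.2 (⟨d, hd⟩, 1)
      refine ⟨u, u.2, ?_⟩
      have : (k ^ i)⁻¹ * ((u : Γ) * k ^ i * (u : Γ)⁻¹) = d :=
        congrArg (fun z : D × W => (z.1 : Γ)) hu
      rw [← this, mul_inv_cancel_left]
    refine ⟨(hsurj 1 (by omega)).1, fun i hi => ⟨fun hmem => ?_, (hsurj i hi).2⟩, hy'⟩
    obtain ⟨u, hu, e⟩ := (hsurj i hi).2 _ (inv_mem hmem)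
    rw [mul_inv_cancel, conj_eq_one_iff] at e
    have := hgen i hi
    rw [e, zpowers_one_eq_bot] at this
    rw [← this, card_bot] at hzcard
    omega
  -- invariant subgroups containing `W` inside every Sylow subgroup through `k`
  have hstep : ∀ U : Subgroup Γ, IsPGroup 11 U → W ≤ U → (∀ y ∈ U, φ y ∈ U) →
      Nat.card (normalizer (U : Set Γ)) = Nat.card U ∨
        Nat.card (normalizer (U : Set Γ)) = 11 * Nat.card U := by
    intro U hU hWU hφU
    set Nn := normalizer (U : Set Γ) with hNn
    set D : Subgroup Γ := ⁅U, U⁆ with hDdef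
    obtain ⟨hcard, hclass, -⟩ := hbase U hU hWU
    have hUN : U ≤ Nn := le_normalizer
    have hφN : ∀ y ∈ Nn, φ y ∈ Nn := by
      have hφU' : U.map φ.toMonoidHom = U := Subgroup.eq_of_le_of_card_ge
        (map_le_iff_le_comap.2 hφU) (by rw [card_map_of_injective φ.injective])
      intro y hy
      rw [hNn, mem_normalizer_iff] at hy ⊢
      intro z
      obtain ⟨w, rfl⟩ := φ.surjective z
      rw [← map_inv, ← map_mul, ← map_mul]
      have hiff : ∀ v, φ v ∈ U ↔ v ∈ U := fun v => by
        conv_lhs => rw [← hφU']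
        exact mem_map_iff_mem φ.injective
      rw [hiff, hiff, hy w]
    -- the fixed points of `φ` on invariant subsets of the normaliser
    have hmod : ∀ S : Subgroup Γ, U ≤ S → S ≤ Nn → (∀ y ∈ S, φ y ∈ S) → Nat.card S % 5 = 1 := by
      intro S hUS hSN hφS
      let π : Function.End S := fun y => ⟨φ y, hφS y y.2⟩
      have hπ : π ^ 5 ^ 1 = 1 := by
        have h : ∀ m : ℕ, ∀ y : S, (((π ^ m) y : S) : Γ) = (φ ^ m) y := by
          intro m
          induction m with
          | zero => intro y; rfl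
          | succ m ih =>
            intro y
            rw [pow_succ', pow_succ', MulAut.mul_apply, ← ih y]
            rfl
        funext y
        refine Subtype.ext ?_
        rw [pow_one, h, hφ]
        rfl
      haveI := Fintype.ofFinite S
      have hfp : Nat.card (Function.fixedPoints π) = 11 := by
        have hmemfix : ∀ y : S, y ∈ Function.fixedPoints π ↔ (y : Γ) ∈ zpowers k := by
          intro y
          constructor
          · intro hy
            have hyf : φ y = y := congrArg Subtype.val hy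
            have hkU : (y : Γ) * k * (y : Γ)⁻¹ ∈ U :=
              (mem_normalizer_iff.1 (hSN y.2) k).1 (hWU hkW)
            obtain ⟨c, hc⟩ := hfixU U hU hWU _ hkU (by rw [map_mul, map_mul, map_inv, hyf, hφk])
            refine hfix _ ?_ hyf
            rw [← hN]
            have hmap : (zpowers k).map (MulAut.conj (y : Γ)).toMonoidHom = zpowers k := by
              refine Subgroup.eq_of_le_of_card_ge ?_
                (by rw [card_map_of_injective (MulAut.conj (y : Γ)).injective])
              rw [MonoidHom.map_zpowers, zpowers_le]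
              exact ⟨c, hc⟩
            rw [mem_normalizer_iff]
            intro z
            conv_rhs => rw [← hmap]
            exact (mem_map_iff_mem (f := (MulAut.conj (y : Γ)).toMonoidHom)
              (MulAut.conj (y : Γ)).injective).symm
          · rintro ⟨c, hc⟩
            refine Subtype.ext ?_
            show φ y = y
            rw [← (show k ^ c = (y : Γ) from hc), map_zpow, hφk]
        rw [← hzcard]
        exact Nat.card_congr ((Equiv.subtypeEquivRight hmemfix).trans
          { toFun := fun y => ⟨y.1, y.2⟩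
            invFun := fun z => ⟨⟨z, hUS (hWU (hzW z.2))⟩, z.2⟩
            left_inv := fun y => rfl
            right_inv := fun z => rfl })
      have h := Equiv.Perm.card_fixedPoints_modEq (p := 5) (n := 1) hπ
      rw [← Nat.card_eq_fintype_card, ← Nat.card_eq_fintype_card] at h
      unfold Nat.ModEq at h
      rw [hfp] at h
      omega
    obtain ⟨d, hd⟩ := card_dvd_of_le hUN
    have hd5 : d % 5 = 1 := by
      have h1 := hmod U le_rfl hUN hφU
      have h2 := hmod Nn hUN le_rfl hφN
      rw [hd, Nat.mul_mod, h1] at h2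
      omega
    set U' := U.subgroupOf Nn with hU'
    haveI : U'.Normal := normal_in_normalizer
    have hidx : Nat.card (Nn ⧸ U') = d := by
      have h1 := U'.card_eq_card_quotient_mul_card_subgroup
      rw [Nat.card_congr (subgroupOfEquivOfLe hUN).toEquiv, hd, mul_comm (Nat.card U)] at h1
      exact (Nat.eq_of_mul_eq_mul_right Nat.card_pos h1).symm
    have hd12 : d ≤ 12 := by
      have hDn : ∀ g ∈ Nn, ∀ y, y ∈ D → g * y * g⁻¹ ∈ D := by
        intro g hg y hy
        have hmapU : U.map (MulAut.conj g).toMonoidHom = U := Subgroup.eq_of_le_of_card_ge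
          (by rintro _ ⟨z, hz, rfl⟩; exact (mem_normalizer_iff.1 hg z).1 hz)
          (by rw [card_map_of_injective (MulAut.conj g).injective])
        have := mem_map_of_mem (MulAut.conj g).toMonoidHom hy
        rwa [hDdef, map_commutator, hmapU] at this
      set DU := D.subgroupOf U with hDU'
      have hQ : Nat.card (U ⧸ DU) = 121 := by
        have h1 := DU.card_eq_card_quotient_mul_card_subgroup
        rw [Nat.card_congr (subgroupOfEquivOfLe (commutator_le_self U)).toEquiv, hcard] at h1
        exact (Nat.eq_of_mul_eq_mul_right Nat.card_pos h1).symm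
      have hin : ∀ g : Nn, ∀ i : Fin 10, (g : Γ) * k ^ ((i : ℕ) + 1) * (g : Γ)⁻¹ ∈ U :=
        fun g i => (mem_normalizer_iff.1 g.2 _).1 (pow_mem (hWU hkW) _)
      let f : (Nn ⧸ U') × Fin 10 → {c : U ⧸ DU // c ≠ QuotientGroup.mk (1 : U)} := fun p =>
        ⟨QuotientGroup.mk ⟨_, hin p.1.out p.2⟩, fun e => by
          have h1 := mem_subgroupOf.1 (QuotientGroup.eq.1 e)
          simp only [mul_one, Subgroup.coe_inv, inv_mem_iff] at h1
          have h2 := hDn _ (inv_mem p.1.out.2) _ h1
          exact (hclass ((p.2 : ℕ) + 1) (by have := p.2.2; omega)).1 (by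
            simpa [mul_assoc] using h2)⟩
      have hf : Function.Injective f := by
        rintro ⟨c, i⟩ ⟨c', i'⟩ e
        have h0 := QuotientGroup.eq.1 (congrArg Subtype.val e)
        have h1 := mem_subgroupOf.1 h0
        simp only [Subgroup.coe_mul, Subgroup.coe_inv] at h1
        set g : Γ := ((c.out : Nn) : Γ) with hg
        set g' : Γ := ((c'.out : Nn) : Γ) with hg'
        have h2 := hDn g⁻¹ (inv_mem c.out.2) _ h1
        have h3 : (k ^ ((i : ℕ) + 1))⁻¹ * (g⁻¹ * g' * k ^ ((i' : ℕ) + 1) * (g⁻¹ * g')⁻¹) ∈ D := by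
          convert h2 using 1
          group
        obtain ⟨u, hu, hu'⟩ := (hclass _ (show ¬ 11 ∣ (i : ℕ) + 1 by have := i.2; omega)).2 _ h3
        rw [mul_inv_cancel_left] at hu'
        have hnz : u⁻¹ * (g⁻¹ * g') ∈ normalizer (zpowers k : Set Γ) := by
          have hconj : (zpowers k).map (MulAut.conj (u⁻¹ * (g⁻¹ * g'))).toMonoidHom = zpowers k := by
            conv_lhs => rw [← hgen ((i' : ℕ) + 1) (by have := i'.2; omega)]
            rw [MonoidHom.map_zpowers, ← hgen ((i : ℕ) + 1) (by have := i.2; omega)]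
            congr 1
            show u⁻¹ * (g⁻¹ * g') * k ^ ((i' : ℕ) + 1) * (u⁻¹ * (g⁻¹ * g'))⁻¹ = _
            calc u⁻¹ * (g⁻¹ * g') * k ^ ((i' : ℕ) + 1) * (u⁻¹ * (g⁻¹ * g'))⁻¹
                = u⁻¹ * (g⁻¹ * g' * k ^ ((i' : ℕ) + 1) * (g⁻¹ * g')⁻¹) * u := by group
              _ = u⁻¹ * (u * k ^ ((i : ℕ) + 1) * u⁻¹) * u := by rw [hu']
              _ = _ := by group
          rw [mem_normalizer_iff]
          intro z
          conv_rhs => rw [← hconj]
          exact (mem_map_iff_mem (f := (MulAut.conj (u⁻¹ * (g⁻¹ * g'))).toMonoidHom)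
            (MulAut.conj (u⁻¹ * (g⁻¹ * g'))).injective).symm
        rw [hN] at hnz
        have hhU : g⁻¹ * g' ∈ U := by
          have := mul_mem hu (hWU hnz)
          rwa [mul_inv_cancel_left] at this
        have hcc : c = c' := by
          rw [← QuotientGroup.out_eq' c, ← QuotientGroup.out_eq' c']
          exact QuotientGroup.eq.2 (mem_subgroupOf.2 hhU)
        subst hcc
        refine Prod.ext rfl (Fin.ext ?_)
        have h4 : (k ^ ((i : ℕ) + 1))⁻¹ * k ^ ((i' : ℕ) + 1) ∈ D := by
          convert h3 using 1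
          simp [g, g']
        show (i : ℕ) = i'
        by_contra hne
        rcases Nat.lt_or_gt_of_ne hne with hlt | hlt
        · obtain ⟨e', he'⟩ : ∃ e', (i' : ℕ) + 1 = ((i : ℕ) + 1) + e' := ⟨(i' : ℕ) - i, by omega⟩
          rw [he', pow_add k ((i : ℕ) + 1) e', inv_mul_cancel_left] at h4
          exact (hclass e' (by have := i'.2; omega)).1 h4
        · obtain ⟨e', he'⟩ : ∃ e', (i : ℕ) + 1 = ((i' : ℕ) + 1) + e' := ⟨(i : ℕ) - i', by omega⟩
          have h5 := inv_mem h4
          rw [mul_inv_rev, inv_inv, he', pow_add k ((i' : ℕ) + 1) e', inv_mul_cancel_left] at h5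
          exact (hclass e' (by have := i.2; omega)).1 h5
      have h := Nat.card_le_card_of_injective f hf
      have h120 : Nat.card {c : U ⧸ DU // c ≠ QuotientGroup.mk (1 : U)} = 120 := by
        haveI := Fintype.ofFinite (U ⧸ DU)
        rw [Nat.card_eq_fintype_card, Fintype.card_subtype, Finset.filter_ne', Finset.card_erase_of_mem
          (Finset.mem_univ _), Finset.card_univ, ← Nat.card_eq_fintype_card, hQ]
      rw [h120, Nat.card_prod, hidx, Nat.card_fin] at h
      omega
    have hd0 : d ≠ 0 := fun e => by rw [e, mul_zero] at hd; exact absurd hd Nat.card_pos.ne'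
    rcases (show d = 1 ∨ d = 6 ∨ d = 11 by omega) with rfl | rfl | rfl
    · exact Or.inl (by rw [hd, mul_one])
    · exfalso
      haveI : Fact (Nat.Prime 3) := ⟨by norm_num⟩
      obtain ⟨s, hs⟩ := exists_prime_orderOf_dvd_card' (G := Nn ⧸ U') 3 (by rw [hidx]; norm_num)
      set T := (zpowers s) with hT
      have hTidx : T.index = 2 := by
        have h1 := T.card_mul_index
        rw [hT, Nat.card_zpowers, hs, hidx] at h1
        rw [hT]; omega
      set S := (T.comap (QuotientGroup.mk' U')).map Nn.subtype with hS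
      have hmem : ∀ y : Γ, y ∈ S ↔ y ∈ Nn ∧ y ^ (3 * Nat.card U) = 1 := by
        intro y
        constructor
        · rintro ⟨z, hz, rfl⟩
          refine ⟨z.2, ?_⟩
          have h3 : (z ^ 3 : Nn) ∈ U' := by
            rw [← QuotientGroup.eq_one_iff, QuotientGroup.mk_pow]
            have h := pow_card_eq_one' (x := (⟨_, hz⟩ : T))
            rw [show Nat.card T = 3 from (Nat.card_zpowers s).trans hs] at h
            exact congrArg Subtype.val h
          have h := pow_card_eq_one' (x := (⟨_, mem_subgroupOf.1 h3⟩ : U))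
          rw [pow_mul]
          exact congrArg Subtype.val h
        · rintro ⟨hyN, hy⟩
          refine ⟨⟨y, hyN⟩, mem_comap.2 ?_, rfl⟩
          set c := QuotientGroup.mk' U' ⟨y, hyN⟩ with hc
          have hco : orderOf c ∣ Nat.gcd 6 (3 * Nat.card U) := by
            refine Nat.dvd_gcd (hidx ▸ orderOf_dvd_natCard c) (orderOf_dvd_of_pow_eq_one ?_)
            rw [hc, ← map_pow, show (⟨y, hyN⟩ : Nn) ^ (3 * Nat.card U) = 1 from Subtype.ext hy, map_one]
          have hg3 : Nat.gcd 6 (3 * Nat.card U) = 3 := by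
            obtain ⟨n, hn⟩ := IsPGroup.iff_card.1 hU
            rw [show (6 : ℕ) = 3 * 2 from rfl, Nat.gcd_mul_left, hn,
              (Nat.Coprime.pow_right n (by norm_num : Nat.Coprime 2 11)), mul_one]
          rw [hg3] at hco
          have h3 : c ^ 3 = 1 := orderOf_dvd_iff_pow_eq_one.1 hco
          have h2 : c * c ∈ T := mul_self_mem_of_index_two hTidx c
          have : c = c ^ 3 * (c * c)⁻¹ := by group
          rw [this, h3, one_mul]
          exact inv_mem h2
      have h1 := hmod S (fun y hy => (hmem y).2 ⟨hUN hy, by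
          have h := pow_card_eq_one' (x := (⟨y, hy⟩ : U))
          rw [mul_comm, pow_mul, show y ^ Nat.card U = 1 from congrArg Subtype.val h, one_pow]⟩)
        (fun y hy => ((hmem y).1 hy).1)
        (fun y hy => (hmem _).2 ⟨hφN y ((hmem y).1 hy).1, by
          rw [← map_pow, ((hmem y).1 hy).2, map_one]⟩)
      have h2 : Nat.card S = 3 * Nat.card U := by
        rw [hS, card_map_of_injective Nn.subtype_injective]
        have h := (T.comap (QuotientGroup.mk' U')).card_mul_index
        rw [index_comap_of_surjective _ (QuotientGroup.mk'_surjective U'), hTidx, hd] at h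
        omega
      have h3 := hmod U le_rfl hUN hφU
      rw [h2, Nat.mul_mod, h3] at h1
      omega
    · exact Or.inr (by rw [hd, mul_comm])
  -- the maximal member of the chain
  let Good : Subgroup Γ → Prop := fun U => IsPGroup 11 U ∧ W ≤ U ∧ (∀ y ∈ U, φ y ∈ U) ∧
    ∀ S : Sylow 11 Γ, k ∈ (S : Subgroup Γ) → U ≤ S
  have hWgood : Good W := by
    refine ⟨hWp, le_rfl, hφW, fun S hkS => ?_⟩
    obtain ⟨S', hS'⟩ := hWp.exists_le_sylow
    haveI : Nontrivial (S : Subgroup Γ) := by
      rw [nontrivial_iff_ne_bot]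
      exact fun e => hk1 (mem_bot.1 (e ▸ hkS))
    haveI := S.isPGroup'.center_nontrivial
    obtain ⟨z, hz⟩ := exists_ne (1 : Subgroup.center (S : Subgroup Γ))
    have hzS : ((z : (S : Subgroup Γ)) : Γ) ∈ (S : Subgroup Γ) := (z : (S : Subgroup Γ)).2
    have hzW' : ((z : (S : Subgroup Γ)) : Γ) ∈ W := by
      rw [hmemW]
      exact congrArg Subtype.val (mem_center_iff.1 z.2 ⟨k, hkS⟩).symm
    by_cases hzk : ((z : (S : Subgroup Γ)) : Γ) ∈ zpowers k
    · have hzeq : zpowers ((z : (S : Subgroup Γ)) : Γ) = zpowers k := by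
        refine Subgroup.eq_of_le_of_card_ge (zpowers_le.2 hzk) ?_
        have hne : ((z : (S : Subgroup Γ)) : Γ) ≠ 1 := fun e => hz (Subtype.ext (Subtype.ext e))
        have hd := orderOf_dvd_natCard (⟨_, hzk⟩ : zpowers k)
        rw [hzcard, Subgroup.orderOf_mk] at hd
        rw [hzcard, Nat.card_zpowers]
        rcases (Nat.dvd_prime h11.out).1 hd with e | e
        · exact absurd (orderOf_eq_one_iff.1 e) hne
        · omega
      have hSW : (S : Subgroup Γ) ≤ W := fun y hy => by
        obtain ⟨c, hc⟩ := hzeq.ge (mem_zpowers k)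
        rw [hmemW, ← (show ((z : (S : Subgroup Γ)) : Γ) ^ c = k from hc)]
        exact ((show Commute y ((z : (S : Subgroup Γ)) : Γ) from
          congrArg Subtype.val (mem_center_iff.1 z.2 ⟨y, hy⟩)).zpow_right c).eq
      have hcard : Nat.card W ≤ Nat.card S := by
        have h := card_le_of_le hS'
        rwa [Sylow.card_eq_multiplicity, ← Sylow.card_eq_multiplicity S] at h
      exact (Subgroup.eq_of_le_of_card_ge hSW hcard).ge
    · have hlt : zpowers k < W ⊓ S := lt_of_le_of_ne
        (le_inf hzW (zpowers_le.2 hkS)) fun e => hzk (e ▸ ⟨hzW', hzS⟩)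
      have hcl : 11 < Nat.card (W ⊓ (S : Subgroup Γ) : Subgroup Γ) := by
        exact lt_of_eq_of_lt hzcard.symm (Set.Finite.card_lt_card (Set.toFinite _) hlt)
      obtain ⟨i, hi, hi'⟩ := (Nat.dvd_prime_pow h11.out).1 (show
        Nat.card (W ⊓ (S : Subgroup Γ) : Subgroup Γ) ∣ 11 ^ 2 by
          have := card_dvd_of_le (inf_le_left : W ⊓ (S : Subgroup Γ) ≤ W)
          rw [hC] at this; exact this)
      have : W ⊓ (S : Subgroup Γ) = W := Subgroup.eq_of_le_of_card_ge inf_le_left (by
        rw [hC]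
        rcases (show i = 0 ∨ i = 1 ∨ i = 2 by omega) with rfl | rfl | rfl <;> omega)
      exact inf_eq_left.1 this
  obtain ⟨U, hUg, hUmax⟩ : ∃ U, Good U ∧ ∀ V, Good V → Nat.card V ≤ Nat.card U := by
    obtain ⟨U, hU, hU'⟩ := Finset.exists_max_image (Finset.univ.filter Good)
      (fun V : Subgroup Γ => Nat.card V) ⟨W, Finset.mem_filter.2 ⟨Finset.mem_univ _, hWgood⟩⟩
    exact ⟨U, (Finset.mem_filter.1 hU).2, fun V hV => hU' V (Finset.mem_filter.2 ⟨Finset.mem_univ _, hV⟩)⟩
  obtain ⟨hUp, hWU, hφU, hUS⟩ := hUg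
  have hnorm_proper : ∀ S : Sylow 11 Γ, U ≤ (S : Subgroup Γ) → U ≠ S →
      Nat.card U < Nat.card (normalizer (U : Set Γ) ⊓ S : Subgroup Γ) := by
    intro S hle hne
    haveI := S.isPGroup'.isNilpotent
    have hlt : U.subgroupOf S < ⊤ := lt_top_iff_ne_top.2 fun e =>
      hne (le_antisymm hle (subgroupOf_eq_top.1 e))
    obtain ⟨y, hy, hyn⟩ := SetLike.exists_of_lt
      (Group.normalizerCondition_of_isNilpotent (G := (S : Subgroup Γ)) _ hlt)
    refine Set.Finite.card_lt_card (Set.toFinite _) (lt_of_le_of_ne (le_inf le_normalizer hle) fun e => ?_)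
    refine hyn (mem_subgroupOf.2 (e.ge (mem_inf.2 ⟨?_, y.2⟩)))
    rw [mem_normalizer_iff] at hy ⊢
    intro z
    constructor
    · intro hz
      exact mem_subgroupOf.1 ((hy ⟨z, hle hz⟩).1 (mem_subgroupOf.2 hz))
    · intro hz
      have h1 : z ∈ (S : Subgroup Γ) := by
        have := mul_mem (mul_mem (inv_mem y.2) (hle hz)) y.2
        simpa [mul_assoc] using this
      exact mem_subgroupOf.1 ((hy ⟨z, h1⟩).2 (mem_subgroupOf.2 hz))
  have hself : normalizer (U : Set Γ) = U := by
    rcases hstep U hUp hWU hφU with h | h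
    · exact (Subgroup.eq_of_le_of_card_ge le_normalizer h.le).symm
    exfalso
    obtain ⟨n, hn⟩ := IsPGroup.iff_card.1 hUp
    have hgood : Good (normalizer (U : Set Γ)) := by
      refine ⟨IsPGroup.of_card (n := n + 1) (by rw [h, hn, pow_succ']), hWU.trans le_normalizer, ?_, ?_⟩
      · intro y hy
        rw [mem_normalizer_iff] at hy ⊢
        have hφU' : U.map φ.toMonoidHom = U := Subgroup.eq_of_le_of_card_ge
          (map_le_iff_le_comap.2 hφU) (by rw [card_map_of_injective φ.injective])
        intro z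
        obtain ⟨w, rfl⟩ := φ.surjective z
        rw [← map_inv, ← map_mul, ← map_mul]
        have hiff : ∀ v, φ v ∈ U ↔ v ∈ U := fun v => by
          conv_lhs => rw [← hφU']
          exact mem_map_iff_mem φ.injective
        rw [hiff, hiff, hy w]
      · intro S hkS
        have hne : U ≠ S := fun e => by
          obtain ⟨S', hS'⟩ := (IsPGroup.of_card (p := 11) (n := n + 1)
            (G := normalizer (U : Set Γ)) (by rw [h, hn, pow_succ'])).exists_le_sylow
          have h1 := card_le_of_le hS'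
          rw [Sylow.card_eq_multiplicity, ← Sylow.card_eq_multiplicity S, h, ← e] at h1
          have := Nat.card_pos (α := U)
          omega
        have h1 := hnorm_proper S (hUS S hkS) hne
        obtain ⟨i, hi, hi'⟩ := (Nat.dvd_prime_pow h11.out).1 (show
          Nat.card (normalizer (U : Set Γ) ⊓ S : Subgroup Γ) ∣ 11 ^ (n + 1) by
            have := card_dvd_of_le (inf_le_left : normalizer (U : Set Γ) ⊓ S ≤ normalizer (U : Set Γ))
            rw [h, hn] at this
            rwa [pow_succ'])
        rw [hn, hi', Nat.pow_lt_pow_iff_right (show 1 < 11 by omega)] at h1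
        have heq : normalizer (U : Set Γ) ⊓ S = normalizer (U : Set Γ) :=
          Subgroup.eq_of_le_of_card_ge inf_le_left (by
            rw [h, hn, hi', show i = n + 1 by omega, pow_succ'])
        exact inf_eq_left.1 heq
    have := hUmax _ hgood
    rw [h] at this
    have := Nat.card_pos (α := U)
    omega
  have honly : ∀ S : Sylow 11 Γ, k ∈ (S : Subgroup Γ) → (S : Subgroup Γ) = U := by
    intro S hkS
    by_contra hne
    have h := hnorm_proper S (hUS S hkS) (Ne.symm hne)
    rw [hself] at h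
    exact absurd (card_le_of_le (inf_le_left : U ⊓ (S : Subgroup Γ) ≤ U)) (not_le.2 h)
  obtain ⟨S₀, hS₀⟩ := hUp.exists_le_sylow
  have hS₀U : (S₀ : Subgroup Γ) = U := honly S₀ (hS₀ (hWU hkW))
  -- a homomorphism on `U` and its transfer
  obtain ⟨hcard, hclass, hcyc⟩ := hbase U hUp hWU
  set DU := (⁅U, U⁆ : Subgroup Γ).subgroupOf U with hDU
  haveI : DU.Normal := by
    rw [hDU, normal_subgroupOf_iff_le_normalizer (commutator_le_self U)]
    intro g hg
    rw [mem_normalizer_iff]
    intro y
    have hmapU : U.map (MulAut.conj g).toMonoidHom = U := Subgroup.eq_of_le_of_card_ge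
      (by rintro _ ⟨z, hz, rfl⟩; exact mul_mem (mul_mem hg hz) (inv_mem hg))
      (by rw [card_map_of_injective (MulAut.conj g).injective])
    have hmapD : (⁅U, U⁆ : Subgroup Γ).map (MulAut.conj g).toMonoidHom = ⁅U, U⁆ := by
      rw [map_commutator, hmapU]
    conv_rhs => rw [← hmapD]
    exact (mem_map_iff_mem (f := (MulAut.conj g).toMonoidHom) (MulAut.conj g).injective).symm
  have hQ : Nat.card (U ⧸ DU) = 121 := by
    have h1 := DU.card_eq_card_quotient_mul_card_subgroup
    rw [Nat.card_congr (subgroupOfEquivOfLe (commutator_le_self U)).toEquiv, hcard] at h1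
    exact (Nat.eq_of_mul_eq_mul_right Nat.card_pos h1).symm
  haveI hQab : IsMulCommutative (U ⧸ DU) :=
    IsPGroup.isMulCommutative_of_card_eq_prime_sq (p := 11) (by rw [hQ]; norm_num)
  set kb : U ⧸ DU := QuotientGroup.mk ⟨k, hWU hkW⟩ with hkb
  have hkb1 : kb ≠ 1 := fun e => by
    have := (hclass 1 (by omega)).1
    rw [pow_one] at this
    exact this (mem_subgroupOf.1 ((QuotientGroup.eq_one_iff _).1 e))
  have hko : orderOf kb = 11 := by
    refine orderOf_eq_prime ?_ hkb1
    rw [hkb, ← QuotientGroup.mk_pow, show (⟨k, hWU hkW⟩ : U) ^ 11 = 1 from Subtype.ext (by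
      show k ^ 11 = 1; rw [← hk, pow_orderOf_eq_one]), QuotientGroup.mk_one]
  obtain ⟨zb, hzb, hzo⟩ : ∃ zb : U ⧸ DU, zb ∉ zpowers kb ∧ orderOf zb = 11 := by
    have hne : zpowers kb ≠ ⊤ := fun e => by
      have h := congrArg (fun X : Subgroup (U ⧸ DU) => Nat.card X) e
      simp only [Nat.card_zpowers, hko, card_top, hQ] at h
      omega
    obtain ⟨zb, hzb⟩ : ∃ zb, zb ∉ zpowers kb := by
      by_contra hh; push Not at hh; exact hne (eq_top_iff.2 fun y _ => hh y)
    refine ⟨zb, hzb, ?_⟩
    obtain ⟨i, hi, hi'⟩ := (Nat.dvd_prime_pow h11.out).1 (show orderOf zb ∣ 11 ^ 2 by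
      have := orderOf_dvd_natCard zb
      rw [hQ] at this; exact this)
    rcases (show i = 0 ∨ i = 1 ∨ i = 2 by omega) with rfl | rfl | rfl
    · exact absurd (orderOf_eq_one_iff.1 (by simpa using hi')) (fun e => hzb (by rw [e]; exact one_mem _))
    · simpa using hi'
    · exfalso
      obtain ⟨z, rfl⟩ := QuotientGroup.mk'_surjective DU zb
      obtain ⟨y, hy, hyn⟩ := hcyc z z.2
      apply hyn
      have htop : zpowers (QuotientGroup.mk' DU z) = ⊤ :=
        Subgroup.eq_top_of_card_eq _ (by rw [Nat.card_zpowers, hi', hQ]; norm_num)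
      obtain ⟨c, hc⟩ := (htop ▸ mem_top (QuotientGroup.mk' DU ⟨y, hy⟩) :
        QuotientGroup.mk' DU ⟨y, hy⟩ ∈ zpowers (QuotientGroup.mk' DU z))
      have h1 : (z : Γ) ^ (-c) * y ∈ (⁅U, U⁆ : Subgroup Γ) := by
        have hc' : ((z ^ c : U) : U ⧸ DU) = ((⟨y, hy⟩ : U) : U ⧸ DU) := by
          rw [QuotientGroup.mk_zpow]; exact hc
        have := mem_subgroupOf.1 (QuotientGroup.eq.1 hc')
        simpa [zpow_neg] using this
      have h2 : y = (z : Γ) ^ c * ((z : Γ) ^ (-c) * y) := by group
      rw [h2]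
      exact mul_mem (mem_sup_left (zpow_mem (mem_zpowers _) c)) (mem_sup_right h1)
  set L := zpowers zb with hL
  haveI : L.Normal := ⟨fun n hn g => by rwa [hQab.is_comm.comm g n, mul_inv_cancel_right]⟩
  have hkL : kb ∉ L := fun hmem => hzb (by
    rw [Subgroup.eq_of_le_of_card_ge (zpowers_le.2 hmem) (by
      rw [Nat.card_zpowers, Nat.card_zpowers, hko, hzo])]
    exact mem_zpowers zb)
  have hQL : Nat.card ((U ⧸ DU) ⧸ L) = 11 := by
    have h1 := L.card_eq_card_quotient_mul_card_subgroup
    rw [hQ, hL, Nat.card_zpowers, hzo] at h1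
    rw [hL]; omega
  let e : ((U ⧸ DU) ⧸ L) ≃* Multiplicative (ZMod 11) := mulEquivOfPrimeCardEq (p := 11) hQL (by simp)
  let θ₀ : U →* Multiplicative (ZMod 11) :=
    e.toMonoidHom.comp ((QuotientGroup.mk' L).comp (QuotientGroup.mk' DU))
  have hθ₀ : θ₀ ⟨k, hWU hkW⟩ ≠ 1 := fun h => hkL ((QuotientGroup.eq_one_iff _).1 (by
    exact (map_eq_one_iff e e.injective).1 h))
  refine ⟨MonoidHom.transfer θ₀, ?_⟩
  haveI := Fintype.ofFinite (Quotient (MulAction.orbitRel (zpowers k) (Γ ⧸ U)))
  rw [MonoidHom.transfer_eq_prod_quotient_orbitRel_zpowers_quot]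
  have hfix1 : ∀ c : Γ ⧸ U, k • c = c → c = ((1 : Γ) : Γ ⧸ U) := by
    intro c hc
    induction c using QuotientGroup.induction_on with
    | _ y =>
      have h1 : y⁻¹ * k⁻¹ * y ∈ U := by
        have := QuotientGroup.eq.1 hc
        simpa [mul_assoc] using this
      have h2 : y⁻¹ * k * y ∈ U := by
        have := inv_mem h1
        simpa [mul_assoc] using this
      have hkS : k ∈ ((y • S₀ : Sylow 11 Γ) : Subgroup Γ) := by
        rw [Sylow.coe_subgroup_smul, Subgroup.mem_pointwise_smul_iff_inv_smul_mem]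
        rw [← map_inv, MulAut.smul_def, hS₀U]
        simpa using h2
      have h3 := honly _ hkS
      have hyU : y ∈ U := by
        rw [← hself, mem_normalizer_iff]
        intro z
        constructor
        · intro hz
          rw [← h3, Sylow.coe_subgroup_smul, Subgroup.mem_pointwise_smul_iff_inv_smul_mem]
          rw [← map_inv, MulAut.smul_def, hS₀U]
          simpa [mul_assoc] using hz
        · intro hz
          rw [← h3, Sylow.coe_subgroup_smul, Subgroup.mem_pointwise_smul_iff_inv_smul_mem] at hz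
          rw [← map_inv, MulAut.smul_def, hS₀U] at hz
          simpa [mul_assoc] using hz
      exact QuotientGroup.eq.2 (by simpa using inv_mem hyU)
  set q₀ : Quotient (MulAction.orbitRel (zpowers k) (Γ ⧸ U)) := Quotient.mk'' ((1 : Γ) : Γ ⧸ U)
  have hper : ∀ q : Quotient (MulAction.orbitRel (zpowers k) (Γ ⧸ U)),
      Function.minimalPeriod (k • ·) q.out = 1 ∨ Function.minimalPeriod (k • ·) q.out = 11 := by
    intro q
    refine (Nat.dvd_prime h11.out).1 ?_
    apply Function.IsPeriodicPt.minimalPeriod_dvd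
    show (k • ·)^[11] q.out = q.out
    rw [smul_iterate, ← hk, pow_orderOf_eq_one]
    exact one_smul _ _
  have hout : q₀.out = ((1 : Γ) : Γ ⧸ U) := by
    obtain ⟨⟨g, c, rfl⟩, hg⟩ := Quotient.mk_out (s := MulAction.orbitRel (zpowers k) (Γ ⧸ U))
      ((1 : Γ) : Γ ⧸ U)
    refine hg.symm.trans (QuotientGroup.eq.2 ?_)
    show (k ^ c * 1)⁻¹ * 1 ∈ U
    simpa using zpow_mem (hWU hkW) c
  rw [Finset.prod_eq_single q₀ ?_ (by simp)]
  · have hper0 : Function.minimalPeriod (k • ·) q₀.out = 1 := by
      rw [Function.minimalPeriod_eq_one_iff_isFixedPt]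
      show k • q₀.out = q₀.out
      rw [hout]
      exact QuotientGroup.eq.2 (by simpa using inv_mem (hWU hkW))
    have hu : q₀.out.out ∈ U := by
      have h1 := QuotientGroup.out_eq' q₀.out
      rw [hout] at h1 ⊢
      have := QuotientGroup.eq.1 h1
      simpa using this
    intro h
    apply hθ₀
    rw [← h]
    have hval : (⟨q₀.out.out⁻¹ * k ^ Function.minimalPeriod (k • ·) q₀.out * q₀.out.out,
        QuotientGroup.out_conj_pow_minimalPeriod_mem U k q₀.out⟩ : U) =
        (⟨_, hu⟩ : U)⁻¹ * ⟨k, hWU hkW⟩ * ⟨_, hu⟩ := Subtype.ext (by simp [hper0])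
    rw [hval, map_mul, map_mul, map_inv, mul_comm (θ₀ ⟨_, hu⟩)⁻¹, mul_assoc, inv_mul_cancel, mul_one]
  · intro q _ hq
    have h11' : Function.minimalPeriod (k • ·) q.out = 11 := (hper q).resolve_left fun h1 => hq (by
      rw [Function.minimalPeriod_eq_one_iff_isFixedPt] at h1
      rw [← Quotient.out_eq' q, hfix1 _ h1])
    have hval : (⟨q.out.out⁻¹ * k ^ Function.minimalPeriod (k • ·) q.out * q.out.out,
        QuotientGroup.out_conj_pow_minimalPeriod_mem U k q.out⟩ : U) = 1 := Subtype.ext (by
      show q.out.out⁻¹ * k ^ Function.minimalPeriod (k • ·) q.out * q.out.out = 1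
      rw [h11', ← hk, pow_orderOf_eq_one, mul_one, inv_mul_cancel])
    rw [hval, map_one]

end Cfsg.Agent.ElevenPairs.LChain
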