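import Cfsg.Agent.Lib.ElevenPairs.LCase.Odd

/-!
# An involution centralises two members

Counting the involutions centralising a member gives exactly 672 members and the swap condition;
then `K` acts faithfully on a cyclic kernel of order 671, so is abelian.
-/

set_option autoImplicit false
set_option linter.style.haveILetI false

namespace Cfsg.Agent.ElevenPairs

open Subgroup
open scoped Pointwise commutatorElement

universe u

variable {G : Type u} [Group G] {P : Subgroup G}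

/-- An involution centralising a member and fixing another. -/
def Cen (P : Subgroup G) (x : G) : Prop :=
  x * x = 1 ∧ x ≠ 1 ∧ ∃ S T : Mem P, S ≠ T ∧ x ∈ centralizer (S.1 : Set G) ∧ x • T = T

theorem Cen.conj {x : G} (h : Cen P x) (g : G) : Cen P (g * x * g⁻¹) := by
  obtain ⟨h2, h1, S, T, hne, hS, hT⟩ := h
  refine ⟨by rw [conj_mul, h2, mul_one, mul_inv_cancel], fun e => h1 (conj_eq_one_iff.1 e), g • S,
    g • T, fun e => hne (MulAction.injective g e), mem_centralizer_smul hS, ?_⟩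
  rw [mul_smul, mul_smul, inv_smul_smul, hT]

/-- Conjugation on the members of `Cen` with a property. -/
def cenEquiv (g : G) (p q : G → Prop) (hpq : ∀ x, p x ↔ q (g * x * g⁻¹)) :
    {x : G // Cen P x ∧ p x} ≃ {x : G // Cen P x ∧ q x} where
  toFun x := ⟨g * x * g⁻¹, x.2.1.conj g, (hpq x).1 x.2.2⟩
  invFun x := ⟨g⁻¹ * x * g, by simpa using x.2.1.conj g⁻¹, (hpq _).2 (by
    rw [show g * (g⁻¹ * (x : G) * g) * g⁻¹ = x by group]; exact x.2.2)⟩
  left_inv x := Subtype.ext (by group)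
  right_inv x := Subtype.ext (by group)

namespace Frame

variable {Q R : Mem P} {f j : G} [Finite G]

theorem cen_mem_K (fr : Frame P Q R f j) {x : G} (hx : Cen P x) (hQ : x • Q = Q) (hR : x • R = R) :
    x ∈ lineCent Q R :=
  let ⟨_, _, _, _, _, hS, _⟩ := hx
  fr.K_iff.2 ⟨fr.fixed_centralizes hS hQ, hR⟩

theorem cen_of_mem_K (fr : Frame P Q R f j) {x : G} (hx : x ∈ lineCent Q R) (h2 : x * x = 1)
    (h1 : x ≠ 1) : Cen P x :=
  ⟨h2, h1, Q, R, fr.ne, (fr.K_iff.1 hx).1, (fr.K_iff.1 hx).2⟩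

theorem card_fix_of_cen (fr : Frame P Q R f j) {x : G} (hx : Cen P x) :
    Nat.card {S : Mem P // x • S = S} = 12 := by
  obtain ⟨h2, h1, S, T, hne, hS, hT⟩ := hx
  obtain ⟨g, hgQ, hgR⟩ := fr.exists_pair_smul hne
  have hy : g⁻¹ * x * g ∈ lineCent Q R :=
    fr.cen_mem_K (by simpa using (Cen.conj ⟨h2, h1, S, T, hne, hS, hT⟩ g⁻¹ : Cen P _))
      (by rw [mul_smul, mul_smul, hgQ, smul_eq_of_mem_centralizer hS, ← hgQ, inv_smul_smul])
      (by rw [mul_smul, mul_smul, hgR, hT, ← hgR, inv_smul_smul])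
  have hy1 : g⁻¹ * x * g ≠ 1 := fun e => h1 (by
    rw [show x = g * (g⁻¹ * x * g) * g⁻¹ by group, e, mul_one, mul_inv_cancel])
  have hiff : ∀ U : Mem P, (g⁻¹ * x * g) • U = U ↔ x • (g • U) = g • U := fun U => by
    rw [mul_smul, mul_smul, inv_smul_eq_iff]
  rw [← fr.card_line fr.ne]
  exact (Nat.card_congr
    { toFun := fun U => (⟨g • U.1, (hiff U.1).1 (fr.K_smul hy U.2)⟩ : {S : Mem P // x • S = S})
      invFun := fun U => ⟨g⁻¹ • U.1, fr.K_fixed hy hy1 ((hiff _).2 (by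
        rw [smul_inv_smul]; exact U.2))⟩
      left_inv := fun U => Subtype.ext (inv_smul_smul g U.1)
      right_inv := fun U => Subtype.ext (smul_inv_smul g U.1) }).symm

/-- The two ways of counting. -/
theorem swap_count (fr : Frame P Q R f j) :
    132 * Nat.card {x : G // Cen P x ∧ x • Q = R} =
      Nat.card {x : G // Cen P x ∧ x • Q = Q ∧ x • R = R} * (Nat.card (Mem P) - 12) := by
  classical
  haveI := Fintype.ofFinite (Mem P)
  have hmove : Nat.card {q : {x : G // Cen P x} × Mem P // q.1.1 • q.2 ≠ q.2} =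
      Nat.card {x : G // Cen P x} * (Nat.card (Mem P) - 12) := by
    refine card_of_fibres (fun q => q.1.1) _ fun x => ?_
    refine (Nat.card_congr (β := {S : Mem P // ¬ x.1 • S = S})
      { toFun := fun q => ⟨q.1.1.2, by obtain ⟨⟨⟨y, S⟩, hq⟩, h⟩ := q; subst h; exact hq⟩
        invFun := fun S => ⟨⟨(x, S.1), S.2⟩, rfl⟩
        left_inv := fun ⟨⟨⟨y, S⟩, hq⟩, h⟩ => by subst h; rfl
        right_inv := fun S => rfl }).trans ?_
    rw [← fr.card_fix_of_cen x.2, Nat.card_eq_fintype_card, Fintype.card_subtype_compl,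
      Nat.card_eq_fintype_card, Nat.card_eq_fintype_card]
  have hmove' : Nat.card {q : {x : G // Cen P x} × Mem P // q.1.1 • q.2 ≠ q.2} =
      Nat.card {p : Mem P × Mem P // p.1 ≠ p.2} * Nat.card {x : G // Cen P x ∧ x • Q = R} := by
    refine card_of_fibres (fun q => (⟨(q.1.2, q.1.1.1 • q.1.2), q.2.symm⟩ :
      {p : Mem P × Mem P // p.1 ≠ p.2})) _ fun p => ?_
    obtain ⟨g, hgQ, hgR⟩ := fr.exists_pair_smul p.2
    refine (Nat.card_congr (β := {x : G // Cen P x ∧ x • p.1.1 = p.1.2}) ?_).trans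
      (Nat.card_congr (cenEquiv g (fun x => x • Q = R) (fun x => x • p.1.1 = p.1.2) fun x => ?_)).symm
    · exact
        { toFun := fun q => ⟨q.1.1.1.1, q.1.1.1.2, by obtain ⟨⟨⟨y, S⟩, hq⟩, h⟩ := q; subst h; rfl⟩
          invFun := fun x => ⟨⟨(⟨x.1, x.2.1⟩, p.1.1), by
            show x.1 • p.1.1 ≠ p.1.1
            rw [x.2.2]; exact p.2.symm⟩, Subtype.ext (Prod.ext rfl x.2.2)⟩
          left_inv := fun ⟨⟨⟨y, S⟩, hq⟩, h⟩ => by subst h; rfl
          right_inv := fun x => rfl }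
    · rw [← hgQ, ← hgR, mul_smul, mul_smul, inv_smul_smul]
      exact ⟨fun h => by rw [h], fun h => MulAction.injective g h⟩
  have hfix : Nat.card {q : {x : G // Cen P x} × (Mem P × Mem P) //
      q.2.1 ≠ q.2.2 ∧ q.1.1 • q.2.1 = q.2.1 ∧ q.1.1 • q.2.2 = q.2.2} =
      Nat.card {x : G // Cen P x} * 132 := by
    refine card_of_fibres (fun q => q.1.1) _ fun x => ?_
    refine (Nat.card_congr (β := {p : {S : Mem P // x.1 • S = S} × {S : Mem P // x.1 • S = S} //
      p.1 ≠ p.2})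
      { toFun := fun q => ⟨(⟨q.1.1.2.1, by obtain ⟨⟨⟨y, S⟩, hq⟩, h⟩ := q; subst h; exact hq.2.1⟩,
          ⟨q.1.1.2.2, by obtain ⟨⟨⟨y, S⟩, hq⟩, h⟩ := q; subst h; exact hq.2.2⟩), fun e => q.1.2.1 (congrArg Subtype.val e)⟩
        invFun := fun p => ⟨⟨(x, (p.1.1.1, p.1.2.1)), fun e => p.2 (Subtype.ext e), p.1.1.2, p.1.2.2⟩,
          rfl⟩
        left_inv := fun ⟨⟨⟨y, S⟩, hq⟩, h⟩ => by subst h; rfl
        right_inv := fun p => rfl }).trans ?_
    rw [card_offDiag, fr.card_fix_of_cen x.2]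
  have hfix' : Nat.card {q : {x : G // Cen P x} × (Mem P × Mem P) //
      q.2.1 ≠ q.2.2 ∧ q.1.1 • q.2.1 = q.2.1 ∧ q.1.1 • q.2.2 = q.2.2} =
      Nat.card {p : Mem P × Mem P // p.1 ≠ p.2} *
        Nat.card {x : G // Cen P x ∧ x • Q = Q ∧ x • R = R} := by
    refine card_of_fibres (fun q => (⟨q.1.2, q.2.1⟩ : {p : Mem P × Mem P // p.1 ≠ p.2})) _ fun p => ?_
    obtain ⟨g, hgQ, hgR⟩ := fr.exists_pair_smul p.2
    refine (Nat.card_congr (β := {x : G // Cen P x ∧ x • p.1.1 = p.1.1 ∧ x • p.1.2 = p.1.2}) ?_).trans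
      (Nat.card_congr (cenEquiv g (fun x => x • Q = Q ∧ x • R = R)
        (fun x => x • p.1.1 = p.1.1 ∧ x • p.1.2 = p.1.2) fun x => ?_)).symm
    · exact
        { toFun := fun q => ⟨q.1.1.1.1, q.1.1.1.2, by obtain ⟨⟨⟨y, S⟩, hq⟩, h⟩ := q; subst h; exact hq.2⟩
          invFun := fun x => ⟨⟨(⟨x.1, x.2.1⟩, p.1), p.2, x.2.2⟩, rfl⟩
          left_inv := fun ⟨⟨⟨y, S⟩, hq⟩, h⟩ => by subst h; rfl
          right_inv := fun x => rfl }
    · rw [← hgQ, ← hgR]
      simp only [mul_smul, inv_smul_smul]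
      exact ⟨fun h => by rw [h.1, h.2]; exact ⟨rfl, rfl⟩,
        fun h => ⟨MulAction.injective g h.1, MulAction.injective g h.2⟩⟩
  rw [card_offDiag, hmove] at hmove'
  rw [card_offDiag, hfix] at hfix'
  have hpos : 0 < Nat.card (Mem P) * (Nat.card (Mem P) - 1) := by
    have := fr.card_members_ge
    exact Nat.mul_pos (by omega) (by omega)
  refine Nat.eq_of_mul_eq_mul_left hpos ?_
  calc _ = 132 * (Nat.card {x : G // Cen P x} * (Nat.card (Mem P) - 12)) := by rw [hmove']; ring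
    _ = Nat.card {x : G // Cen P x} * 132 * (Nat.card (Mem P) - 12) := by ring
    _ = _ := by rw [hfix']; ring

/-- The centralising involutions swapping `Q` and `R`. -/
theorem exists_of_swap (fr : Frame P Q R f j) {x : G} (hx : Cen P x) (hQ : x • Q = R) :
    ∃ (i : Fin 5) (c : G), c ∈ lineCent Q R ∧ c * c = 1 ∧ c ≠ 1 ∧ x = j * f ^ i.val * c := by
  obtain ⟨hxx, hx1, S0, T0, hne0, hS0, hT0⟩ := hx
  have hjj : j * j = 1 := by
    have := pow_orderOf_eq_one j
    rwa [fr.j_order, pow_two] at this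
  have hxR : x • R = Q := by rw [← hQ, ← mul_smul, hxx, one_smul]
  have hA : j * x ∈ twoStab Q R := ⟨show (j * x) • Q = Q by rw [mul_smul, hQ, fr.j_smul_R],
    show (j * x) • R = R by rw [mul_smul, hxR, fr.j_smul_Q]⟩
  obtain ⟨k, hk⟩ := fr.exists_exponent hA.1
  have hxe : x = j * (j * x) := by rw [← mul_assoc, hjj, one_mul]
  by_cases h5 : k ^ 5 ≡ 1 [MOD 11]
  swap
  · exfalso
    obtain ⟨S, hSL, hS⟩ := fr.j_outer _ hA.1 hA.2 k hk h5
    rw [← hxe] at hS
    have hxS : x ∈ centralizer (S.1 : Set G) := fr.fixed_centralizes hS0 hS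
    have hSQ : S ≠ Q := fun e => fr.ne (by rw [← hQ, ← e, hS, e])
    have hSR : R ≠ S := fun e => fr.ne.symm (by rw [← hxR, e, hS])
    have hRle : R.1 ≤ S.1 ⊔ Q.1 := by
      rw [fr.line_eq hSQ fr.ne hSL le_sup_left]
      exact le_sup_right
    obtain ⟨t, ht, htR⟩ := fr.exists_smul_in_line hSQ hRle hSR
    have hc : x * t = t * x := (mem_centralizer_iff.1 hxS t ht).symm
    have htt : (t * t) • Q = Q := by
      rw [mul_smul, htR, ← hxR]
      nth_rewrite 1 [← hQ]
      rw [← mul_smul, ← hc, mul_smul, htR]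
    have ht2 : t * t = 1 := by
      by_contra ht2
      exact hSQ (fr.eq_of_smul_eq ht2 (mul_mem ht ht) htt)
    have ht11 : t ^ 11 = 1 := by rw [fr.pow_modEq (show 11 ≡ 0 [MOD 11] from rfl) ht, pow_zero]
    rw [← pow_two] at ht2
    have h1 : t = 1 := by
      rw [show (11 : ℕ) = 2 * 5 + 1 from rfl, pow_succ, pow_mul, ht2, one_pow, one_mul] at ht11
      exact ht11
    rw [h1, one_smul] at htR
    exact fr.ne htR
  obtain ⟨i, hi⟩ := fr.exists_decomp hA hk h5
  obtain ⟨c, hc⟩ : ∃ c, c = (f ^ i)⁻¹ * (j * x) := ⟨_, rfl⟩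
  rw [← hc] at hi
  have hxc : x = j * f ^ i * c := by
    rw [hc, mul_assoc j, mul_inv_cancel_left, ← mul_assoc, hjj, one_mul]
  have hjj' : j * f ^ i * (j * f ^ i) = 1 := by
    rw [mul_assoc, ← mul_assoc (f ^ i) j (f ^ i), ← mul_assoc j, ← mul_assoc j, fr.j_f_pow,
      mul_assoc _ j j, hjj]
    group
  have hcomm : c * (j * f ^ i) = j * f ^ i * c :=
    fr.K_commute hi (mul_mem fr.j_mem (pow_mem fr.f_mem i))
  have hcc : c * c = 1 := by
    have e : j * f ^ i * c * (j * f ^ i * c) = c * c := by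
      calc j * f ^ i * c * (j * f ^ i * c) = j * f ^ i * (c * (j * f ^ i)) * c := by group
        _ = j * f ^ i * (j * f ^ i) * (c * c) := by rw [hcomm]; group
        _ = c * c := by rw [hjj', one_mul]
    rw [← e, ← hxc, hxx]
  refine ⟨⟨i % 5, Nat.mod_lt _ (by norm_num)⟩, c, hi, hcc, fun hc1 => ?_, ?_⟩
  · rw [hc1, mul_one] at hxc
    obtain ⟨g, hg⟩ := isConj_iff.1 (fr.isConj_j_f_pow i)
    refine fr.j_free (g⁻¹ • T0) ?_
    rw [hxc, ← hg, mul_smul, mul_smul] at hT0
    exact eq_inv_smul_iff.2 hT0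
  · rw [← pow_eq_pow_mod i fr.f_pow_five]
    exact hxc

/-- An involution in `K` forces 672 members and the swap condition. -/
theorem even_facts (fr : Frame P Q R f j) (heven : Even (Nat.card (lineCent Q R))) :
    Nat.card (Mem P) = 672 ∧ SwapsFix Q R j := by
  classical
  haveI : Fact (Nat.Prime 2) := ⟨Nat.prime_two⟩
  let D := {x : G // x ∈ lineCent Q R ∧ x * x = 1 ∧ x ≠ 1}
  obtain ⟨z, hz⟩ := exists_prime_orderOf_dvd_card' 2 (even_iff_two_dvd.1 heven)
  have hz2 : (z : G) * z = 1 := by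
    have := pow_orderOf_eq_one z
    rw [hz, pow_two] at this
    exact congrArg Subtype.val this
  have hz1 : (z : G) ≠ 1 := fun e => by
    rw [show z = 1 from Subtype.ext e, orderOf_one] at hz
    omega
  haveI : Nonempty D := ⟨⟨z, z.2, hz2, hz1⟩⟩
  have hI : Nat.card {x : G // Cen P x ∧ x • Q = Q ∧ x • R = R} = Nat.card D :=
    Nat.card_congr (Equiv.subtypeEquivRight fun x =>
      ⟨fun h => ⟨fr.cen_mem_K h.1 h.2.1 h.2.2, h.1.1, h.1.2.1⟩,
        fun h => ⟨fr.cen_of_mem_K h.1 h.2.1 h.2.2,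
          smul_eq_of_mem_centralizer (fr.K_iff.1 h.1).1, (fr.K_iff.1 h.1).2⟩⟩)
  choose i c hc hc2 hc1 hxc using
    fun x : {x : G // Cen P x ∧ x • Q = R} => fr.exists_of_swap x.2.1 x.2.2
  let ψ : {x : G // Cen P x ∧ x • Q = R} → Fin 5 × D :=
    fun x => (i x, ⟨c x, hc x, hc2 x, hc1 x⟩)
  have hψ : Function.Injective ψ := fun a b hab => by
    refine Subtype.ext ?_
    rw [hxc a, hxc b, show i a = i b from congrArg Prod.fst hab,
      show c a = c b from congrArg Subtype.val (congrArg Prod.snd hab)]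
  have hle := Nat.card_le_card_of_injective ψ hψ
  rw [Nat.card_prod, Nat.card_fin] at hle
  have hcount := fr.swap_count
  rw [hI] at hcount
  have hpos : 0 < Nat.card D := Nat.card_pos
  have hmod := fr.card_mod
  have hge := fr.card_members_ge
  have hn : Nat.card (Mem P) = 672 := by
    have h1 : Nat.card D * (Nat.card (Mem P) - 12) ≤ Nat.card D * 660 := by rw [← hcount]; omega
    have h2 := Nat.le_of_mul_le_mul_left h1 hpos
    omega
  refine ⟨hn, fun k hk hk2 hk1 => ?_⟩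
  rw [hn] at hcount
  have hb : Function.Bijective ψ := (Nat.bijective_iff_injective_and_card ψ).2
    ⟨hψ, by rw [Nat.card_prod, Nat.card_fin]; omega⟩
  obtain ⟨x, hx⟩ := hb.2 (0, ⟨k, hk, hk2, hk1⟩)
  have e : (x : G) = j * k := by
    rw [hxc x, show i x = 0 from congrArg Prod.fst hx,
      show c x = k from congrArg Subtype.val (congrArg Prod.snd hx)]
    simp
  obtain ⟨-, -, S, T, -, -, hT⟩ := x.2.1
  exact ⟨T, by rw [← e]; exact hT⟩

/-- `K` is abelian when the kernel has order 671. -/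
theorem K_comm (fr : Frame P Q R f j) {M : Subgroup G} (hM : Kernel Q R M 61) {k l : G}
    (hk : k ∈ lineCent Q R) (hl : l ∈ lineCent Q R) : k * l = l * k := by
  haveI := hM.nilpotent
  haveI : IsZGroup M := IsZGroup.of_squarefree (by
    rw [hM.card, Nat.squarefree_mul (by norm_num)]
    exact ⟨(by norm_num : Nat.Prime 11).squarefree, (by norm_num : Nat.Prime 61).squarefree⟩)
  obtain ⟨g, hg⟩ := IsCyclic.exists_monoid_generator (α := M)
  have hexp : ∀ a ∈ lineCent Q R, ∃ e : ℕ, ∀ t : ℕ, a * (g : G) ^ t * a⁻¹ = (g : G) ^ (e * t) := by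
    intro a ha
    obtain ⟨e, he⟩ := hg ⟨_, hM.invariant a (smul_eq_of_mem_centralizer (fr.K_iff.1 ha).1) g g.2⟩
    refine ⟨e, fun t => ?_⟩
    rw [← conj_pow, pow_mul]
    exact congrArg (· ^ t) (congrArg Subtype.val he).symm
  obtain ⟨a, ha⟩ := hexp k hk
  obtain ⟨b, hb⟩ := hexp l hl
  refine (inv_mul_eq_one.1 ?_).symm
  by_contra hz1
  have hzK : (l * k)⁻¹ * (k * l) ∈ lineCent Q R :=
    mul_mem (inv_mem (mul_mem hl hk)) (mul_mem hk hl)
  have hzM : ∀ m ∈ M, (l * k)⁻¹ * (k * l) * m = m * ((l * k)⁻¹ * (k * l)) := by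
    intro m hm
    obtain ⟨t, ht⟩ := hg ⟨m, hm⟩
    have e : (g : G) ^ t = m := congrArg Subtype.val ht
    have h1 : k * l * m * (k * l)⁻¹ = l * k * m * (l * k)⁻¹ := by
      rw [← e, show k * l * (g : G) ^ t * (k * l)⁻¹ = k * (l * (g : G) ^ t * l⁻¹) * k⁻¹ by group,
        show l * k * (g : G) ^ t * (l * k)⁻¹ = l * (k * (g : G) ^ t * k⁻¹) * l⁻¹ by group,
        hb, ha, ha, hb, Nat.mul_left_comm]
    calc (l * k)⁻¹ * (k * l) * m = (l * k)⁻¹ * (k * l * m * (k * l)⁻¹) * (k * l) := by group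
      _ = (l * k)⁻¹ * (l * k * m * (l * k)⁻¹) * (k * l) := by rw [h1]
      _ = m * ((l * k)⁻¹ * (k * l)) := by group
  have hall : ∀ S : Mem P, S.1 ≤ Q.1 ⊔ R.1 := fun S => by
    rcases eq_or_ne S Q with rfl | hS
    · exact le_sup_left
    obtain ⟨m, hm, rfl⟩ := hM.exists_smul fr.ne hS
    refine fr.K_fixed hzK hz1 ?_
    rw [← mul_smul, hzM m hm, mul_smul, (fr.K_iff.1 hzK).2]
  have h1 := Nat.card_le_card_of_injective (fun S : Mem P => (⟨S, hall S⟩ : Line P (Q.1 ⊔ R.1)))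
    fun a b e => congrArg Subtype.val e
  rw [fr.card_line fr.ne] at h1
  have := fr.card_members_ge
  omega

/-- An involution in `K` and no exceptional element: impossible. -/
theorem false_of_even (fr : Frame P Q R f j) (hex : ¬ Exceptional Q R)
    (heven : Even (Nat.card (lineCent Q R))) : False := by
  obtain ⟨hn, hsw⟩ := fr.even_facts heven
  obtain ⟨M, r, hM⟩ := fr.exists_kernel hex
  obtain rfl : r = 61 := by
    have := hM.members
    omega
  by_cases hout : ∃ a ∈ twoStab Q R, a ∉ torusK Q R f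
  · obtain ⟨a, ha, hni⟩ := hout
    exact fr.false_of_outer hsw hM ha hni
  push Not at hout
  refine fr.false_of_derived hsw hM hout fun hle => ?_
  have hb : ⁅lineCent Q R, lineCent Q R⁆ = ⊥ := by
    rw [eq_bot_iff, Subgroup.commutator_le]
    intro a ha b hb
    rw [Subgroup.mem_bot, commutatorElement_def, fr.K_comm hM ha hb]
    group
  rw [hb, le_bot_iff] at hle
  rw [hle, card_bot] at heven
  exact absurd heven (by decide)

end Frame

end Cfsg.Agent.ElevenPairs
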