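import Cfsg.Agent.Lib.ElevenPairs.LCase.Kernel
import Cfsg.Agent.Lib.ElevenPairs.LCase.Chain

/-!
# An exceptional element

An element `k` of `K` normalising a second line through `Q` has order eleven and generates a Sylow
subgroup of `K`; the members whose line with `Q` it normalises form one orbit of the group of elements
commuting with it modulo `Q`, so their number is 121 and 121 divides the number of others. If moreover
`K` is odd, the centraliser of `Q` has a homomorphism onto the group of order eleven, nontrivial on `k`.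
-/

set_option autoImplicit false
set_option linter.style.haveILetI false

namespace Cfsg.Agent.ElevenPairs

open Subgroup
open scoped Pointwise

universe u

variable {G : Type u} [Group G] {P : Subgroup G}

/-- An element of order five fixes a point of an invariant set of size prime to five. -/
theorem exists_commute_mem [Finite G] {f : G} (hf : f ^ 5 = 1) (W : Set G)
    (hW : ¬ 5 ∣ Nat.card W) (hinv : ∀ h ∈ W, f * h * f⁻¹ ∈ W) : ∃ h ∈ W, f * h = h * f := by
  classical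
  haveI : Fact (Nat.Prime 5) := ⟨by norm_num⟩
  haveI := Fintype.ofFinite W
  let σ : W → W := fun h => ⟨f * h * f⁻¹, hinv h h.2⟩
  have hσ : Function.Injective σ := fun a b hab => Subtype.ext (by
    have h1 : f * (a : G) * f⁻¹ = f * (b : G) * f⁻¹ := congrArg Subtype.val hab
    exact mul_left_cancel (mul_right_cancel h1))
  let s : Equiv.Perm W := Equiv.ofBijective σ (Finite.injective_iff_bijective.1 hσ)
  have hpow : ∀ (m : ℕ) (h : W), ((s ^ m) h : G) = f ^ m * h * (f ^ m)⁻¹ := by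
    intro m
    induction m with
    | zero => intro h; simp
    | succ m ih =>
      intro h
      rw [pow_succ', Equiv.Perm.mul_apply]
      show f * ((s ^ m) h : G) * f⁻¹ = _
      rw [ih, pow_succ']
      group
  obtain ⟨h, hh⟩ := Equiv.Perm.exists_fixed_point_of_prime (p := 5) (n := 1)
    (by rwa [← Nat.card_eq_fintype_card]) (σ := s)
    (Equiv.ext fun h => Subtype.ext (by rw [pow_one, hpow, hf]; simp))
  refine ⟨h, h.2, mul_inv_eq_iff_eq_mul.1 ?_⟩
  exact congrArg Subtype.val hh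

/-- The elements centralising `Q` and commuting with `k` modulo `Q`. -/
def modCent (Q : Mem P) (k : G) : Subgroup G where
  carrier := {g | g ∈ centralizer (Q.1 : Set G) ∧ g * k * g⁻¹ * k⁻¹ ∈ Q.1}
  one_mem' := ⟨one_mem _, by simp⟩
  mul_mem' := by
    rintro a b ⟨ha, ha'⟩ ⟨hb, hb'⟩
    refine ⟨mul_mem ha hb, ?_⟩
    have e := mem_centralizer_iff.1 ha _ hb'
    rw [show a * b * k * (a * b)⁻¹ * k⁻¹ =
      a * (b * k * b⁻¹ * k⁻¹) * a⁻¹ * (a * k * a⁻¹ * k⁻¹) by group, ← e, mul_inv_cancel_right]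
    exact mul_mem hb' ha'
  inv_mem' := by
    rintro a ⟨ha, ha'⟩
    refine ⟨inv_mem ha, ?_⟩
    have e := mem_centralizer_iff.1 (inv_mem ha) _ (inv_mem ha')
    rw [show a⁻¹ * k * a⁻¹⁻¹ * k⁻¹ = a⁻¹ * (a * k * a⁻¹ * k⁻¹)⁻¹ * a⁻¹⁻¹ by group, ← e,
      mul_inv_cancel_right]
    exact inv_mem ha'

/-- `k` normalises the line of `Q` and `S`, as `q` does. -/
structure Exc (P : Subgroup G) (Q R : Mem P) (f j k : G) (S : Mem P) (q : G) : Prop
    extends Frame P Q R f j where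
  k_mem : k ∈ lineCent Q R
  k_ne : k ≠ 1
  S_not : ¬ S.1 ≤ Q.1 ⊔ R.1
  q_mem : q ∈ Q.1
  q_smul : q • S = k • S

namespace Frame

variable {Q R : Mem P} {f j k : G} [Finite G]

theorem Q_pow_eleven (fr : Frame P Q R f j) {x : G} (hx : x ∈ Q.1) : x ^ 11 = 1 := by
  rw [fr.pow_modEq (show 11 ≡ 0 [MOD 11] from rfl) hx, pow_zero]

theorem Q_le_centralizer (fr : Frame P Q R f j) : Q.1 ≤ centralizer (Q.1 : Set G) := by
  haveI : Fact (Nat.Prime 11) := fact_prime_eleven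
  haveI : IsCyclic Q.1 := isCyclic_of_prime_card (fr.mem_card Q)
  letI := IsCyclic.commGroup (α := Q.1)
  intro a ha
  exact mem_centralizer_iff.2 fun b hb =>
    congrArg Subtype.val (mul_comm (⟨b, hb⟩ : Q.1) ⟨a, ha⟩)

theorem Q_inter_K (fr : Frame P Q R f j) {x : G} (hx : x ∈ Q.1) (hK : x ∈ lineCent Q R) : x = 1 :=
  fr.line_center (mem_sup_left hx) hK

theorem Q_smul (_fr : Frame P Q R f j) {x : G} (hx : x ∈ Q.1) : x • Q = Q :=
  (smul_eq_iff x Q).2 (le_normalizer hx)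

theorem ne_of_not_le (_fr : Frame P Q R f j) {S : Mem P} (hS : ¬ S.1 ≤ Q.1 ⊔ R.1) : Q ≠ S :=
  fun e => hS (e ▸ le_sup_left)

theorem exists_exc (fr : Frame P Q R f j) (hk : k ∈ lineCent Q R) (hk1 : k ≠ 1) {S : Mem P}
    (hS : ¬ S.1 ≤ Q.1 ⊔ R.1) (hkS : (k • S).1 ≤ Q.1 ⊔ S.1) : ∃ q, Exc P Q R f j k S q := by
  have hQS := fr.ne_of_not_le hS
  obtain ⟨q, hq, hqS⟩ := fr.exists_smul_in_line hQS hkS fun e =>
    hQS (MulAction.injective k ((smul_eq_of_mem_centralizer (fr.K_iff.1 hk).1).trans e.symm))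
  exact ⟨q, fr, hk, hk1, hS, hq, hqS⟩

/-- Two members fixed by an element centralising `Q` lie on a line through `Q`. -/
theorem le_line_of_fixed (fr : Frame P Q R f j) {y : G} (hy : y ∈ centralizer (Q.1 : Set G))
    (hy1 : y ≠ 1) {S T : Mem P} (hQS : Q ≠ S) (hS : y • S = S) (hT : y • T = T) :
    T.1 ≤ Q.1 ⊔ S.1 := by
  obtain ⟨R', hne', -, hall⟩ := fr.exists_pair_centralized hy1 hQS hy hS
  rw [fr.line_eq hQS hne' le_sup_left (hall S hS)]
  exact hall T hT

theorem pow_eq_of_coprime {x : G} (hx : x ^ 11 = 1) {e : ℕ} (he : ¬ 11 ∣ e) :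
    ∃ e' : ℕ, (x ^ e) ^ e' = x ∧ e * e' % 11 = 1 := by
  have key : ∀ r : Fin 11, r.val ≠ 0 → ∃ s : Fin 11, r.val * s.val % 11 = 1 := by decide
  obtain ⟨s, hs⟩ := key ⟨e % 11, Nat.mod_lt _ (by norm_num)⟩
    (fun h => he (Nat.dvd_of_mod_eq_zero h))
  have h1 : e * s.val % 11 = 1 := by
    rw [Nat.mul_mod]
    rwa [Nat.mod_eq_of_lt s.isLt]
  exact ⟨s.val, by rw [← pow_mul, pow_eq_pow_mod _ hx, h1, pow_one], h1⟩

end Frame

namespace Exc

variable {Q R : Mem P} {f j k : G} {S : Mem P} {q : G} [Finite G]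

theorem QS (ex : Exc P Q R f j k S q) : Q ≠ S := ex.ne_of_not_le ex.S_not

theorem k_cent (ex : Exc P Q R f j k S q) : k ∈ centralizer (Q.1 : Set G) :=
  (ex.K_iff.1 ex.k_mem).1

theorem k_Q (ex : Exc P Q R f j k S q) {x : G} (hx : x ∈ Q.1) : Commute x k :=
  mem_centralizer_iff.1 ex.k_cent x hx

theorem mul_smul_S (ex : Exc P Q R f j k S q) : (q⁻¹ * k) • S = S := by
  rw [mul_smul, ← ex.q_smul, inv_smul_smul]

theorem pow_eleven (ex : Exc P Q R f j k S q) : k ^ 11 = 1 := by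
  by_contra h1
  refine ex.S_not (ex.K_fixed (pow_mem ex.k_mem 11) h1 ?_)
  have e : k ^ 11 = (q⁻¹ * k) ^ 11 := by
    rw [(ex.k_Q (inv_mem ex.q_mem)).mul_pow, inv_pow, ex.Q_pow_eleven ex.q_mem, inv_one, one_mul]
  rw [e]
  exact MulAction.mem_stabilizer_iff.1 (pow_mem
    (show q⁻¹ * k ∈ MulAction.stabilizer G S from ex.mul_smul_S) 11)

theorem k_not_Q (ex : Exc P Q R f j k S q) : k ∉ Q.1 := fun h =>
  ex.k_ne (ex.Q_inter_K h ex.k_mem)

theorem order_k (ex : Exc P Q R f j k S q) : orderOf k = 11 :=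
  haveI : Fact (Nat.Prime 11) := fact_prime_eleven
  orderOf_eq_prime ex.pow_eleven ex.k_ne

theorem q_ne (ex : Exc P Q R f j k S q) : q ≠ 1 := fun e =>
  ex.S_not (ex.K_fixed ex.k_mem ex.k_ne (by rw [← ex.q_smul, e, one_smul]))

/-- `k` generates its centraliser in `K`. -/
theorem mem_zpowers_of_commute (ex : Exc P Q R f j k S q) {c : G} (hc : c ∈ lineCent Q R)
    (hck : c * k = k * c) : c ∈ zpowers k := by
  haveI : Fact (Nat.Prime 11) := fact_prime_eleven
  have hcq : c * q = q * c := ex.K_commute hc (mem_sup_left ex.q_mem)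
  have hcS : (q⁻¹ * k) • (c • S) = c • S := by
    have e : q⁻¹ * k * c = c * (q⁻¹ * k) := by
      calc q⁻¹ * k * c = q⁻¹ * (k * c) := mul_assoc _ _ _
        _ = q⁻¹ * (c * k) := by rw [hck]
        _ = q⁻¹ * (c * q) * (q⁻¹ * k) := by group
        _ = c * (q⁻¹ * k) := by rw [hcq]; group
    rw [← mul_smul, e, mul_smul, ex.mul_smul_S]
  have hy1 : q⁻¹ * k ≠ 1 := fun e => ex.k_not_Q (by
    rw [← inv_mul_eq_one.1 e]; exact ex.q_mem)
  have hle := ex.le_line_of_fixed (mul_mem (inv_mem (ex.Q_le_centralizer ex.q_mem)) ex.k_cent)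
    hy1 ex.QS ex.mul_smul_S hcS
  obtain ⟨q', hq', hq'S⟩ := ex.exists_smul_in_line ex.QS hle fun e => ex.QS
    (MulAction.injective c ((smul_eq_of_mem_centralizer (ex.K_iff.1 hc).1).trans e.symm))
  have hgen := zpowers_eq_top_of_prime_card (ex.mem_card Q) (g := (⟨q, ex.q_mem⟩ : Q.1))
    (fun e => ex.q_ne (congrArg Subtype.val e))
  obtain ⟨m, hm⟩ := mem_powers_iff_mem_zpowers.2
    (hgen ▸ mem_top (⟨q', hq'⟩ : Q.1) : (⟨q', hq'⟩ : Q.1) ∈ zpowers (⟨q, ex.q_mem⟩ : Q.1))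
  have hm' : q ^ m = q' := congrArg Subtype.val hm
  have hkm : (k ^ m) • S = q' • S := by
    have h1 := MulAction.mem_stabilizer_iff.1 (pow_mem
      (show q⁻¹ * k ∈ MulAction.stabilizer G S from ex.mul_smul_S) m)
    rw [(ex.k_Q (inv_mem ex.q_mem)).mul_pow, inv_pow, mul_smul, inv_smul_eq_iff, hm'] at h1
    exact h1
  have hz : (k ^ m)⁻¹ * c ∈ lineCent Q R := mul_mem (inv_mem (pow_mem ex.k_mem m)) hc
  by_contra hcz
  refine ex.S_not (ex.K_fixed hz (fun e => hcz ?_) ?_)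
  · rw [← inv_mul_eq_one.1 e]
    exact pow_mem (mem_zpowers k) m
  · rw [mul_smul, inv_smul_eq_iff, hkm, hq'S]

/-- Elements of order eleven of `K` are conjugate into `⟨k⟩`. -/
theorem exists_conj_pow (ex : Exc P Q R f j k S q) {x : G} (hx : x ∈ lineCent Q R)
    (hx11 : x ^ 11 = 1) : ∃ y ∈ lineCent Q R, ∃ e : ℕ, y * x * y⁻¹ = k ^ e := by
  haveI : Fact (Nat.Prime 11) := fact_prime_eleven
  set K := lineCent Q R
  let k' : K := ⟨k, ex.k_mem⟩
  have hpz : ∀ a : K, a ^ 11 = 1 → IsPGroup 11 (zpowers a) := fun a ha => by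
    rintro ⟨z, m, rfl⟩
    refine ⟨1, Subtype.ext ?_⟩
    show (a ^ m) ^ (11 ^ 1 : ℕ) = 1
    rw [pow_one, ← zpow_natCast, ← zpow_mul, mul_comm, zpow_mul, zpow_natCast, ha, one_zpow]
  obtain ⟨T, hT⟩ := (hpz k' (Subtype.ext ex.pow_eleven)).exists_le_sylow
  have hk'1 : k' ≠ 1 := fun e => ex.k_ne (congrArg Subtype.val e)
  have hkT : k' ∈ (T : Subgroup K) := hT (mem_zpowers k')
  have hcomm : ∀ a ∈ (T : Subgroup K), (a : G) * k = k * a := by
    haveI : Nontrivial (T : Subgroup K) := ⟨⟨⟨k', hkT⟩, 1, fun e => hk'1 (congrArg Subtype.val e)⟩⟩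
    haveI := T.isPGroup'.center_nontrivial
    obtain ⟨⟨z, hz⟩, hz1⟩ := exists_ne (1 : center (T : Subgroup K))
    intro a ha
    have hzc : ((z : K) : G) ∈ zpowers k := ex.mem_zpowers_of_commute (z : K).2
      (congrArg (fun w : (T : Subgroup K) => ((w : K) : G)) (mem_center_iff.1 hz ⟨k', hkT⟩)).symm
    obtain ⟨m, hm⟩ := mem_powers_iff_mem_zpowers.2 hzc
    have hm' : k ^ m = ((z : K) : G) := hm
    have hmd : ¬ 11 ∣ m := fun hd => hz1 (Subtype.ext (Subtype.ext (Subtype.ext (by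
      show ((z : K) : G) = 1
      rw [← hm', ← ex.order_k] at *
      exact orderOf_dvd_iff_pow_eq_one.1 hd))))
    obtain ⟨m', hm'', -⟩ := Frame.pow_eq_of_coprime ex.pow_eleven hmd
    have haz : (a : G) * (z : K) = (z : K) * a :=
      congrArg (fun w : (T : Subgroup K) => ((w : K) : G)) (mem_center_iff.1 hz ⟨a, ha⟩)
    rw [← hm''.trans rfl, hm']
    exact Commute.pow_right haz m'
  obtain ⟨T', hT'⟩ := (hpz ⟨x, hx⟩ (Subtype.ext hx11)).exists_le_sylow
  obtain ⟨y, hy⟩ := MulAction.exists_smul_eq K T' T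
  have hmem : y * ⟨x, hx⟩ * y⁻¹ ∈ (T : Subgroup K) := by
    rw [← hy]
    exact ⟨⟨x, hx⟩, hT' (mem_zpowers _), rfl⟩
  have h1 := ex.mem_zpowers_of_commute (y * ⟨x, hx⟩ * y⁻¹ : K).2 (hcomm _ hmem)
  obtain ⟨e, he⟩ := mem_powers_iff_mem_zpowers.2 h1
  exact ⟨y, y.2, e, he.symm⟩

theorem Q_le_modCent (ex : Exc P Q R f j k S q) : Q.1 ≤ modCent Q k := fun x hx =>
  ⟨ex.Q_le_centralizer hx, by
    rw [(ex.k_Q hx).eq, mul_inv_cancel_right, mul_inv_cancel]; exact one_mem _⟩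

theorem k_mem_modCent (ex : Exc P Q R f j k S q) : k ∈ modCent Q k := ⟨ex.k_cent, by simp⟩

theorem mem_of_commute (ex : Exc P Q R f j k S q) {d : G} (hd : d ∈ centralizer (Q.1 : Set G))
    (hdk : d * k = k * d) : d ∈ Q.1 ⊔ zpowers k := by
  have hkR : k • R = R := (ex.K_iff.1 ex.k_mem).2
  have hdQ := smul_eq_of_mem_centralizer hd
  have hle : (d • R).1 ≤ Q.1 ⊔ R.1 := ex.K_fixed ex.k_mem ex.k_ne
    (by rw [← mul_smul, ← hdk, mul_smul, hkR])
  obtain ⟨q2, hq2, hq2R⟩ := ex.exists_smul_in_line ex.ne hle fun e =>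
    ex.ne (MulAction.injective d (hdQ.trans e.symm))
  have hh : q2⁻¹ * d ∈ lineCent Q R := ex.K_iff.2
    ⟨mul_mem (inv_mem (ex.Q_le_centralizer hq2)) hd, by rw [mul_smul, ← hq2R, inv_smul_smul]⟩
  have h2 := ex.mem_zpowers_of_commute hh
    (Commute.mul_left (ex.k_Q (inv_mem hq2)) hdk)
  rw [show d = q2 * (q2⁻¹ * d) by group]
  exact mul_mem_sup hq2 h2

theorem modCent_fix (ex : Exc P Q R f j k S q) {d : G} (hd : d ∈ modCent Q k) (hR : d • R = R) :
    d ∈ zpowers k := by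
  have hK : d ∈ lineCent Q R := ex.K_iff.2 ⟨hd.1, hR⟩
  exact ex.mem_zpowers_of_commute hK (mul_inv_eq_iff_eq_mul.1 (mul_inv_eq_one.1
    (ex.Q_inter_K hd.2 (mul_mem (mul_mem (mul_mem hK ex.k_mem) (inv_mem hK)) (inv_mem ex.k_mem)))))

theorem zpowers_k_normalizer (ex : Exc P Q R f j k S q) :
    zpowers k ≤ normalizer (Q.1 : Set G) := by
  rw [zpowers_le]
  exact centralizer_le_normalizer _ ex.k_cent

theorem card_E (ex : Exc P Q R f j k S q) : Nat.card ↥(Q.1 ⊔ zpowers k) = 121 := by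
  rw [SylowAb.card_sup ex.zpowers_k_normalizer ?_, ex.mem_card, Nat.card_zpowers, ex.order_k]
  rw [Subgroup.disjoint_def]
  intro x hx hxk
  exact ex.Q_inter_K hx (zpowers_le.2 ex.k_mem hxk)

theorem card_modCent_cases (ex : Exc P Q R f j k S q) :
    Nat.card (modCent Q k) = 121 ∨ Nat.card (modCent Q k) = 1331 := by
  haveI : Fact (Nat.Prime 11) := fact_prime_eleven
  let χ : modCent Q k →* Q.1 :=
    { toFun := fun d => ⟨(d : G) * k * (d : G)⁻¹ * k⁻¹, d.2.2⟩
      map_one' := Subtype.ext (by simp)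
      map_mul' := fun a b => Subtype.ext (by
        have e := mem_centralizer_iff.1 a.2.1 _ b.2.2
        have e' := mem_centralizer_iff.1 (ex.Q_le_centralizer a.2.2) _ b.2.2
        show (a : G) * b * k * ((a : G) * b)⁻¹ * k⁻¹ =
          (a : G) * k * (a : G)⁻¹ * k⁻¹ * ((b : G) * k * (b : G)⁻¹ * k⁻¹)
        rw [show (a : G) * b * k * ((a : G) * b)⁻¹ * k⁻¹ = (a : G) * ((b : G) * k * (b : G)⁻¹ * k⁻¹) *
          (a : G)⁻¹ * ((a : G) * k * (a : G)⁻¹ * k⁻¹) by group, ← e, mul_inv_cancel_right, e']) }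
  have hE : Q.1 ⊔ zpowers k ≤ modCent Q k :=
    sup_le ex.Q_le_modCent (zpowers_le.2 ex.k_mem_modCent)
  have hker : χ.ker = (Q.1 ⊔ zpowers k).subgroupOf (modCent Q k) := by
    ext d
    rw [MonoidHom.mem_ker, mem_subgroupOf]
    constructor
    · intro h
      exact ex.mem_of_commute d.2.1 (mul_inv_eq_iff_eq_mul.1 (mul_inv_eq_one.1
        (congrArg Subtype.val h)))
    · intro h
      rw [← SetLike.mem_coe, coe_mul_of_right_le_normalizer_left _ _ ex.zpowers_k_normalizer] at h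
      obtain ⟨a, ha, b, ⟨m, rfl⟩, hab⟩ := h
      have hc : (d : G) * k = k * d := by
        rw [← hab]
        exact Commute.mul_left (ex.k_Q ha) (Commute.zpow_left rfl m)
      exact Subtype.ext (show (d : G) * k * (d : G)⁻¹ * k⁻¹ = 1 by rw [hc]; group)
  have h1 := χ.ker.card_mul_index
  rw [index_ker, hker, Nat.card_congr (subgroupOfEquivOfLe hE).toEquiv, ex.card_E] at h1
  have h2 := card_subgroup_dvd_card χ.range
  rw [ex.mem_card] at h2
  rcases (Nat.dvd_prime (by norm_num : Nat.Prime 11)).1 h2 with h3 | h3 <;>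
    rw [h3] at h1 <;> omega

theorem modCent_of_pow (ex : Exc P Q R f j k S q) {z : G} (hz : z ∈ centralizer (Q.1 : Set G))
    {e : ℕ} (he : ¬ 11 ∣ e) (h : z * k ^ e * z⁻¹ * (k ^ e)⁻¹ ∈ Q.1) : z ∈ modCent Q k := by
  obtain ⟨e', he', -⟩ := Frame.pow_eq_of_coprime ex.pow_eleven he
  refine ⟨hz, ?_⟩
  obtain ⟨x, hxd⟩ : ∃ x, x = z * k ^ e * z⁻¹ * (k ^ e)⁻¹ := ⟨_, rfl⟩
  rw [← hxd] at h
  have e1 : z * k ^ e * z⁻¹ = x * k ^ e := by rw [hxd]; group
  have e2 : z * k * z⁻¹ = x ^ e' * k := by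
    calc z * k * z⁻¹ = (z * k ^ e * z⁻¹) ^ e' := by rw [conj_pow, he']
      _ = x ^ e' * k := by rw [e1, (Commute.pow_right (ex.k_Q h) e).mul_pow, he']
  rw [e2, mul_inv_cancel_right]
  exact pow_mem h e'

/-- A coset of `modCent` invariant under the torus meets `K`. -/
theorem exists_mem_K (ex : Exc P Q R f j k S q) {g : G} (hg : g ∈ centralizer (Q.1 : Set G))
    {e : ℕ} (he : ¬ 11 ∣ e) (hge : (k ^ e)⁻¹ * (g * k * g⁻¹) ∈ Q.1) :
    ∃ d ∈ modCent Q k, d * g ∈ lineCent Q R := by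
  obtain ⟨q1, hq1d⟩ : ∃ q1, q1 = (k ^ e)⁻¹ * (g * k * g⁻¹) := ⟨_, rfl⟩
  rw [← hq1d] at hge
  have hgk : g * k * g⁻¹ = k ^ e * q1 := by rw [hq1d, mul_inv_cancel_left]
  have hfk : f * k = k * f := (ex.f_commute (ex.K_le_twoStab ex.k_mem)).symm
  have hfC : ∀ c, c ∈ centralizer (Q.1 : Set G) → f * c * f⁻¹ ∈ centralizer (Q.1 : Set G) :=
    fun c hc => LHyp.centralizer_smul_mem Q ex.f_smul_Q hc
  have hfQ : ∀ x ∈ Q.1, f * x * f⁻¹ ∈ Q.1 := fun x hx => by
    rw [ex.f_act_Q x hx]; exact pow_mem hx 5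
  have hfk' : ∀ m : ℕ, f * k ^ m * f⁻¹ = k ^ m := fun m => by
    rw [← conj_pow, hfk, mul_inv_cancel_right]
  have hz : f * g * f⁻¹ * g⁻¹ ∈ modCent Q k := by
    have hzC : f * g * f⁻¹ * g⁻¹ ∈ centralizer (Q.1 : Set G) := mul_mem (hfC g hg) (inv_mem hg)
    refine ex.modCent_of_pow hzC he ?_
    obtain ⟨z, hzd⟩ : ∃ z, z = f * g * f⁻¹ * g⁻¹ := ⟨_, rfl⟩
    rw [← hzd] at hzC ⊢
    have hq1' : z * q1 = q1 * z := (mem_centralizer_iff.1 hzC q1 hge).symm
    have e1 : z * (k ^ e * q1) * z⁻¹ = k ^ e * (f * q1 * f⁻¹) := by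
      calc z * (k ^ e * q1) * z⁻¹ = z * (g * k * g⁻¹) * z⁻¹ := by rw [hgk]
        _ = f * g * (f⁻¹ * k * f) * g⁻¹ * f⁻¹ := by rw [hzd]; group
        _ = f * (g * k * g⁻¹) * f⁻¹ := by rw [mul_assoc f⁻¹ k f, ← hfk]; group
        _ = f * k ^ e * f⁻¹ * (f * q1 * f⁻¹) := by rw [hgk]; group
        _ = k ^ e * (f * q1 * f⁻¹) := by rw [hfk']
    have e2 : z * k ^ e * z⁻¹ = k ^ e * (f * q1 * f⁻¹ * q1⁻¹) := by
      calc z * k ^ e * z⁻¹ = z * (k ^ e * q1) * z⁻¹ * (z * q1⁻¹ * z⁻¹) := by group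
        _ = k ^ e * (f * q1 * f⁻¹) * q1⁻¹ := by
          rw [e1, show z * q1⁻¹ * z⁻¹ = (z * q1 * z⁻¹)⁻¹ by group, hq1', mul_inv_cancel_right]
        _ = k ^ e * (f * q1 * f⁻¹ * q1⁻¹) := by group
    have hq2 : f * q1 * f⁻¹ * q1⁻¹ ∈ Q.1 := mul_mem (hfQ q1 hge) (inv_mem hge)
    rw [e2, ← (Commute.pow_right (ex.k_Q hq2) e).eq, mul_inv_cancel_right]
    exact hq2
  have hfD : ∀ d ∈ modCent Q k, f * d * f⁻¹ ∈ modCent Q k := fun d hd => by
    refine ⟨hfC d hd.1, ?_⟩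
    have := hfQ _ hd.2
    rw [show f * (d * k * d⁻¹ * k⁻¹) * f⁻¹ = f * d * f⁻¹ * (f * k * f⁻¹) * (f * d * f⁻¹)⁻¹ *
      (f * k * f⁻¹)⁻¹ by group, hfk, mul_inv_cancel_right] at this
    exact this
  obtain ⟨h, hh, hfh⟩ := exists_commute_mem ex.f_pow_five {h : G | h * g⁻¹ ∈ modCent Q k} (by
    rw [Nat.card_congr (α := {h : G | h * g⁻¹ ∈ modCent Q k}) (β := modCent Q k)
      { toFun := fun h => ⟨(h : G) * g⁻¹, h.2⟩
        invFun := fun d => ⟨(d : G) * g, by
          show (d : G) * g * g⁻¹ ∈ modCent Q k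
          rw [mul_inv_cancel_right]; exact d.2⟩
        left_inv := fun h => Subtype.ext (inv_mul_cancel_right _ g)
        right_inv := fun d => Subtype.ext (mul_inv_cancel_right _ g) }]
    rcases ex.card_modCent_cases with h | h <;> rw [h] <;> norm_num) fun h hh => by
    show f * h * f⁻¹ * g⁻¹ ∈ modCent Q k
    rw [show f * h * f⁻¹ * g⁻¹ = f * (h * g⁻¹) * f⁻¹ * (f * g * f⁻¹ * g⁻¹) by group]
    exact mul_mem (hfD _ hh) hz
  refine ⟨h * g⁻¹, hh, ?_⟩
  rw [inv_mul_cancel_right]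
  have hhC : h ∈ centralizer (Q.1 : Set G) := by
    rw [show h = h * g⁻¹ * g by group]; exact mul_mem hh.1 hg
  refine ex.K_iff.2 ⟨hhC, (ex.f_fixed_points (S := h • R) ?_).resolve_left fun e =>
    ex.ne.symm (MulAction.injective h (e.trans (smul_eq_of_mem_centralizer hhC).symm))⟩
  rw [← mul_smul, hfh, mul_smul, ex.f_smul_R]

/-- The second lines belong to the orbit of `R`. -/
theorem exists_modCent_smul (ex : Exc P Q R f j k S q) : ∃ d ∈ modCent Q k, d • R = S := by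
  haveI : Fact (Nat.Prime 11) := fact_prime_eleven
  obtain ⟨c, hc, hcR⟩ := ex.exists_centralizing ex.ne.symm ex.QS.symm
  obtain ⟨y, hyd⟩ : ∃ y, y = q⁻¹ * k := ⟨_, rfl⟩
  have hyC : y ∈ centralizer (Q.1 : Set G) := by
    rw [hyd]; exact mul_mem (inv_mem (ex.Q_le_centralizer ex.q_mem)) ex.k_cent
  have hy11 : y ^ 11 = 1 := by
    rw [hyd, (ex.k_Q (inv_mem ex.q_mem)).mul_pow, inv_pow, ex.Q_pow_eleven ex.q_mem,
      ex.pow_eleven, inv_one, one_mul]
  have hK : c⁻¹ * y * c ∈ lineCent Q R := ex.K_iff.2 ⟨mul_mem (mul_mem (inv_mem hc) hyC) hc, by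
    rw [mul_smul, mul_smul, hcR, hyd, ex.mul_smul_S, ← hcR, inv_smul_smul]⟩
  obtain ⟨y0, hy0, e, he⟩ := ex.exists_conj_pow hK (by
    have := conj_pow (i := 11) (a := c⁻¹) (b := y)
    rw [inv_inv] at this
    rw [this, hy11]; group)
  have hed : ¬ 11 ∣ e := fun hd => by
    have h1 : k ^ e = 1 := by
      obtain ⟨m, rfl⟩ := hd
      rw [pow_mul, ex.pow_eleven, one_pow]
    have hy1 : y = 1 := by
      rw [h1, conj_eq_one_iff] at he
      calc y = c * (c⁻¹ * y * c) * c⁻¹ := by group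
        _ = 1 := by rw [he]; group
    rw [hyd] at hy1
    exact ex.k_not_Q (by rw [← inv_mul_eq_one.1 hy1]; exact ex.q_mem)
  obtain ⟨e', he', hee⟩ := Frame.pow_eq_of_coprime ex.pow_eleven hed
  have he'd : ¬ 11 ∣ e' := fun hd => by
    rw [Nat.mul_mod, Nat.mod_eq_zero_of_dvd hd] at hee
    simp at hee
  obtain ⟨g, hgd⟩ : ∃ g, g = c * y0⁻¹ := ⟨_, rfl⟩
  have hgC : g ∈ centralizer (Q.1 : Set G) := by
    rw [hgd]; exact mul_mem hc (inv_mem (ex.K_iff.1 hy0).1)
  have hgR : g • R = S := by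
    rw [hgd, mul_smul, (ex.K_iff.1 (inv_mem hy0)).2, hcR]
  have hge : g * k ^ e * g⁻¹ = y := by rw [hgd, ← he]; group
  have hgk : g * k * g⁻¹ = k ^ e' * (q⁻¹) ^ e' := by
    calc g * k * g⁻¹ = (g * k ^ e * g⁻¹) ^ e' := by rw [conj_pow, he']
      _ = k ^ e' * (q⁻¹) ^ e' := by
        rw [hge, hyd, (ex.k_Q (inv_mem ex.q_mem)).mul_pow]
        exact (Commute.pow_pow (ex.k_Q (inv_mem ex.q_mem)) e' e').eq
  obtain ⟨d, hd, hdg⟩ := ex.exists_mem_K hgC he'd (by
    rw [hgk, inv_mul_cancel_left]; exact pow_mem (inv_mem ex.q_mem) e')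
  exact ⟨d⁻¹, inv_mem hd, by
    rw [inv_smul_eq_iff, ← hgR, ← mul_smul, (ex.K_iff.1 hdg).2]⟩

theorem card_modCent (ex : Exc P Q R f j k S q) : Nat.card (modCent Q k) = 1331 := by
  refine ex.card_modCent_cases.resolve_left fun h => ?_
  obtain ⟨d, hd, hdS⟩ := ex.exists_modCent_smul
  have hle : Q.1 ⊔ zpowers k ≤ modCent Q k :=
    sup_le ex.Q_le_modCent (zpowers_le.2 ex.k_mem_modCent)
  rw [← eq_of_le_of_card_ge hle (by rw [h, ex.card_E])] at hd
  rw [← SetLike.mem_coe, coe_mul_of_right_le_normalizer_left _ _ ex.zpowers_k_normalizer] at hd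
  obtain ⟨a, ha, b, hb, rfl⟩ := hd
  refine ex.S_not ?_
  rw [← hdS, mul_smul, (ex.K_iff.1 (zpowers_le.2 ex.k_mem hb)).2]
  exact le_of_smul_le (mem_sup_left ha) le_sup_right

/-- The number of members other than `Q` is divisible by 121. -/
theorem dvd_card (ex : Exc P Q R f j k S q) : 121 ∣ Nat.card (Mem P) - 1 := by
  classical
  haveI := Fintype.ofFinite (Mem P)
  set D := modCent Q k with hD
  let p : Mem P → Prop := fun T => T ≠ Q ∧ (k • T).1 ≤ Q.1 ⊔ T.1
  have horb : MulAction.orbit D R = {T | p T} := by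
    ext T
    constructor
    · rintro ⟨⟨d, hd⟩, rfl⟩
      have hdQ := smul_eq_of_mem_centralizer hd.1
      refine ⟨fun e => ex.ne.symm (MulAction.injective d (e.trans hdQ.symm)), ?_⟩
      show (k • (d • R)).1 ≤ Q.1 ⊔ (d • R).1
      obtain ⟨x, hxd⟩ : ∃ x, x = d * k * d⁻¹ * k⁻¹ := ⟨_, rfl⟩
      have hx : x ∈ Q.1 := hxd ▸ hd.2
      have e : k • (d • R) = x⁻¹ • (d • R) := by
        rw [← mul_smul, ← mul_smul, show x⁻¹ * d = k * d * k⁻¹ by rw [hxd]; group,
          mul_smul (k * d) k⁻¹, inv_smul_eq_iff.2 (ex.K_iff.1 ex.k_mem).2.symm]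
      rw [e]
      exact le_of_smul_le (mem_sup_left (inv_mem hx)) le_sup_right
    · rintro ⟨hTQ, hkT⟩
      by_cases hT : T.1 ≤ Q.1 ⊔ R.1
      · obtain ⟨x, hx, hxR⟩ := ex.exists_smul_in_line ex.ne hT hTQ
        exact ⟨⟨x, ex.Q_le_modCent hx⟩, hxR⟩
      · obtain ⟨q', ex'⟩ := ex.exists_exc ex.k_mem ex.k_ne hT hkT
        obtain ⟨d, hd, hdT⟩ := ex'.exists_modCent_smul
        exact ⟨⟨d, hd⟩, hdT⟩
  have hF : Nat.card {T : Mem P // p T} = 121 := by
    have h1 := (MulAction.stabilizer D R).card_mul_index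
    rw [MulAction.index_stabilizer, horb, ← Nat.card_coe_set_eq, ex.card_modCent,
      show MulAction.stabilizer D R = (zpowers k).subgroupOf D from by
        ext d
        exact ⟨fun h => ex.modCent_fix d.2 h, fun h => (ex.K_iff.1 (zpowers_le.2 ex.k_mem h)).2⟩,
      Nat.card_congr (subgroupOfEquivOfLe (zpowers_le.2 ex.k_mem_modCent)).toEquiv,
      Nat.card_zpowers, ex.order_k] at h1
    change 11 * Nat.card {T : Mem P // p T} = 1331 at h1
    omega
  set E := Q.1 ⊔ zpowers k with hE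
  have hEk : ∀ e ∈ E, e • Q = Q ∧ e * k = k * e := by
    intro e he
    rw [← SetLike.mem_coe, coe_mul_of_right_le_normalizer_left _ _ ex.zpowers_k_normalizer] at he
    obtain ⟨a, ha, b, ⟨m, rfl⟩, rfl⟩ := he
    refine ⟨smul_eq_of_mem_centralizer (mul_mem (ex.Q_le_centralizer ha) (zpow_mem ex.k_cent m)), ?_⟩
    exact Commute.mul_left (ex.k_Q ha) (Commute.zpow_left rfl m)
  have hstab : ∀ e ∈ E, ∀ T, ¬ p T ∧ T ≠ Q → ¬ p (e • T) ∧ e • T ≠ Q := by
    intro e he T hT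
    have h1 : ∀ e ∈ E, ∀ T, p T → p (e • T) := by
      intro e he T hT
      obtain ⟨heQ, hek⟩ := hEk e he
      refine ⟨fun h => hT.1 (MulAction.injective e (h.trans heQ.symm)), ?_⟩
      rw [← mul_smul, ← hek, mul_smul]
      rintro _ ⟨z, hz, rfl⟩
      have hmap : (Q.1 ⊔ T.1).map (MulAut.conj e).toMonoidHom = Q.1 ⊔ (e • T).1 := by
        rw [Subgroup.map_sup, ← Mem.smul_val, ← Mem.smul_val, heQ]
      rw [← hmap]
      exact ⟨z, hT.2 hz, rfl⟩
    refine ⟨fun h => hT.1 ?_, fun h => hT.2 (MulAction.injective e (h.trans (hEk e he).1.symm))⟩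
    have := h1 e⁻¹ (inv_mem he) _ h
    rwa [inv_smul_smul] at this
  let O : SubMulAction E (Mem P) :=
    { carrier := {T | ¬ p T ∧ T ≠ Q}
      smul_mem' := fun e T hT => hstab e e.2 T hT }
  have hfree : ∀ T : O, MulAction.stabilizer E T = ⊥ := by
    intro T
    refine (Subgroup.eq_bot_iff_forall _).2 fun e he => Subtype.ext ?_
    obtain ⟨hpT, hTQ⟩ := T.2
    have heT : (e : G) • (T : Mem P) = T := congrArg Subtype.val (MulAction.mem_stabilizer_iff.1 he)
    obtain ⟨a, ha, b, hb, hab⟩ := show (e : G) ∈ (Q.1 : Set G) * (zpowers k : Set G) by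
      rw [← coe_mul_of_right_le_normalizer_left _ _ ex.zpowers_k_normalizer]; exact e.2
    obtain ⟨m, hm⟩ := mem_powers_iff_mem_zpowers.2 hb
    have hm' : k ^ m = b := hm
    have hab' : a * b = (e : G) := hab
    rw [← hab', mul_smul, ← eq_inv_smul_iff, ← hm'] at heT
    by_cases hmd : 11 ∣ m
    · obtain ⟨t, rfl⟩ := hmd
      rw [pow_mul, ex.pow_eleven, one_pow, one_smul, eq_inv_smul_iff] at heT
      show (e : G) = 1
      rw [← hab', ← hm', pow_mul, ex.pow_eleven, one_pow, mul_one]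
      by_contra ha1
      exact hTQ (ex.eq_of_smul_eq ha1 ha heT).symm
    · exfalso
      refine hpT ⟨hTQ, ?_⟩
      obtain ⟨m', hm'', -⟩ := Frame.pow_eq_of_coprime ex.pow_eleven hmd
      have hfix : a * k ^ m ∈ MulAction.stabilizer G (T : Mem P) := by
        show (a * k ^ m) • (T : Mem P) = T
        rw [mul_smul, heT, smul_inv_smul]
      have h2 := pow_mem hfix m'
      rw [(Commute.pow_right (ex.k_Q ha) m).mul_pow, hm''] at h2
      have h3 : k • (T : Mem P) = (a ^ m')⁻¹ • (T : Mem P) := by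
        rw [eq_inv_smul_iff, ← mul_smul]; exact h2
      rw [h3]
      exact le_of_smul_le (mem_sup_left (inv_mem (pow_mem ha m'))) le_sup_right
  have hO : 121 ∣ Nat.card O := by
    rw [Nat.card_congr (MulAction.selfEquivOrbitsQuotientProd hfree), Nat.card_prod, ex.card_E]
    exact dvd_mul_left 121 _
  have hsplit : Nat.card (Mem P) - 1 = Nat.card {T : Mem P // p T} + Nat.card O := by
    rw [← card_ne_point Q]
    show _ = _ + Nat.card {T : Mem P // ¬ p T ∧ T ≠ Q}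
    rw [Nat.card_congr (Equiv.sumCompl (fun T : {T : Mem P // T ≠ Q} => p T.1)).symm, Nat.card_sum]
    congr 1
    · exact Nat.card_congr
        { toFun := fun T => ⟨T.1.1, T.2⟩
          invFun := fun T => ⟨⟨T.1, T.2.1⟩, T.2⟩
          left_inv := fun T => rfl
          right_inv := fun T => rfl }
    · exact Nat.card_congr
        { toFun := fun T => ⟨T.1.1, T.2, T.1.2⟩
          invFun := fun T => ⟨⟨T.1, T.2.2⟩, T.2.1⟩
          left_inv := fun T => rfl
          right_inv := fun T => rfl }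
  rw [hsplit, hF]
  exact dvd_add dvd_rfl hO

/-- In an odd `K`, only `k` itself is conjugate to `k` among its powers. -/
theorem normalizes_K (ex : Exc P Q R f j k S q) (hodd : Odd (Nat.card (lineCent Q R))) {g : G}
    (hg : g ∈ lineCent Q R) {e : ℕ} (he : g * k * g⁻¹ = k ^ e) : g * k * g⁻¹ = k := by
  have hed : ¬ 11 ∣ e := fun hd => by
    obtain ⟨m, rfl⟩ := hd
    rw [pow_mul, ex.pow_eleven, one_pow, conj_eq_one_iff] at he
    exact ex.k_ne he
  have hpow : ∀ m : ℕ, g ^ m * k * (g ^ m)⁻¹ = k ^ e ^ m := by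
    intro m
    induction m with
    | zero => simp
    | succ m ih =>
      rw [show g ^ (m + 1) * k * (g ^ (m + 1))⁻¹ = g * (g ^ m * k * (g ^ m)⁻¹) * g⁻¹ by
        rw [pow_succ']; group, ih, ← conj_pow, he, ← pow_mul, pow_succ, mul_comm]
  have hN1 : g ^ Nat.card (lineCent Q R) = 1 :=
    congrArg Subtype.val (pow_card_eq_one' (x := (⟨g, hg⟩ : lineCent Q R)))
  have h1 : e ^ Nat.card (lineCent Q R) % 11 = 1 := by
    have h := hpow (Nat.card (lineCent Q R))
    rw [hN1, one_mul, inv_one, mul_one] at h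
    nth_rewrite 1 [← pow_one k] at h
    have h2 := pow_eq_pow_iff_modEq.1 h
    rw [ex.order_k] at h2
    exact h2.symm
  obtain ⟨c, hc⟩ := hodd
  have key : ∀ r : Fin 11, r.val ≠ 0 → r.val ^ 5 % 11 = 1 ∨ r.val ^ 5 % 11 = 10 := by decide
  have h5 : e ^ 5 % 11 = 1 := by
    rcases key ⟨e % 11, Nat.mod_lt _ (by norm_num)⟩
      (fun h => hed (Nat.dvd_of_mod_eq_zero h)) with h | h
    · rw [Nat.pow_mod]; exact h
    · exfalso
      have h2 : (e ^ 5) ^ Nat.card (lineCent Q R) % 11 = 1 := by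
        rw [← pow_mul, mul_comm, pow_mul, Nat.pow_mod, h1]
      rw [Nat.pow_mod, Nat.pow_mod e 5 11, show (e % 11) ^ 5 % 11 = 10 from h, hc, pow_succ,
        pow_mul, Nat.mul_mod, Nat.pow_mod] at h2
      norm_num at h2
  obtain ⟨i, hi⟩ : ∃ i : ℕ, e * 5 ^ i % 11 = 1 := by
    have key : ∀ r : Fin 11, r.val ^ 5 % 11 = 1 → ∃ i : Fin 5, r.val * 5 ^ i.val % 11 = 1 := by
      decide
    obtain ⟨i, hi⟩ := key ⟨e % 11, Nat.mod_lt _ (by norm_num)⟩ (by rw [← Nat.pow_mod]; exact h5)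
    exact ⟨i.val, by rw [Nat.mul_mod]; simpa [Nat.mul_mod] using hi⟩
  -- `g S` and `f ^ i S` lie on a line through `Q`
  have hgQ : g • Q = Q := smul_eq_of_mem_centralizer (ex.K_iff.1 hg).1
  have hgq : g * q = q * g := ex.K_commute hg (mem_sup_left ex.q_mem)
  have hy1 : (q⁻¹ * k ^ e) • (g • S) = g • S := by
    have e1 : q⁻¹ * k ^ e * g = g * (q⁻¹ * k) := by
      calc q⁻¹ * k ^ e * g = q⁻¹ * (g * k) := by rw [← he]; group
        _ = q⁻¹ * (g * q) * (q⁻¹ * k) := by group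
        _ = g * (q⁻¹ * k) := by rw [hgq]; group
    rw [← mul_smul, e1, mul_smul, ex.mul_smul_S]
  have hy2 : (q⁻¹ * k ^ e) • ((f ^ i) • S) = (f ^ i) • S := by
    have hkf : k ^ e * f ^ i = f ^ i * k ^ e :=
      (Commute.pow_pow (ex.f_commute (ex.K_le_twoStab ex.k_mem)) e i).eq
    have hqf : f ^ i * (q⁻¹) ^ e * (f ^ i)⁻¹ = q⁻¹ := by
      rw [ex.f_act_pow i (pow_mem (inv_mem ex.q_mem) e), ← pow_mul,
        ex.pow_modEq (show e * 5 ^ i ≡ 1 [MOD 11] from hi) (inv_mem ex.q_mem), pow_one]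
    have e1 : q⁻¹ * k ^ e * f ^ i = f ^ i * ((q⁻¹ * k) ^ e) := by
      rw [(ex.k_Q (inv_mem ex.q_mem)).mul_pow, mul_assoc, hkf, ← mul_assoc, ← mul_assoc]
      congr 1
      conv_lhs => arg 1; rw [← hqf]
      group
    rw [← mul_smul, e1, mul_smul, MulAction.mem_stabilizer_iff.1 (pow_mem
      (show q⁻¹ * k ∈ MulAction.stabilizer G S from ex.mul_smul_S) e)]
  have hfiQ : (f ^ i) • Q = Q := MulAction.mem_stabilizer_iff.1 (pow_mem ex.f_mem_twoStab i).1
  have hne1 : q⁻¹ * k ^ e ≠ 1 := fun h => by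
    have h2 : k ^ e ∈ Q.1 := by rw [← inv_mul_eq_one.1 h]; exact ex.q_mem
    have h3 := ex.Q_inter_K h2 (pow_mem ex.k_mem e)
    rw [h3, mul_one, inv_eq_one] at h
    exact ex.q_ne h
  have hle := ex.le_line_of_fixed
    (mul_mem (inv_mem (ex.Q_le_centralizer ex.q_mem)) (pow_mem ex.k_cent e)) hne1
    (fun h => ex.QS (MulAction.injective (f ^ i) (hfiQ.trans h))) hy2 hy1
  by_cases hfi : f ^ i = 1
  · have hi0 : e % 11 = 1 := by
      have := ex.f_act_pow i ex.q_mem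
      rw [hfi, one_mul, inv_one, mul_one] at this
      have h5i : 5 ^ i % 11 = 1 := by
        nth_rewrite 1 [← pow_one q] at this
        have h2 := pow_eq_pow_iff_modEq.1 this
        rw [orderOf_eq_prime (p := 11) (hp := fact_prime_eleven) (ex.Q_pow_eleven ex.q_mem) ex.q_ne]
          at h2
        exact h2.symm
      rw [Nat.mul_mod, h5i, mul_one, Nat.mod_mod] at hi
      exact hi
    rw [he, pow_eq_pow_mod e ex.pow_eleven, hi0, pow_one]
  · exfalso
    have h4 : f ^ (4 * i) = (f ^ i)⁻¹ := eq_inv_of_mul_eq_one_left (by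
      rw [← pow_add, show 4 * i + i = 5 * i by ring, pow_mul, ex.f_pow_five, one_pow])
    refine ex.torus_two_lines hg (i := 4 * i) (fun h => hfi ?_) ex.S_not ?_
    · rw [h4, inv_eq_one] at h; exact h
    · rw [(Commute.pow_right (ex.f_commute (ex.K_le_twoStab hg)) _).eq, h4, mul_smul]
      have hmap : (Q.1 ⊔ ((f ^ i) • S).1).map (MulAut.conj (f ^ i)⁻¹).toMonoidHom = Q.1 ⊔ S.1 := by
        rw [Subgroup.map_sup, ← Mem.smul_val, ← Mem.smul_val, inv_smul_smul,
          inv_smul_eq_iff.2 hfiQ.symm]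
      rw [← hmap, Mem.smul_val]
      exact Subgroup.map_mono hle

/-- A homomorphism of the centraliser of `Q` that is nontrivial on `k`. -/
theorem exists_theta (ex : Exc P Q R f j k S q) (hodd : Odd (Nat.card (lineCent Q R))) :
    ∃ θ : centralizer (Q.1 : Set G) →* Multiplicative (ZMod 11),
      (∀ x (hx : x ∈ centralizer (Q.1 : Set G)), x ∈ Q.1 → θ ⟨x, hx⟩ = 1) ∧
        θ ⟨k, ex.k_cent⟩ ≠ 1 := by
  classical
  haveI : Fact (Nat.Prime 11) := fact_prime_eleven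
  set C := centralizer (Q.1 : Set G) with hC
  set Qs := Q.1.subgroupOf C with hQs
  haveI hQn : Qs.Normal := ⟨fun x hx g => by
    show (g : G) * x * (g : G)⁻¹ ∈ Q.1
    have hx' : (x : G) ∈ Q.1 := hx
    rw [← mem_centralizer_iff.1 g.2 _ hx', mul_inv_cancel_right]
    exact hx'⟩
  set π := QuotientGroup.mk' Qs with hπ
  have hfC : C.map (MulAut.conj f).toMonoidHom = C := by
    refine eq_of_le_of_card_ge ?_
      (le_of_eq (card_map_of_injective (MulAut.conj f).injective).symm)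
    rintro _ ⟨c, hc, rfl⟩
    exact LHyp.centralizer_smul_mem Q ex.f_smul_Q hc
  set a := conjAut C f hfC with ha
  have haQ : Qs.map a.toMonoidHom = Qs :=
    conjAut_map C f hfC ex.Q_le_centralizer (congrArg Subtype.val ex.f_smul_Q)
  let φ : MulAut (C ⧸ Qs) := QuotientGroup.congr Qs Qs a haQ
  have hφ : ∀ c : C, φ (π c) = π (a c) := fun c => rfl
  have hφm : ∀ (m : ℕ) (c : C), ∃ c' : C, (φ ^ m) (π c) = π c' ∧
      (c' : G) = f ^ m * c * (f ^ m)⁻¹ := by
    intro m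
    induction m with
    | zero => exact fun c => ⟨c, rfl, by simp⟩
    | succ m ih =>
      intro c
      obtain ⟨c', h1, h2⟩ := ih c
      refine ⟨a c', by rw [pow_succ', MulAut.mul_apply, h1, hφ], ?_⟩
      rw [ha, conjAut_coe, h2, pow_succ']
      group
  have hφ5 : φ ^ 5 = 1 := MulEquiv.ext fun x => by
    obtain ⟨c, rfl⟩ := QuotientGroup.mk'_surjective Qs x
    obtain ⟨c', h1, h2⟩ := hφm 5 c
    rw [h1, show c' = c from Subtype.ext (by rw [h2, ex.f_pow_five]; simp)]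
    rfl
  set k0 : C := ⟨k, ex.k_cent⟩ with hk0
  have hk1 : π k0 ≠ 1 := fun h => ex.k_not_Q ((QuotientGroup.eq_one_iff k0).1 h)
  have hok : orderOf (π k0) = 11 := orderOf_eq_prime (by
    rw [← map_pow, show k0 ^ 11 = 1 from Subtype.ext ex.pow_eleven, map_one]) hk1
  have hfk : φ (π k0) = π k0 := by
    rw [hφ, show a k0 = k0 from Subtype.ext (by
      rw [ha, conjAut_coe, ← ex.f_commute (ex.K_le_twoStab ex.k_mem), mul_inv_cancel_right])]
  have hmem : ∀ c : C, π c ∈ centralizer ({π k0} : Set (C ⧸ Qs)) ↔ (c : G) ∈ modCent Q k := by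
    intro c
    have heq : π c * π k0 * (π c)⁻¹ * (π k0)⁻¹ = π (c * k0 * c⁻¹ * k0⁻¹) := by
      simp only [map_mul, map_inv]
    rw [mem_centralizer_singleton_iff, ← mul_inv_eq_iff_eq_mul, ← mul_inv_eq_one, heq]
    exact (QuotientGroup.eq_one_iff _).trans ⟨fun h => ⟨c.2, h⟩, fun h => h.2⟩
  have hcard : Nat.card (centralizer ({π k0} : Set (C ⧸ Qs))) = 121 := by
    set W := centralizer ({π k0} : Set (C ⧸ Qs)) with hW
    have h0 : W.comap π = (modCent Q k).subgroupOf C := by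
      ext c
      exact hmem c
    have h1 := (W.comap π).card_mul_index
    rw [index_comap_of_surjective _ (QuotientGroup.mk'_surjective _), h0,
      Nat.card_congr (subgroupOfEquivOfLe (fun g hg => hg.1 : modCent Q k ≤ C)).toEquiv,
      ex.card_modCent, card_eq_card_quotient_mul_card_subgroup Qs,
      Nat.card_congr (subgroupOfEquivOfLe ex.Q_le_centralizer).toEquiv, ex.mem_card,
      ← W.card_mul_index] at h1
    refine Nat.eq_of_mul_eq_mul_right (Nat.pos_of_ne_zero (index_ne_zero_of_finite (H := W))) ?_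
    omega
  have hfix : ∀ x ∈ centralizer ({π k0} : Set (C ⧸ Qs)), φ x = x → x ∈ zpowers (π k0) := by
    intro x hx hxf
    obtain ⟨c, rfl⟩ := QuotientGroup.mk'_surjective Qs x
    rw [hφ] at hxf
    have h0 := QuotientGroup.eq.1 hxf
    have h1 : (f * (c : G) * f⁻¹)⁻¹ * c ∈ Q.1 := h0
    obtain ⟨h, hh, hfh⟩ := exists_commute_mem ex.f_pow_five {h : G | (c : G)⁻¹ * h ∈ Q.1} (by
      rw [Nat.card_congr (α := {h : G | (c : G)⁻¹ * h ∈ Q.1}) (β := Q.1)
        { toFun := fun h => ⟨(c : G)⁻¹ * h, h.2⟩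
          invFun := fun d => ⟨(c : G) * d, by
            show (c : G)⁻¹ * ((c : G) * d) ∈ Q.1
            rw [inv_mul_cancel_left]; exact d.2⟩
          left_inv := fun h => Subtype.ext (mul_inv_cancel_left _ _)
          right_inv := fun d => Subtype.ext (inv_mul_cancel_left _ _) }, ex.mem_card]
      norm_num) fun h hh => by
      show (c : G)⁻¹ * (f * h * f⁻¹) ∈ Q.1
      have h2 : f * ((c : G)⁻¹ * h) * f⁻¹ ∈ Q.1 := by
        rw [ex.f_act_Q _ hh]; exact pow_mem hh 5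
      rw [show (c : G)⁻¹ * (f * h * f⁻¹) =
        ((f * (c : G) * f⁻¹)⁻¹ * c)⁻¹ * (f * ((c : G)⁻¹ * h) * f⁻¹) by group]
      exact mul_mem (inv_mem h1) h2
    have hhC : h ∈ C := by
      rw [show h = c * ((c : G)⁻¹ * h) by group]
      exact mul_mem c.2 (ex.Q_le_centralizer hh)
    have hhR : h • R = R := (ex.f_fixed_points (S := h • R) (by
      rw [← mul_smul, hfh, mul_smul, ex.f_smul_R])).resolve_left fun e =>
      ex.ne.symm (MulAction.injective h (e.trans (smul_eq_of_mem_centralizer hhC).symm))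
    have hhD : h ∈ modCent Q k := by
      rw [show h = c * ((c : G)⁻¹ * h) by group]
      exact mul_mem ((hmem c).1 hx) (ex.Q_le_modCent hh)
    obtain ⟨m, hm⟩ := mem_powers_iff_mem_zpowers.2 (ex.modCent_fix hhD hhR)
    have hm' : k ^ m = h := hm
    have e : π c = π k0 ^ m := by
      rw [← map_pow]
      refine QuotientGroup.eq.2 ?_
      show (c : G)⁻¹ * ((k0 ^ m : C) : G) ∈ Q.1
      rw [SubgroupClass.coe_pow, show (k0 : G) = k from rfl, hm']
      exact hh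
    rw [e]
    exact pow_mem (mem_zpowers _) m
  have hN : normalizer (zpowers (π k0) : Set (C ⧸ Qs)) = centralizer ({π k0} : Set (C ⧸ Qs)) := by
    refine le_antisymm (fun x hx => ?_) ?_
    · obtain ⟨c, rfl⟩ := QuotientGroup.mk'_surjective Qs x
      obtain ⟨e, he⟩ := mem_powers_iff_mem_zpowers.2
        ((mem_normalizer_iff.1 hx _).1 (mem_zpowers (π k0)))
      have he' : π k0 ^ e = π c * π k0 * (π c)⁻¹ := he
      have hed : ¬ 11 ∣ e := fun hd => hk1 (by
        obtain ⟨m, rfl⟩ := hd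
        rw [pow_mul, ← map_pow, show k0 ^ 11 = 1 from Subtype.ext ex.pow_eleven, map_one, one_pow,
          eq_comm, conj_eq_one_iff] at he'
        exact he')
      rw [← map_inv, ← map_mul, ← map_mul, ← map_pow] at he'
      have h0 := QuotientGroup.eq.1 he'
      have h1 : (k ^ e)⁻¹ * ((c : G) * k * (c : G)⁻¹) ∈ Q.1 := h0
      obtain ⟨d, hd, hdc⟩ := ex.exists_mem_K c.2 hed h1
      obtain ⟨q1, hq1d⟩ : ∃ q1, q1 = (k ^ e)⁻¹ * ((c : G) * k * (c : G)⁻¹) := ⟨_, rfl⟩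
      rw [← hq1d] at h1
      have hck : (c : G) * k * (c : G)⁻¹ = k ^ e * q1 := by rw [hq1d, mul_inv_cancel_left]
      have hdk : d * k * d⁻¹ = d * k * d⁻¹ * k⁻¹ * k := by group
      have hke : (k ^ e)⁻¹ * (d * c * k * (d * c)⁻¹) ∈ Q.1 := by
        rw [show d * (c : G) * k * (d * c)⁻¹ = d * ((c : G) * k * (c : G)⁻¹) * d⁻¹ by group, hck,
          show d * (k ^ e * q1) * d⁻¹ = (d * k * d⁻¹) ^ e * (d * q1 * d⁻¹) by rw [conj_pow]; group,
          hdk, (ex.k_Q hd.2).mul_pow, (Commute.pow_pow (ex.k_Q hd.2) e e).eq, mul_assoc,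
          inv_mul_cancel_left, ← mem_centralizer_iff.1 hd.1 q1 h1, mul_inv_cancel_right]
        exact mul_mem (pow_mem hd.2 e) h1
      have hh := ex.Q_inter_K hke (mul_mem (inv_mem (pow_mem ex.k_mem e))
        (mul_mem (mul_mem hdc ex.k_mem) (inv_mem hdc)))
      have h2 := ex.normalizes_K hodd hdc (inv_mul_eq_one.1 hh).symm
      have hkk : k ^ e = k := (inv_mul_eq_one.1 hh).trans h2
      refine (hmem c).2 ⟨c.2, ?_⟩
      rw [hck, hkk, ← (ex.k_Q h1).eq, mul_inv_cancel_right]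
      exact h1
    · rw [← centralizer_closure, ← zpowers_eq_closure]
      exact centralizer_le_normalizer _
  obtain ⟨θ, hθ⟩ := LChain.exists_hom φ hφ5 (π k0) hok hfk hcard hfix hN
  refine ⟨θ.comp π, fun x hx hxQ => ?_, hθ⟩
  show θ (π ⟨x, hx⟩) = 1
  rw [show π ⟨x, hx⟩ = 1 from (QuotientGroup.eq_one_iff _).2 hxQ, map_one]

end Exc

namespace Frame

variable {Q R : Mem P} {f j : G} [Finite G]

theorem dvd_of_exceptional (fr : Frame P Q R f j) (hex : Exceptional Q R) {r : ℕ}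
    (hn : Nat.card (Mem P) = 11 * r + 1) : 11 ∣ r := by
  obtain ⟨k, hk, hk1, S, hS, hkS⟩ := hex
  obtain ⟨q, ex⟩ := fr.exists_exc hk hk1 hS hkS
  have := ex.dvd_card
  omega

end Frame

end Cfsg.Agent.ElevenPairs
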