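import Cfsg.Agent.Lib.ElevenPairs.LCase.Frame
import Cfsg.Agent.S0885
import Cfsg.Agent.Lib.SmallSimple.Basic
import Mathlib

/-!
# The small two point stabilisers

If `K = 1` and the two point stabiliser is the torus, the members are a Zassenhaus configuration with
`e = 5`, which is too small. If an involution `u` inverts the members and acts without fixed points on
`K`, its fixed members are such a configuration, which forces 672 members, and then `u` is an odd
permutation of the lines.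
-/

set_option autoImplicit false
set_option linter.style.haveILetI false
set_option linter.unusedSectionVars false

namespace Cfsg.Agent.ElevenPairs

open Subgroup

universe u

variable {G : Type u} [Group G] {P : Subgroup G}

/-- An involution fixes a number of points of the parity of the set. -/
theorem card_fixed_parity {α : Type*} [Finite α] [MulAction G α] {x : G} (hx : x * x = 1) :
    Nat.card α % 2 = Nat.card {a : α // x • a = a} % 2 := by
  haveI : Fact (Nat.Prime 2) := ⟨Nat.prime_two⟩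
  have hp : IsPGroup 2 (zpowers x) := by
    rintro ⟨a, k, rfl⟩
    refine ⟨1, Subtype.ext ?_⟩
    show (x ^ k) ^ (2 ^ 1 : ℕ) = 1
    rw [pow_one, ← zpow_natCast, ← zpow_mul, mul_comm, zpow_mul, zpow_natCast, pow_two, hx, one_zpow]
  have h := hp.card_modEq_card_fixedPoints α
  rw [Nat.card_congr (Equiv.subtypeEquivRight (p := fun a : α => a ∈ MulAction.fixedPoints (zpowers x) α)
    (q := fun a => x • a = a) fun a => ⟨fun h => h ⟨x, mem_zpowers x⟩, fun h => by
      rintro ⟨y, k, rfl⟩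
      exact MulAction.mem_stabilizer_iff.1 (Subgroup.zpow_mem (MulAction.stabilizer G a) h k)⟩)] at h
  exact h

/-- Ordered pairs of distinct points. -/
theorem card_offDiag {α : Type*} [Finite α] :
    Nat.card {p : α × α // p.1 ≠ p.2} = Nat.card α * (Nat.card α - 1) := by
  refine card_of_fibres (fun p : {p : α × α // p.1 ≠ p.2} => p.1.1) _ fun a =>
    (Nat.card_congr ?_).trans (card_ne_point a)
  exact
    { toFun := fun p => ⟨p.1.1.2, fun e => p.1.2 (p.2.trans e.symm)⟩
      invFun := fun b => ⟨⟨(a, b.1), fun e => b.2 e.symm⟩, rfl⟩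
      left_inv := fun p => Subtype.ext (Subtype.ext (Prod.ext p.2.symm rfl))
      right_inv := fun b => rfl }

namespace Frame

variable {Q R : Mem P} {f j : G} [Finite G]

theorem exists_pair_smul (fr : Frame P Q R f j) {S T : Mem P} (hne : S ≠ T) :
    ∃ g : G, g • Q = S ∧ g • R = T := by
  obtain ⟨g, hg⟩ := exists_smul_eq Q S
  have hgR : g • R ≠ S := fun e => fr.ne (MulAction.injective g (hg.trans e.symm))
  obtain ⟨c, hc, hcR⟩ := fr.exists_centralizing hgR hne.symm
  exact ⟨c * g, by rw [mul_smul, hg, smul_eq_of_mem_centralizer hc], by rw [mul_smul, hcR]⟩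

theorem faithful (fr : Frame P Q R f j) {g : G} (hg : ∀ S : Mem P, g • S = S) : g = 1 := by
  haveI := fr.simple
  let φ := MulAction.toPermHom G (Mem P)
  have hgk : g ∈ φ.ker := MonoidHom.mem_ker.2 (Equiv.ext hg)
  rcases φ.normal_ker.eq_bot_or_eq_top with hb | ht
  · rw [hb] at hgk
    exact mem_bot.1 hgk
  · obtain ⟨c, hc⟩ := exists_smul_eq Q R
    have h1 : c ∈ φ.ker := ht ▸ mem_top c
    have h2 : c • Q = Q := Equiv.ext_iff.1 (MonoidHom.mem_ker.1 h1) Q
    exact absurd (h2.symm.trans hc) fr.ne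

theorem zpow_f_fixed (fr : Frame P Q R f j) {i : ℕ} {S : Mem P} (hQ : S ≠ Q) (hR : S ≠ R)
    (h : f ^ i • S = S) : f ^ i = 1 := by
  haveI : Fact (Nat.Prime 5) := ⟨by norm_num⟩
  by_contra hne
  have hgen := zpowers_eq_top_of_prime_card (p := 5) (by rw [Nat.card_zpowers, fr.f_order])
    (g := (⟨f ^ i, pow_mem (mem_zpowers f) i⟩ : zpowers f)) (fun e => hne (congrArg Subtype.val e))
  have hf : f • S = S := by
    have hmem : (⟨f, mem_zpowers f⟩ : zpowers f) ∈ zpowers (⟨f ^ i, pow_mem (mem_zpowers f) i⟩ : zpowers f) :=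
      hgen ▸ mem_top _
    obtain ⟨m, hm⟩ := hmem
    rw [← show (f ^ i) ^ m = f from congrArg Subtype.val hm]
    exact MulAction.mem_stabilizer_iff.1 (Subgroup.zpow_mem (MulAction.stabilizer G S) h m)
  rcases fr.f_fixed_points hf with e | e
  exacts [hQ e, hR e]

/-- `K = 1` and no inverting element: too small. -/
theorem false_of_bot (fr : Frame P Q R f j) (hK : lineCent Q R = ⊥)
    (hno : ∀ a ∈ twoStab Q R, ∃ i : ℕ, (f ^ i)⁻¹ * a ∈ lineCent Q R) : False := by
  classical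
  haveI := fr.simple
  haveI := Fintype.ofFinite (Mem P)
  have htwo : ∀ a ∈ twoStab Q R, ∃ i : ℕ, a = f ^ i := fun a ha => by
    obtain ⟨i, hi⟩ := hno a ha
    rw [hK, mem_bot, inv_mul_eq_one] at hi
    exact ⟨i, hi.symm⟩
  have hstab : twoStab Q R = zpowers f := le_antisymm
    (fun a ha => by obtain ⟨i, rfl⟩ := htwo a ha; exact pow_mem (mem_zpowers f) i)
    (zpowers_le.2 fr.f_mem_twoStab)
  have hf1 : f ≠ 1 := fun e => by have := fr.f_order; rw [e, orderOf_one] at this; omega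
  have hn := fr.card_members_ge
  have hZ : Cfsg.IsZassenhausGroup G (Mem P) := by
    refine ⟨⟨fun {a b} hab => ?_⟩, MulAction.is_two_pretransitive_iff.2 fun {a b c d} hab hcd => ?_,
      fun g a b c hab hbc hac ha hb hc => ?_, ⟨f, hf1, Q, R, fr.ne, fr.f_smul_Q, fr.f_smul_R⟩, ?_⟩
    · refine inv_mul_eq_one.1 (fr.faithful fun S => ?_)
      rw [mul_smul, ← hab S, inv_smul_smul]
    · obtain ⟨g, hga, hgb⟩ := fr.exists_pair_smul hab
      obtain ⟨k, hkc, hkd⟩ := fr.exists_pair_smul hcd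
      exact ⟨k * g⁻¹, by rw [← hga, mul_smul, inv_smul_smul, hkc], by rw [← hgb, mul_smul, inv_smul_smul, hkd]⟩
    · obtain ⟨w, hwa, hwb⟩ := fr.exists_pair_smul hab
      have hfix : ∀ X : Mem P, g • (w • X) = w • X → (w⁻¹ * g * w) • X = X := fun X h => by
        rw [mul_smul, mul_smul, h, inv_smul_smul]
      obtain ⟨i, hi⟩ := htwo (w⁻¹ * g * w)
        ⟨hfix Q (by rw [hwa]; exact ha), hfix R (by rw [hwb]; exact hb)⟩
      have h3 : (w⁻¹ * g * w) • (w⁻¹ • c) = w⁻¹ • c := hfix _ (by rw [smul_inv_smul]; exact hc)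
      rw [hi] at h3
      have h1 := fr.zpow_f_fixed (fun e => hac (by rw [← hwa, ← e, smul_inv_smul]))
        (fun e => hbc (by rw [← hwb, ← e, smul_inv_smul])) h3
      rw [h1] at hi
      calc g = w * (w⁻¹ * g * w) * w⁻¹ := by group
        _ = 1 := by rw [hi]; group
    · intro N hN htr
      rcases hN.eq_bot_or_eq_top with rfl | rfl
      · obtain ⟨⟨g, hg⟩, hgQ⟩ := htr.exists_smul_eq Q R
        rw [mem_bot] at hg
        subst hg
        exact absurd ((one_smul G Q).symm.trans hgQ) fr.ne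
      · exact ⟨Q, fun h => hf1 (by
          have h1 : (⟨f, mem_top f⟩ : (⊤ : Subgroup G)) ∈ MulAction.stabilizer (⊤ : Subgroup G) Q :=
            fr.f_smul_Q
          rw [h, mem_bot] at h1
          exact congrArg Subtype.val h1)⟩
  have hH : Nat.card (centralizer (Q.1 : Set G)) + 1 = Fintype.card (Mem P) := by
    rw [fr.card_centralizer, hK, card_bot, mul_one, ← Nat.card_eq_fintype_card]
    omega
  have h12 := fr.twelve_dvd
  rcases S0885.result hZ fr.ne (Nat.card (Mem P) - 1) 5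
      (by rw [← Nat.card_eq_fintype_card]; omega)
      (by rw [show (MulAction.stabilizer G Q ⊓ MulAction.stabilizer G R : Subgroup G) = zpowers f from
        hstab, Nat.card_zpowers, fr.f_order]) (by decide) (centralizer (Q.1 : Set G))
      (fun c hc => smul_eq_of_mem_centralizer hc) hH
      (fun v hv hv1 c hc => by
        by_contra hcQ
        obtain ⟨w, hw, hwc⟩ := fr.exists_centralizing hcQ fr.ne.symm
        have h1 : w * v * w⁻¹ ∈ lineCent Q R := fr.K_iff.2
          ⟨mul_mem (mul_mem hw hv) (inv_mem hw), by rw [← hwc, mul_smul, mul_smul, inv_smul_smul, hc]⟩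
        rw [hK, mem_bot, conj_eq_one_iff] at h1
        exact hv1 h1) with h | ⟨h2, ⟨a, b, hab⟩, -⟩
  · omega
  · obtain ⟨k, hk⟩ := IsPGroup.iff_card.1 h2
    rcases Nat.eq_zero_or_pos k with rfl | hk0
    · rw [pow_zero] at hk
      haveI := (Nat.card_eq_one_iff_unique.1 hk).1
      exact hab (Subsingleton.elim _ _)
    · obtain ⟨m, hm⟩ : 2 ∣ 2 ^ k := dvd_pow_self 2 hk0.ne'
      rw [hk, hm, ← Nat.card_eq_fintype_card] at hH
      omega

end Frame

/-! ### The fixed members of an inverting involution -/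

/-- The members fixed by `u`. -/
abbrev Fixed (P : Subgroup G) (u : G) : Type u := {S : Mem P // u • S = S}

instance fixedAction (u : G) : MulAction (centralizer ({u} : Set G)) (Fixed P u) where
  smul g S := ⟨(g : G) • S.1, by
    rw [smul_smul, ← mem_centralizer_singleton_iff.1 g.2, mul_smul, S.2]⟩
  one_smul S := Subtype.ext (one_smul G S.1)
  mul_smul g k S := Subtype.ext (mul_smul (g : G) (k : G) S.1)

/-- The hypotheses on the inverting involution. -/
structure Inverting (P : Subgroup G) (Q R : Mem P) (f j u : G) : Prop extends Frame P Q R f j where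
  u_mem : u ∈ twoStab Q R
  u_sq : u * u = 1
  u_act : ∀ x ∈ Q.1, u * x * u⁻¹ = x⁻¹
  odd_K : Odd (Nat.card (lineCent Q R))
  cent_u : ∀ k ∈ lineCent Q R, u * k = k * u → k = 1

namespace Inverting

variable {Q R : Mem P} {f j u : G} [Finite G]

theorem u_inv (iv : Inverting P Q R f j u) : u⁻¹ = u := inv_eq_of_mul_eq_one_right iv.u_sq

theorem u_ne_one (iv : Inverting P Q R f j u) : u ≠ 1 := fun e => by
  have := iv.modEq_of_pow_eq (Q := Q) (a := 2) (b := 0) fun x hx => by
    have h1 := iv.u_act x hx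
    rw [e, one_mul, inv_one, mul_one] at h1
    rw [pow_two, pow_zero]
    nth_rewrite 1 [h1]
    exact inv_mul_cancel x
  exact absurd this (by decide)

theorem conj_mem_K (iv : Inverting P Q R f j u) {a k : G} (ha : a ∈ twoStab Q R)
    (hk : k ∈ lineCent Q R) : a * k * a⁻¹ ∈ lineCent Q R :=
  iv.K_iff.2 ⟨LHyp.centralizer_smul_mem Q ha.1 (iv.K_iff.1 hk).1, by
    rw [mul_smul, mul_smul, inv_smul_eq_iff.2 (show a • R = R from ha.2).symm, (iv.K_iff.1 hk).2,
      show a • R = R from ha.2]⟩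

/-- `u` inverts `K`. -/
theorem u_K (iv : Inverting P Q R f j u) {k : G} (hk : k ∈ lineCent Q R) : u * k * u⁻¹ = k⁻¹ := by
  let θ : lineCent Q R → lineCent Q R := fun a =>
    ⟨(a : G)⁻¹ * (u * a * u⁻¹), mul_mem (inv_mem a.2) (iv.conj_mem_K iv.u_mem a.2)⟩
  have hθ : Function.Injective θ := by
    intro a b hab
    have h : (a : G)⁻¹ * (u * a * u⁻¹) = (b : G)⁻¹ * (u * b * u⁻¹) := congrArg Subtype.val hab
    refine Subtype.ext (mul_inv_eq_one.1 (iv.cent_u _ (mul_mem b.2 (inv_mem a.2)) ?_)).symm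
    calc u * ((b : G) * (a : G)⁻¹) = (u * b * u⁻¹) * (u * a * u⁻¹)⁻¹ * u := by group
      _ = (b : G) * ((b : G)⁻¹ * (u * b * u⁻¹)) * (u * a * u⁻¹)⁻¹ * u := by group
      _ = (b : G) * ((a : G)⁻¹ * (u * a * u⁻¹)) * (u * a * u⁻¹)⁻¹ * u := by rw [h]
      _ = (b : G) * (a : G)⁻¹ * u := by group
  obtain ⟨⟨a, ha⟩, hak⟩ := Finite.surjective_of_injective hθ ⟨k, hk⟩
  have e : a⁻¹ * (u * a * u⁻¹) = k := congrArg Subtype.val hak
  calc u * k * u⁻¹ = u * (a⁻¹ * (u * a * u⁻¹)) * u⁻¹ := by rw [e]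
    _ = u * a⁻¹ * u⁻¹ * (u * u) * a * (u * u)⁻¹ := by group
    _ = (u * a * u⁻¹)⁻¹ * a := by rw [iv.u_sq]; group
    _ = k⁻¹ := by rw [← e]; group

theorem exists_sqrt (iv : Inverting P Q R f j u) {k : G} (hk : k ∈ lineCent Q R) :
    ∃ m ∈ lineCent Q R, m * m = k ∧ m * u * m⁻¹ = k * u := by
  obtain ⟨c, hc⟩ := iv.odd_K
  have ho : k ^ Nat.card (lineCent Q R) = 1 :=
    congrArg Subtype.val (pow_card_eq_one' (x := (⟨k, hk⟩ : lineCent Q R)))
  refine ⟨k ^ (c + 1), pow_mem hk _, ?_, ?_⟩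
  · rw [← pow_add, show c + 1 + (c + 1) = Nat.card (lineCent Q R) + 1 by omega, pow_succ, ho, one_mul]
  · have e : u * (k ^ (c + 1))⁻¹ = k ^ (c + 1) * u := by
      have h := iv.u_K (inv_mem (pow_mem hk (c + 1)))
      rw [inv_inv, mul_inv_eq_iff_eq_mul] at h
      exact h
    rw [mul_assoc, e, ← mul_assoc, ← pow_add,
      show c + 1 + (c + 1) = Nat.card (lineCent Q R) + 1 by omega, pow_succ, ho, one_mul]

/-- The two point stabiliser. -/
theorem twoStab_cases (iv : Inverting P Q R f j u) {a : G} (ha : a ∈ twoStab Q R) :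
    ∃ i : ℕ, ∃ k ∈ lineCent Q R, a = f ^ i * k ∨ a = f ^ i * k * u := by
  obtain ⟨k, hk⟩ := iv.exists_exponent ha.1
  by_cases h5 : k ^ 5 ≡ 1 [MOD 11]
  · obtain ⟨i, hi⟩ := iv.exists_decomp ha hk h5
    exact ⟨i, _, hi, Or.inl (by group)⟩
  · have hk' : ∀ x ∈ Q.1, a * u * x * (a * u)⁻¹ = x ^ (10 * k) := fun x hx => by
      rw [show a * u * x * (a * u)⁻¹ = a * (u * x * u⁻¹) * a⁻¹ by group, iv.u_act x hx, ← conj_inv,
        hk x hx, pow_mul, eq_comm]
      refine (inv_eq_of_mul_eq_one_right ?_).symm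
      rw [← pow_mul, ← pow_add, iv.pow_modEq (b := 0) (show k + 10 * k ≡ 0 [MOD 11] from
        Nat.modEq_zero_iff_dvd.2 ⟨k, by ring⟩) hx, pow_zero]
    have h5' : (10 * k) ^ 5 ≡ 1 [MOD 11] := by
      have key : ∀ r : Fin 11, r.val ≠ 0 → ¬ r.val ^ 5 % 11 = 1 → (10 * r.val) ^ 5 % 11 = 1 := by decide
      have h := key ⟨k % 11, Nat.mod_lt _ (by norm_num)⟩ (fun h0 => ?_)
        (fun h1 => h5 (show k ^ 5 % 11 = 1 % 11 by rw [Nat.pow_mod]; exact h1))
      · show (10 * k) ^ 5 % 11 = 1 % 11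
        rw [Nat.pow_mod, Nat.mul_mod] at h ⊢
        simpa using h
      · haveI : Nontrivial Q.1 := Finite.one_lt_card_iff_nontrivial.1 (by rw [iv.mem_card]; norm_num)
        obtain ⟨⟨x, hx⟩, hx1⟩ := exists_ne (1 : Q.1)
        refine hx1 (Subtype.ext (conj_eq_one_iff.1 (?_ : a * x * a⁻¹ = 1)))
        rw [hk x hx, iv.pow_modEq (show k ≡ 0 [MOD 11] from h0) hx, pow_zero]
    obtain ⟨i, hi⟩ := iv.exists_decomp (mul_mem ha iv.u_mem) hk' h5'
    refine ⟨i, _, hi, Or.inr ?_⟩
    calc a = a * (u * u) := by rw [iv.u_sq, mul_one]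
      _ = f ^ i * ((f ^ i)⁻¹ * (a * u)) * u := by group

theorem f_pow_K (iv : Inverting P Q R f j u) (i : ℕ) {k : G} (hk : k ∈ lineCent Q R) :
    k * f ^ i = f ^ i * k :=
  (Commute.pow_right (iv.f_commute (iv.K_le_twoStab hk)) i).eq

theorem f_pow_u (iv : Inverting P Q R f j u) (i : ℕ) : u * f ^ i = f ^ i * u :=
  (Commute.pow_right (iv.f_commute iv.u_mem) i).eq

theorem f_pow_eq_one (iv : Inverting P Q R f j u) {i : ℕ} (h : f ^ i ∈ lineCent Q R) : f ^ i = 1 :=
  iv.line_center (pow_mem iv.f_mem i) h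

theorem f_pow_two (iv : Inverting P Q R f j u) {i : ℕ} (h : f ^ i * f ^ i = 1) : f ^ i = 1 := by
  have h5 : (f ^ i) ^ 5 = 1 := by rw [← pow_mul, mul_comm, pow_mul, iv.f_pow_five, one_pow]
  calc f ^ i = (f ^ i) ^ 5 * ((f ^ i * f ^ i) * (f ^ i * f ^ i))⁻¹ := by group
    _ = 1 := by rw [h5, h]; group

/-- The squares of the outer elements of the two point stabiliser. -/
theorem outer_sq (iv : Inverting P Q R f j u) (i : ℕ) {k : G} (hk : k ∈ lineCent Q R) :
    f ^ i * k * u * (f ^ i * k * u) = f ^ i * f ^ i := by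
  have e1 : u * f ^ i = f ^ i * u := iv.f_pow_u i
  have e2 : k * f ^ i = f ^ i * k := iv.f_pow_K i hk
  calc f ^ i * k * u * (f ^ i * k * u) = f ^ i * k * (u * f ^ i) * k * u := by group
    _ = f ^ i * (k * f ^ i) * u * k * u := by rw [e1]; group
    _ = f ^ i * f ^ i * k * (u * k * u⁻¹) * (u * u) := by rw [e2]; group
    _ = f ^ i * f ^ i := by rw [iv.u_K hk, iv.u_sq]; group

/-- The involutions fixing `Q` and `R`. -/
theorem involution_twoStab (iv : Inverting P Q R f j u) {x : G} (hx : x ∈ twoStab Q R)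
    (hx2 : x * x = 1) (hx1 : x ≠ 1) : ∃ k ∈ lineCent Q R, x = k * u := by
  obtain ⟨i, k, hk, rfl | rfl⟩ := iv.twoStab_cases hx
  · exfalso
    have h1 : f ^ i * f ^ i * (k * k) = 1 := by
      calc f ^ i * f ^ i * (k * k) = f ^ i * (f ^ i * k) * k := by group
        _ = f ^ i * (k * f ^ i) * k := by rw [iv.f_pow_K i hk]
        _ = 1 := by rw [← hx2]; group
    have hi : f ^ (i + i) ∈ lineCent Q R := by
      rw [pow_add, eq_inv_of_mul_eq_one_left h1]
      exact inv_mem (mul_mem hk hk)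
    have h2 : f ^ i = 1 := iv.f_pow_two (by rw [← pow_add]; exact iv.f_pow_eq_one hi)
    rw [h2, one_mul] at hx1 h1
    obtain ⟨c, hc⟩ := iv.odd_K
    have ho : k ^ Nat.card (lineCent Q R) = 1 :=
      congrArg Subtype.val (pow_card_eq_one' (x := (⟨k, hk⟩ : lineCent Q R)))
    rw [hc, pow_succ, pow_mul, pow_two] at ho
    rw [one_mul] at h1
    rw [h1, one_pow, one_mul] at ho
    exact hx1 ho
  · rw [iv.outer_sq i hk] at hx2
    exact ⟨k, hk, by rw [iv.f_pow_two hx2, one_mul]⟩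

theorem K_mul_u_conj (iv : Inverting P Q R f j u) {k : G} (hk : k ∈ lineCent Q R) :
    IsConj u (k * u) := by
  obtain ⟨m, -, -, hm⟩ := iv.exists_sqrt hk
  exact isConj_iff.2 ⟨m, hm⟩

theorem conj_u_props (iv : Inverting P Q R f j u) {x : G} (hx : IsConj u x) : x * x = 1 ∧ x ≠ 1 := by
  obtain ⟨g, rfl⟩ := isConj_iff.1 hx
  refine ⟨?_, fun e => iv.u_ne_one (conj_eq_one_iff.1 e)⟩
  rw [conj_mul, iv.u_sq, mul_one, mul_inv_cancel]

/-- An involution fixing two members is conjugate to `u`. -/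
theorem conj_of_two_fixed (iv : Inverting P Q R f j u) {x : G} (hx : x * x = 1) (hx1 : x ≠ 1)
    {S T : Mem P} (hne : S ≠ T) (hS : x • S = S) (hT : x • T = T) :
    IsConj u x ∧ ∃ g : G, g • Q = S ∧ g • R = T ∧ g * u * g⁻¹ = x := by
  obtain ⟨g, hgQ, hgR⟩ := iv.exists_pair_smul hne
  obtain ⟨k, hk, he⟩ := iv.involution_twoStab (x := g⁻¹ * x * g)
    ⟨show (g⁻¹ * x * g) • Q = Q by rw [mul_smul, mul_smul, hgQ, hS, inv_smul_eq_iff, hgQ],
      show (g⁻¹ * x * g) • R = R by rw [mul_smul, mul_smul, hgR, hT, inv_smul_eq_iff, hgR]⟩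
    (by rw [show g⁻¹ * x * g * (g⁻¹ * x * g) = g⁻¹ * (x * x) * g by group, hx]; group)
    (fun e => hx1 (by rw [show x = g * (g⁻¹ * x * g) * g⁻¹ by group, e]; group))
  obtain ⟨m, hm, -, hmu⟩ := iv.exists_sqrt hk
  have hgm : g * m * u * (g * m)⁻¹ = x := by
    rw [show g * m * u * (g * m)⁻¹ = g * (m * u * m⁻¹) * g⁻¹ by group, hmu, ← he]; group
  exact ⟨isConj_iff.2 ⟨_, hgm⟩, g * m,
    by rw [mul_smul, (iv.K_le_twoStab hm).1, hgQ], by rw [mul_smul, (iv.K_le_twoStab hm).2, hgR], hgm⟩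

/-- The centraliser of `u` is doubly transitive on its fixed members. -/
theorem exists_cent_smul (iv : Inverting P Q R f j u) {S T : Mem P} (hne : S ≠ T) (hS : u • S = S)
    (hT : u • T = T) : ∃ g ∈ centralizer ({u} : Set G), g • Q = S ∧ g • R = T := by
  obtain ⟨-, g, hQ, hR, hg⟩ := iv.conj_of_two_fixed iv.u_sq iv.u_ne_one hne hS hT
  exact ⟨g, mem_centralizer_singleton_iff.2 (mul_inv_eq_iff_eq_mul.1 hg), hQ, hR⟩

theorem u_j (iv : Inverting P Q R f j u) : u * j = j * u := by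
  have hjj : j * j = 1 := by
    nth_rewrite 1 [← iv.j_inv]
    exact inv_mul_cancel j
  have hmem : j * u * j⁻¹ ∈ twoStab Q R :=
    ⟨show (j * u * j⁻¹) • Q = Q by
      rw [mul_smul, mul_smul, iv.j_inv, iv.j_smul_Q, show u • R = R from iv.u_mem.2, iv.j_smul_R],
    show (j * u * j⁻¹) • R = R by
      rw [mul_smul, mul_smul, iv.j_inv, iv.j_smul_R, show u • Q = Q from iv.u_mem.1, iv.j_smul_Q]⟩
  obtain ⟨k, hk, he⟩ := iv.involution_twoStab hmem (by rw [conj_mul, iv.u_sq, mul_one, mul_inv_cancel])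
    (fun e => iv.u_ne_one (conj_eq_one_iff.1 e))
  -- `k = (j u) ^ 2` commutes with `j` and `u`
  have hku : k = j * u * j⁻¹ * u := by rw [he, mul_assoc, iv.u_sq, mul_one]
  have hkju : k = j * u * (j * u) := by rw [hku, iv.j_inv]; group
  have hcj := iv.j_commute hk
  have h1 : j * (u * k) = j * (k * u) := by
    calc j * (u * k) = j * u * (j * u * (j * u)) := by rw [← hkju]; group
      _ = j * u * (j * u) * (j * u) := by group
      _ = k * j * u := by rw [← hkju]; group
      _ = j * (k * u) := by rw [hcj]; group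
  have h2 : k = 1 := iv.cent_u k hk (mul_left_cancel h1)
  rw [h2, one_mul, mul_inv_eq_iff_eq_mul] at he
  exact he.symm

/-- The conjugates of `u` swapping `Q` and `R`. -/
theorem swappers (iv : Inverting P Q R f j u) (x : G) :
    (IsConj u x ∧ x • Q = R) ↔ ∃ i < 5, ∃ k ∈ lineCent Q R, x = j * (f ^ i * k * u) := by
  have hjj : j * j = 1 := by
    nth_rewrite 1 [← iv.j_inv]
    exact inv_mul_cancel j
  have hsq : ∀ i : ℕ, ∀ k ∈ lineCent Q R,
      j * (f ^ i * k * u) * (j * (f ^ i * k * u)) = 1 := by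
    intro i k hk
    have e1 : j * f ^ i = (f ^ i)⁻¹ * j := by
      rw [← inv_pow, ← iv.j_f, conj_pow]; group
    calc j * (f ^ i * k * u) * (j * (f ^ i * k * u)) = j * f ^ i * k * (u * j) * (f ^ i * k * u) := by group
      _ = j * f ^ i * (k * j) * u * (f ^ i * k * u) := by rw [iv.u_j]; group
      _ = j * f ^ i * j * (k * (u * f ^ i) * k * u) := by rw [iv.j_commute hk]; group
      _ = (f ^ i)⁻¹ * (j * j) * (k * f ^ i * (u * k * u⁻¹) * (u * u)) := by
        rw [e1, iv.f_pow_u]; group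
      _ = 1 := by rw [iv.f_pow_K i hk, iv.u_K hk, iv.u_sq, hjj]; group
  constructor
  · rintro ⟨hx, hxQ⟩
    obtain ⟨hx2, -⟩ := iv.conj_u_props hx
    have hxR : x • R = Q := by rw [← hxQ, smul_smul, hx2, one_smul]
    obtain ⟨i, k, hk, e⟩ := iv.twoStab_cases (a := j * x)
      ⟨show (j * x) • Q = Q by rw [mul_smul, hxQ, iv.j_smul_R],
        show (j * x) • R = R by rw [mul_smul, hxR, iv.j_smul_Q]⟩
    have hmod : f ^ i = f ^ (i % 5) := pow_eq_pow_mod i iv.f_pow_five
    have hxe : ∀ a : G, j * x = a → x = j * a := fun a ha => by rw [← ha, ← mul_assoc, hjj, one_mul]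
    rcases e with e | e
    · exfalso
      have hxa := hxe _ e
      -- the square gives `k * k = 1`, so `x` is an inner swap
      have e1 : j * f ^ i = (f ^ i)⁻¹ * j := by
        rw [← inv_pow, ← iv.j_f, conj_pow]; group
      have hk2 : k * k = 1 := by
        calc k * k = (f ^ i)⁻¹ * (j * j) * (f ^ i * k) * k := by rw [hjj]; group
          _ = j * f ^ i * j * (f ^ i * k) * k := by rw [e1]; group
          _ = j * f ^ i * j * (k * f ^ i) * k := by rw [iv.f_pow_K i hk]
          _ = j * f ^ i * (j * k) * f ^ i * k := by group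
          _ = j * f ^ i * (k * j) * f ^ i * k := by rw [iv.j_commute hk]
          _ = x * x := by rw [hxa]; group
          _ = 1 := hx2
      obtain ⟨c, hc⟩ := iv.odd_K
      have ho : k ^ Nat.card (lineCent Q R) = 1 :=
        congrArg Subtype.val (pow_card_eq_one' (x := (⟨k, hk⟩ : lineCent Q R)))
      rw [hc, pow_succ, pow_mul, pow_two, hk2, one_pow, one_mul] at ho
      rw [ho, mul_one] at hxa
      obtain ⟨g, hg⟩ := isConj_iff.1 hx
      refine iv.involution_free iv.ne (z := x) (hxa ▸ mul_mem iv.j_mem (pow_mem iv.f_mem i))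
        (orderOf_eq_prime (by rw [pow_two, hx2]) (iv.conj_u_props hx).2) (g • Q) ?_
      rw [← hg, smul_smul, inv_mul_cancel_right, mul_smul, show u • Q = Q from iv.u_mem.1]
    · exact ⟨i % 5, Nat.mod_lt _ (by norm_num), k, hk, hmod ▸ hxe _ e⟩
  · rintro ⟨i, -, k, hk, rfl⟩
    have hs : (f ^ i * k * u) ∈ twoStab Q R :=
      mul_mem (mul_mem (pow_mem iv.f_mem_twoStab i) (iv.K_le_twoStab hk)) iv.u_mem
    have hQ : (j * (f ^ i * k * u)) • Q = R := by
      rw [mul_smul, show (f ^ i * k * u) • Q = Q from hs.1, iv.j_smul_Q]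
    have hx1 : j * (f ^ i * k * u) ≠ 1 := fun e => iv.ne (by rw [← hQ, e, one_smul])
    refine ⟨?_, hQ⟩
    -- it fixes a member, so two
    set x := j * (f ^ i * k * u) with hxdef
    have hx2 : x * x = 1 := hsq i k hk
    have hpar := card_fixed_parity (α := Mem P) hx2
    have h12 := iv.twelve_dvd
    obtain ⟨S, -, hS⟩ : ∃ S : Mem P, S.1 ≤ Q.1 ⊔ R.1 ∧ x • S = S := by
      refine iv.j_outer _ hs.1 hs.2 (5 ^ i * 10) (fun y hy => ?_) ?_
      · rw [show f ^ i * k * u * y * (f ^ i * k * u)⁻¹ = f ^ i * (k * (u * y * u⁻¹) * k⁻¹) * (f ^ i)⁻¹ by group,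
          iv.u_act y hy, iv.K_commute hk (mem_sup_left (inv_mem hy)), mul_inv_cancel_right,
          iv.f_act_pow i (inv_mem hy), inv_pow]
        refine inv_eq_of_mul_eq_one_right ?_
        rw [← pow_add, iv.pow_modEq (b := 0)
          (Nat.modEq_zero_iff_dvd.2 ⟨5 ^ i, by ring⟩) hy, pow_zero]
      · intro hcon
        have h5 : (5 ^ i * 10) ^ 5 % 11 = 10 := by
          rw [mul_pow, ← pow_mul, mul_comm i 5, pow_mul, Nat.mul_mod, Nat.pow_mod]
          norm_num
        rw [Nat.ModEq, h5] at hcon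
        omega
    haveI : Nonempty {T : Mem P // x • T = T} := ⟨⟨S, hS⟩⟩
    have h2 : 2 ≤ Nat.card {T : Mem P // x • T = T} := by
      have : 0 < Nat.card {T : Mem P // x • T = T} := Nat.card_pos
      omega
    haveI := Finite.one_lt_card_iff_nontrivial.1 h2
    obtain ⟨⟨T, hT⟩, hTS⟩ := exists_ne (⟨S, hS⟩ : {T : Mem P // x • T = T})
    exact (iv.conj_of_two_fixed hx2 hx1 (fun e => hTS (Subtype.ext e.symm)) hS hT).1

/-! #### The number of members -/

theorem card_fixed_conj (iv : Inverting P Q R f j u) {x : G} (hx : IsConj u x) :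
    Nat.card (Fixed P x) = Nat.card (Fixed P u) := by
  obtain ⟨g, rfl⟩ := isConj_iff.1 hx
  exact Nat.card_congr
    { toFun := fun S => ⟨g⁻¹ • S.1, by
        conv_rhs => rw [← S.2]
        rw [mul_smul, mul_smul, inv_smul_smul]⟩
      invFun := fun S => ⟨g • S.1, by rw [mul_smul, mul_smul, inv_smul_smul, S.2]⟩
      left_inv := fun S => Subtype.ext (smul_inv_smul g S.1)
      right_inv := fun S => Subtype.ext (inv_smul_smul g S.1) }

theorem card_equation (iv : Inverting P Q R f j u) :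
    Nat.card (Mem P) - Nat.card (Fixed P u) =
      5 * (Nat.card (Fixed P u) * (Nat.card (Fixed P u) - 1)) := by
  classical
  haveI := Fintype.ofFinite G
  set n := Nat.card (Mem P)
  set F := Nat.card (Fixed P u)
  set k := Nat.card (lineCent Q R)
  let U := {x : G // IsConj u x}
  let O := {p : Mem P × Mem P // p.1 ≠ p.2}
  -- transport of the fibres over ordered pairs
  have htr : ∀ (p : O) (ρ : G → Mem P → Mem P → Prop),
      (∀ (g x : G) (S T : Mem P), ρ x S T → ρ (g * x * g⁻¹) (g • S) (g • T)) →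
      Nat.card {x : U // ρ x.1 p.1.1 p.1.2} = Nat.card {x : U // ρ x.1 Q R} := by
    intro p ρ hρ
    obtain ⟨g, hQ, hR⟩ := iv.exists_pair_smul p.2
    exact Nat.card_congr
      { toFun := fun x => ⟨⟨g⁻¹ * x.1.1 * g⁻¹⁻¹, x.1.2.trans (isConj_iff.2 ⟨g⁻¹, rfl⟩)⟩, by
          have := hρ g⁻¹ _ _ _ x.2
          rw [inv_smul_eq_iff.2 hQ.symm, inv_smul_eq_iff.2 hR.symm] at this
          exact this⟩
        invFun := fun x => ⟨⟨g * x.1.1 * g⁻¹, x.1.2.trans (isConj_iff.2 ⟨g, rfl⟩)⟩, by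
          have := hρ g _ _ _ x.2
          rwa [hQ, hR] at this⟩
        left_inv := fun x => Subtype.ext (Subtype.ext (by show g * (g⁻¹ * x.1.1 * g⁻¹⁻¹) * g⁻¹ = x.1.1; group))
        right_inv := fun x => Subtype.ext (Subtype.ext (by show g⁻¹ * (g * x.1.1 * g⁻¹) * g⁻¹⁻¹ = x.1.1; group)) }
  -- fixed pairs
  have hfix : Nat.card {x : U // x.1 • Q = Q ∧ x.1 • R = R} = k := by
    refine (Nat.card_congr (Equiv.ofBijective (fun c : lineCent Q R =>
      (⟨⟨(c : G) * u, iv.K_mul_u_conj c.2⟩, ?_⟩ : {x : U // x.1 • Q = Q ∧ x.1 • R = R}))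
      ⟨fun a b hab => Subtype.ext (mul_right_cancel (congrArg (fun z => z.1.1) hab)), fun x => ?_⟩)).symm
    · exact mul_mem (iv.K_le_twoStab c.2) iv.u_mem
    · obtain ⟨h2, h1⟩ := iv.conj_u_props x.1.2
      obtain ⟨c, hc, he⟩ := iv.involution_twoStab (x := x.1.1) ⟨x.2.1, x.2.2⟩ h2 h1
      exact ⟨⟨c, hc⟩, Subtype.ext (Subtype.ext he.symm)⟩
  have hswap : Nat.card {x : U // x.1 • Q = R} = 5 * k := by
    rw [show 5 * k = Nat.card (Fin 5 × lineCent Q R) by rw [Nat.card_prod, Nat.card_fin]]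
    refine (Nat.card_congr (Equiv.ofBijective (fun c : Fin 5 × lineCent Q R =>
      (⟨⟨j * (f ^ (c.1 : ℕ) * c.2 * u), ((iv.swappers _).2 ⟨c.1, c.1.2, c.2, c.2.2, rfl⟩).1⟩,
        ((iv.swappers _).2 ⟨c.1, c.1.2, c.2, c.2.2, rfl⟩).2⟩ : {x : U // x.1 • Q = R}))
      ⟨fun a b hab => ?_, fun x => ?_⟩)).symm
    · have h : f ^ (a.1 : ℕ) * a.2 = f ^ (b.1 : ℕ) * b.2 :=
        mul_right_cancel (mul_left_cancel (congrArg (fun z => z.1.1) hab))
      have h1 : (f ^ (b.1 : ℕ))⁻¹ * f ^ (a.1 : ℕ) = (b.2 : G) * (a.2 : G)⁻¹ := by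
        calc (f ^ (b.1 : ℕ))⁻¹ * f ^ (a.1 : ℕ)
            = (f ^ (b.1 : ℕ))⁻¹ * (f ^ (a.1 : ℕ) * a.2) * (a.2 : G)⁻¹ := by group
          _ = (b.2 : G) * (a.2 : G)⁻¹ := by rw [h]; group
      have h2 : (b.2 : G) * (a.2 : G)⁻¹ = 1 :=
        iv.line_center (h1 ▸ mul_mem (inv_mem (pow_mem iv.f_mem _)) (pow_mem iv.f_mem _))
          (mul_mem b.2.2 (inv_mem a.2.2))
      rw [h2, inv_mul_eq_one, pow_inj_mod, iv.f_order, Nat.mod_eq_of_lt a.1.2, Nat.mod_eq_of_lt b.1.2] at h1
      exact Prod.ext (Fin.ext h1.symm) (Subtype.ext (mul_inv_eq_one.1 h2).symm)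
    · obtain ⟨i, hi, c, hc, he⟩ := (iv.swappers _).1 ⟨x.1.2, x.2⟩
      exact ⟨(⟨i, hi⟩, ⟨c, hc⟩), Subtype.ext (Subtype.ext he.symm)⟩
  -- the two double counts
  have hA : Nat.card {q : U × O // q.1.1 • q.2.1.1 = q.2.1.1 ∧ q.1.1 • q.2.1.2 = q.2.1.2} =
      Nat.card U * (F * (F - 1)) := by
    refine card_of_fibres (fun q => q.1.1) _ fun x => ?_
    rw [show F = Nat.card (Fixed P x.1) from (iv.card_fixed_conj x.2).symm, ← card_offDiag]
    exact Nat.card_congr
      { toFun := fun q => ⟨(⟨q.1.1.2.1.1, by obtain ⟨⟨⟨y, p⟩, h⟩, rfl⟩ := q; exact h.1⟩,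
          ⟨q.1.1.2.1.2, by obtain ⟨⟨⟨y, p⟩, h⟩, rfl⟩ := q; exact h.2⟩),
          fun e => q.1.1.2.2 (congrArg Subtype.val e)⟩
        invFun := fun r => ⟨⟨(x, ⟨(r.1.1.1, r.1.2.1), fun e => r.2 (Subtype.ext e)⟩), r.1.1.2, r.1.2.2⟩, rfl⟩
        left_inv := fun q => by
          obtain ⟨⟨⟨y, p⟩, h⟩, rfl⟩ := q
          rfl
        right_inv := fun r => rfl }
  have hA' : Nat.card {q : U × O // q.1.1 • q.2.1.1 = q.2.1.1 ∧ q.1.1 • q.2.1.2 = q.2.1.2} =
      n * (n - 1) * k := by
    rw [← card_offDiag, ← hfix]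
    refine card_of_fibres (fun q => q.1.2) _ fun p => ?_
    rw [← htr p (fun x S T => x • S = S ∧ x • T = T) fun g x S T h =>
      ⟨by rw [mul_smul, mul_smul, inv_smul_smul, h.1], by rw [mul_smul, mul_smul, inv_smul_smul, h.2]⟩]
    exact Nat.card_congr
      { toFun := fun q => ⟨q.1.1.1, by obtain ⟨⟨⟨y, p'⟩, h⟩, rfl⟩ := q; exact h⟩
        invFun := fun x => ⟨⟨(x.1, p), x.2⟩, rfl⟩
        left_inv := fun q => by
          obtain ⟨⟨⟨y, p'⟩, h⟩, rfl⟩ := q
          rfl
        right_inv := fun r => rfl }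
  have hB : Nat.card {q : U × Mem P // q.1.1 • q.2 ≠ q.2} = Nat.card U * (n - F) := by
    refine card_of_fibres (fun q => q.1.1) _ fun x => ?_
    rw [show F = Nat.card (Fixed P x.1) from (iv.card_fixed_conj x.2).symm]
    haveI := Fintype.ofFinite (Mem P)
    rw [show n - Nat.card (Fixed P x.1) = Nat.card {S : Mem P // ¬ (x.1 • S = S)} by
      rw [Nat.card_eq_fintype_card (α := {S : Mem P // ¬ (x.1 • S = S)}), Fintype.card_subtype_compl]
      simp only [n, Nat.card_eq_fintype_card]]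
    exact Nat.card_congr
      { toFun := fun q => ⟨q.1.1.2, by obtain ⟨⟨⟨y, S⟩, h⟩, rfl⟩ := q; exact h⟩
        invFun := fun S => ⟨⟨(x, S.1), S.2⟩, rfl⟩
        left_inv := fun q => by
          obtain ⟨⟨⟨y, S⟩, h⟩, rfl⟩ := q
          rfl
        right_inv := fun r => rfl }
  have hB' : Nat.card {q : U × Mem P // q.1.1 • q.2 ≠ q.2} = n * (n - 1) * (5 * k) := by
    rw [← card_offDiag, ← hswap]
    refine card_of_fibres (fun q => (⟨(q.1.2, q.1.1.1 • q.1.2), fun e => q.2 e.symm⟩ : O)) _ fun p => ?_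
    rw [← htr p (fun x S T => x • S = T) fun g x S T h => by
      rw [mul_smul, mul_smul, inv_smul_smul, h]]
    exact Nat.card_congr
      { toFun := fun q => ⟨q.1.1.1, by
          have e1 : q.1.1.2 = p.1.1 := congrArg (fun r : O => r.1.1) q.2
          have e2 : q.1.1.1.1 • q.1.1.2 = p.1.2 := congrArg (fun r : O => r.1.2) q.2
          rw [← e1]; exact e2⟩
        invFun := fun x => ⟨⟨(x.1, p.1.1), fun e => p.2 (e.symm.trans x.2)⟩,
          Subtype.ext (Prod.ext rfl x.2)⟩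
        left_inv := fun q => by
          refine Subtype.ext (Subtype.ext (Prod.ext rfl ?_))
          exact (congrArg (fun r : O => r.1.1) q.2).symm
        right_inv := fun r => rfl }
  haveI : Nonempty U := ⟨⟨u, IsConj.refl u⟩⟩
  refine Nat.eq_of_mul_eq_mul_left (Nat.card_pos (α := U)) ?_
  rw [← hB, hB', show n * (n - 1) * (5 * k) = 5 * (n * (n - 1) * k) by ring, ← hA', hA]
  ring

theorem fixed_facts (iv : Inverting P Q R f j u) :
    2 ∣ Nat.card (Fixed P u) ∧ Nat.card (Fixed P u) % 5 = 2 ∧ 12 ≤ Nat.card (Fixed P u) := by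
  have hpar : Nat.card (Mem P) % 2 = Nat.card (Fixed P u) % 2 := card_fixed_parity iv.u_sq
  have h12 := iv.twelve_dvd
  have heq := iv.card_equation
  have hge := iv.card_members_ge
  have h5 : Nat.card (Fixed P u) % 5 = 2 := by
    haveI : Fact (Nat.Prime 5) := ⟨by norm_num⟩
    set fC : centralizer ({u} : Set G) := ⟨f, mem_centralizer_singleton_iff.2 (iv.f_commute iv.u_mem).symm⟩
    have hpg : IsPGroup 5 (zpowers fC) := IsPGroup.of_card (n := 1)
      (by rw [Nat.card_zpowers, ← Subgroup.orderOf_coe, pow_one]; exact iv.f_order)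
    have hc := hpg.card_modEq_card_fixedPoints (Fixed P u)
    have hfp : MulAction.fixedPoints (zpowers fC) (Fixed P u) =
        {⟨Q, iv.u_mem.1⟩, ⟨R, iv.u_mem.2⟩} := by
      ext S
      simp only [MulAction.mem_fixedPoints, Set.mem_insert_iff, Set.mem_singleton_iff]
      constructor
      · intro hS
        exact (iv.f_fixed_points (congrArg Subtype.val (hS ⟨fC, mem_zpowers fC⟩))).imp
          (fun e => Subtype.ext e) fun e => Subtype.ext e
      · rintro hS ⟨x, m, rfl⟩
        show fC ^ m • S = S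
        refine MulAction.mem_stabilizer_iff.1
          (Subgroup.zpow_mem (MulAction.stabilizer (centralizer ({u} : Set G)) S) ?_ m)
        rcases hS with rfl | rfl
        exacts [Subtype.ext iv.f_smul_Q, Subtype.ext iv.f_smul_R]
    rw [hfp, Nat.card_coe_set_eq, Set.ncard_pair (fun e => iv.ne (congrArg Subtype.val e))] at hc
    exact hc
  refine ⟨by omega, h5, ?_⟩
  by_contra hlt
  have h2 : Nat.card (Fixed P u) = 2 := by omega
  rw [h2] at heq
  omega

theorem card_fixed (iv : Inverting P Q R f j u) : Nat.card (Fixed P u) = 12 := by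
  classical
  obtain ⟨hev, h5, hge⟩ := iv.fixed_facts
  set C := centralizer ({u} : Set G) with hC
  set φ := MulAction.toPermHom C (Fixed P u) with hφ
  haveI := Fintype.ofFinite (Fixed P u)
  set q0 : Fixed P u := ⟨Q, iv.u_mem.1⟩
  set r0 : Fixed P u := ⟨R, iv.u_mem.2⟩
  have hq0 : q0 ≠ r0 := fun e => iv.ne (congrArg Subtype.val e)
  set fC : C := ⟨f, mem_centralizer_singleton_iff.2 (iv.f_commute iv.u_mem).symm⟩
  have happ : ∀ (g : C) (S : Fixed P u), (φ.rangeRestrict g) • S = g • S := fun g S => rfl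
  -- the two point stabiliser in the centraliser
  have hstab : ∀ g : C, g • q0 = q0 → g • r0 = r0 → ∃ i : ℕ, φ g = φ fC ^ i := by
    intro g hQ hR
    obtain ⟨i, k, hk, e⟩ := iv.twoStab_cases (a := (g : G))
      ⟨congrArg Subtype.val hQ, congrArg Subtype.val hR⟩
    have hg : (g : G) * u = u * g := mem_centralizer_singleton_iff.1 g.2
    have hk1 : k = 1 := by
      refine iv.cent_u k hk ?_
      rcases e with e | e <;> rw [e] at hg
      · refine mul_left_cancel (a := f ^ i) ?_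
        rw [← mul_assoc, ← iv.f_pow_u, mul_assoc, ← hg, mul_assoc]
      · refine mul_left_cancel (a := f ^ i) (mul_right_cancel (b := u) ?_)
        rw [← mul_assoc, ← iv.f_pow_u, mul_assoc u, mul_assoc u, ← hg]
        group
    subst hk1
    refine ⟨i, ?_⟩
    rw [← map_pow]
    refine Equiv.ext fun S => Subtype.ext ?_
    show (g : G) • S.1 = ((fC ^ i : C) : G) • S.1
    rw [SubgroupClass.coe_pow]
    rcases e with e | e <;> rw [e, mul_one]
    rw [mul_smul, S.2]
  have hF3 : ∃ S : Fixed P u, S ≠ q0 ∧ S ≠ r0 := by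
    by_contra hc
    push Not at hc
    have : (Set.univ : Set (Fixed P u)) ⊆ {q0, r0} := fun S _ => by
      rcases eq_or_ne S q0 with e | e
      exacts [Or.inl e, Or.inr (hc S e)]
    have h1 := Set.ncard_le_ncard this (Set.toFinite _)
    rw [Set.ncard_univ, Set.ncard_pair hq0] at h1
    omega
  have hfmove : ∀ i : ℕ, φ fC ^ i = 1 ↔ f ^ i = 1 := by
    intro i
    rw [← map_pow]
    constructor
    · intro h
      obtain ⟨S, hSQ, hSR⟩ := hF3
      refine iv.zpow_f_fixed (fun e => hSQ (Subtype.ext e)) (fun e => hSR (Subtype.ext e)) ?_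
      exact congrArg Subtype.val (Equiv.ext_iff.1 h S)
    · intro h
      rw [show fC ^ i = 1 from Subtype.ext h, map_one]
  have hord : orderOf (φ fC) = 5 := by
    haveI : Fact (Nat.Prime 5) := ⟨by norm_num⟩
    refine orderOf_eq_prime ((hfmove 5).2 iv.f_pow_five) fun h => ?_
    have h1 := (hfmove 1).1 (by rw [pow_one, h])
    rw [pow_one] at h1
    have := iv.f_order
    rw [h1, orderOf_one] at this
    omega
  have htrans : ∀ a b : Fixed P u, a ≠ b → ∃ g : C, g • q0 = a ∧ g • r0 = b := by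
    intro a b hab
    obtain ⟨g, hg, hQ, hR⟩ := iv.exists_cent_smul (fun e => hab (Subtype.ext e)) a.2 b.2
    exact ⟨⟨g, hg⟩, Subtype.ext hQ, Subtype.ext hR⟩
  have hfix3 : ∀ g : C, ∀ a b c : Fixed P u, a ≠ b → b ≠ c → a ≠ c → g • a = a → g • b = b → g • c = c →
      φ g = 1 := by
    intro g a b c hab hbc hac ha hb hc
    obtain ⟨w, hwa, hwb⟩ := htrans a b hab
    have hfix : ∀ X : Fixed P u, g • (w • X) = w • X → (w⁻¹ * g * w) • X = X := fun X h => by
      rw [mul_smul, mul_smul, h, inv_smul_smul]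
    obtain ⟨i, hi⟩ := hstab _ (hfix q0 (by rw [hwa]; exact ha)) (hfix r0 (by rw [hwb]; exact hb))
    have h3 : (w⁻¹ * g * w) • (w⁻¹ • c) = w⁻¹ • c := hfix _ (by rw [smul_inv_smul]; exact hc)
    have h1 : f ^ i = 1 := by
      refine iv.zpow_f_fixed (S := (w⁻¹ • c).1) (fun e => hac ?_) (fun e => hbc ?_) ?_
      · rw [← hwa, show q0 = w⁻¹ • c from Subtype.ext e.symm, smul_inv_smul]
      · rw [← hwb, show r0 = w⁻¹ • c from Subtype.ext e.symm, smul_inv_smul]
      · have h4 : φ (w⁻¹ * g * w) (w⁻¹ • c) = w⁻¹ • c := h3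
        rw [hi, ← map_pow] at h4
        exact congrArg Subtype.val h4
    rw [(hfmove i).2 h1] at hi
    rw [show g = w * (w⁻¹ * g * w) * w⁻¹ by group, map_mul, map_mul, hi, mul_one, ← map_mul,
      mul_inv_cancel, map_one]
  have hZ : Cfsg.IsZassenhausGroup φ.range (Fixed P u) := by
    refine ⟨⟨fun {a b} hab => Subtype.ext (Equiv.ext hab)⟩,
      MulAction.is_two_pretransitive_iff.2 fun {a b c d} hab hcd => ?_,
      fun g a b c hab hbc hac ha hb hc => ?_,
      ⟨φ.rangeRestrict fC, fun e => ?_, q0, r0, hq0, Subtype.ext iv.f_smul_Q, Subtype.ext iv.f_smul_R⟩, ?_⟩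
    · obtain ⟨g, hga, hgb⟩ := htrans a b hab
      obtain ⟨k, hkc, hkd⟩ := htrans c d hcd
      exact ⟨φ.rangeRestrict (k * g⁻¹), by rw [happ, ← hga, mul_smul, inv_smul_smul, hkc],
        by rw [happ, ← hgb, mul_smul, inv_smul_smul, hkd]⟩
    · obtain ⟨g, rfl⟩ := φ.rangeRestrict_surjective g
      rw [happ] at ha hb hc
      exact Subtype.ext (hfix3 g a b c hab hbc hac ha hb hc)
    · have h1 : φ fC = 1 := congrArg Subtype.val e
      rw [h1, orderOf_one] at hord
      omega
    · intro N hN htr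
      by_contra hall
      push Not at hall
      obtain ⟨⟨t', ht'⟩, htQ⟩ := htr.exists_smul_eq q0 r0
      obtain ⟨t, rfl⟩ := φ.rangeRestrict_surjective t'
      have htQ' : t • q0 = r0 := htQ
      -- regularity: `t` commutes with `f`
      have hcf : φ.rangeRestrict (fC * t * fC⁻¹) = φ.rangeRestrict t := by
        have hm : (φ.rangeRestrict t)⁻¹ * φ.rangeRestrict (fC * t * fC⁻¹) ∈ N := by
          refine mul_mem (inv_mem ht') ?_
          rw [map_mul, map_mul, map_inv]
          exact hN.conj_mem _ ht' _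
        have hfix : (⟨_, hm⟩ : N) ∈ MulAction.stabilizer N q0 := by
          show ((φ.rangeRestrict t)⁻¹ * φ.rangeRestrict (fC * t * fC⁻¹)) • q0 = q0
          rw [← map_inv, ← map_mul, happ, mul_smul, mul_smul, mul_smul,
            inv_smul_eq_iff.2 (show q0 = fC • q0 from (Subtype.ext iv.f_smul_Q).symm), htQ',
            show fC • r0 = r0 from Subtype.ext iv.f_smul_R, ← htQ', inv_smul_smul]
        rw [hall q0, mem_bot] at hfix
        exact (inv_mul_eq_one.1 (congrArg Subtype.val hfix)).symm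
      have hcom : φ fC * φ t = φ t * φ fC := by
        have h := congrArg Subtype.val hcf
        simp only [MonoidHom.coe_rangeRestrict, map_mul, map_inv] at h
        exact mul_inv_eq_iff_eq_mul.1 h
      have htR : t • r0 = q0 := by
        have h1 : fC • (t • r0) = t • r0 := by
          have h := Equiv.ext_iff.1 hcom r0
          simp only [Equiv.Perm.mul_apply] at h
          exact h.trans (congrArg (φ t) (Subtype.ext iv.f_smul_R))
        rcases iv.f_fixed_points (congrArg Subtype.val h1) with e | e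
        · exact Subtype.ext e
        · exact absurd (MulAction.injective t (htQ'.trans (show r0 = t • r0 from (Subtype.ext e).symm))) hq0
      -- so it inverts `f`
      have ha : (j⁻¹ * (t : G)) ∈ twoStab Q R :=
        ⟨show (j⁻¹ * (t : G)) • Q = Q by
            rw [mul_smul, show (t : G) • Q = R from congrArg Subtype.val htQ', iv.j_inv, iv.j_smul_R],
          show (j⁻¹ * (t : G)) • R = R by
            rw [mul_smul, show (t : G) • R = Q from congrArg Subtype.val htR, iv.j_inv, iv.j_smul_Q]⟩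
      have hinv : t * fC * t⁻¹ = fC⁻¹ := Subtype.ext (by
        show (t : G) * f * (t : G)⁻¹ = f⁻¹
        calc (t : G) * f * (t : G)⁻¹ = j * ((j⁻¹ * t) * f * (j⁻¹ * (t : G))⁻¹) * j⁻¹ := by group
          _ = j * f * j⁻¹ := by rw [iv.f_fixed _ ha.1 ha.2]
          _ = f⁻¹ := iv.j_f)
      have h2 := congrArg φ hinv
      rw [map_mul, map_mul, map_inv, map_inv, ← hcom, mul_inv_cancel_right] at h2
      have h3 : orderOf (φ fC) ∣ 2 := orderOf_dvd_of_pow_eq_one (by
        rw [pow_two]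
        nth_rewrite 1 [h2]
        exact inv_mul_cancel _)
      rw [hord] at h3
      norm_num at h3
  -- the subgroup centralising `Q`
  set H := ((centralizer (Q.1 : Set G)).subgroupOf C).map φ.rangeRestrict with hHdef
  have hfree : ∀ c : C, (c : G) ∈ centralizer (Q.1 : Set G) → ∀ S : Fixed P u, S ≠ q0 → c • S = S →
      c = 1 := by
    intro c hc S hS hcS
    obtain ⟨g, hgQ, hgR⟩ := htrans q0 S hS.symm
    have hgQ' : (g : G)⁻¹ • Q = Q := inv_smul_eq_iff.2 (congrArg Subtype.val hgQ).symm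
    have h1 : (g : G)⁻¹ * c * (g : G) ∈ lineCent Q R := by
      refine iv.K_iff.2 ⟨?_, ?_⟩
      · have := LHyp.centralizer_smul_mem Q hgQ' hc
        rwa [inv_inv] at this
      · rw [mul_smul, mul_smul, show (g : G) • R = S.1 from congrArg Subtype.val hgR,
          show (c : G) • S.1 = S.1 from congrArg Subtype.val hcS, inv_smul_eq_iff]
        exact (congrArg Subtype.val hgR).symm
    have h2 := iv.cent_u _ h1 (mem_centralizer_singleton_iff.1 (g⁻¹ * c * g).2).symm
    exact Subtype.ext (by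
      rw [show (c : G) = (g : G) * ((g : G)⁻¹ * c * (g : G)) * (g : G)⁻¹ by group, h2]; group; rfl)
  have hHcard : Nat.card H + 1 = Nat.card (Fixed P u) := by
    set H₀ := (centralizer (Q.1 : Set G)).subgroupOf C
    have hQfix : ∀ c : H₀, (c : C) • q0 = q0 := fun c =>
      Subtype.ext (smul_eq_of_mem_centralizer c.2)
    have hne : ∀ c : H₀, (c : C) • r0 ≠ q0 := fun c e =>
      hq0 (MulAction.injective (c : C) (e.trans (hQfix c).symm)).symm
    have hinj : Function.Injective fun c : H₀ => φ.rangeRestrict (c : C) := fun a b hab => by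
      refine Subtype.ext (inv_mul_eq_one.1 (hfree _ (mul_mem (inv_mem a.2) b.2) r0 hq0.symm ?_))
      have h := congrArg (fun z : φ.range => z • r0) hab
      simp only [happ] at h
      rw [mul_smul, ← h, inv_smul_smul]
    have e1 : Nat.card H = Nat.card H₀ := (Nat.card_congr (Equiv.ofBijective
      (fun c : H₀ => (⟨φ.rangeRestrict c, mem_map_of_mem _ c.2⟩ : H))
      ⟨fun a b hab => hinj (congrArg Subtype.val hab), fun z => by
        obtain ⟨z, c, hc, rfl⟩ := z
        exact ⟨⟨c, hc⟩, rfl⟩⟩)).symm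
    have e2 : Nat.card H₀ = Nat.card {S : Fixed P u // S ≠ q0} := by
      refine Nat.card_congr (Equiv.ofBijective (fun c => ⟨(c : C) • r0, hne c⟩) ⟨fun a b hab => ?_, fun S => ?_⟩)
      · refine Subtype.ext (inv_mul_eq_one.1 (hfree _ (mul_mem (inv_mem a.2) b.2) r0 hq0.symm ?_))
        rw [mul_smul, ← show (a : C) • r0 = (b : C) • r0 from congrArg Subtype.val hab, inv_smul_smul]
      · obtain ⟨g, hgQ, hgR⟩ := htrans q0 S.1 S.2.symm
        obtain ⟨i, a, hi, hai⟩ : ∃ i : ℕ, ∃ a : C, ((a : G) = f ^ i ∨ (a : G) = f ^ i * u) ∧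
            (g : G) * a ∈ centralizer (Q.1 : Set G) := by
          obtain ⟨k, hk⟩ := iv.exists_exponent (show (g : G) • Q = Q from congrArg Subtype.val hgQ)
          have hk0 : k % 11 ≠ 0 := fun h0 => by
            haveI : Nontrivial Q.1 := Finite.one_lt_card_iff_nontrivial.1 (by rw [iv.mem_card]; norm_num)
            obtain ⟨⟨x, hx⟩, hx1⟩ := exists_ne (1 : Q.1)
            refine hx1 (Subtype.ext (conj_eq_one_iff.1 (?_ : (g : G) * x * (g : G)⁻¹ = 1)))
            rw [hk x hx, iv.pow_modEq (show k ≡ 0 [MOD 11] from h0) hx, pow_zero]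
          have key : ∀ r : Fin 11, r.val ≠ 0 → ∃ i : Fin 5,
              r.val * 5 ^ i.val % 11 = 1 ∨ r.val * (5 ^ i.val * 10) % 11 = 1 := by decide
          obtain ⟨i, hi⟩ := key ⟨k % 11, Nat.mod_lt _ (by norm_num)⟩ hk0
          have hfu : f ^ (i : ℕ) ∈ C := pow_mem fC.2 _
          have huC : u ∈ C := mem_centralizer_singleton_iff.2 rfl
          rcases hi with hi | hi
          · refine ⟨i, ⟨f ^ (i : ℕ), hfu⟩, Or.inl rfl, mem_centralizer_iff.2 fun x hx => ?_⟩
            show x * ((g : G) * f ^ (i : ℕ)) = (g : G) * f ^ (i : ℕ) * x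
            have e : (g : G) * (f ^ (i : ℕ) * x * (f ^ (i : ℕ))⁻¹) * (g : G)⁻¹ = x := by
              rw [iv.f_act_pow _ hx, hk _ (pow_mem hx _), ← pow_mul, iv.pow_modEq
                (show 5 ^ (i : ℕ) * k ≡ 1 [MOD 11] by
                  show 5 ^ (i : ℕ) * k % 11 = 1 % 11
                  rw [mul_comm, Nat.mul_mod]; simpa [Nat.mul_mod] using hi) hx, pow_one]
            nth_rewrite 1 [← e]
            group
          · refine ⟨i, ⟨f ^ (i : ℕ) * u, mul_mem hfu huC⟩, Or.inr rfl, mem_centralizer_iff.2 fun x hx => ?_⟩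
            show x * ((g : G) * (f ^ (i : ℕ) * u)) = (g : G) * (f ^ (i : ℕ) * u) * x
            have e : (g : G) * (f ^ (i : ℕ) * (u * x * u⁻¹) * (f ^ (i : ℕ))⁻¹) * (g : G)⁻¹ = x := by
              rw [iv.u_act x hx, show x⁻¹ = x ^ 10 from inv_eq_of_mul_eq_one_right (by
                rw [← pow_succ', iv.pow_modEq (show 11 ≡ 0 [MOD 11] from rfl) hx, pow_zero]),
                iv.f_act_pow _ (pow_mem hx _), hk _ (pow_mem (pow_mem hx _) _), ← pow_mul, ← pow_mul,
                iv.pow_modEq (show 10 * (5 ^ (i : ℕ) * k) ≡ 1 [MOD 11] by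
                  show 10 * (5 ^ (i : ℕ) * k) % 11 = 1 % 11
                  rw [show 10 * (5 ^ (i : ℕ) * k) = k * (5 ^ (i : ℕ) * 10) by ring, Nat.mul_mod]
                  simpa [Nat.mul_mod] using hi) hx, pow_one]
            nth_rewrite 1 [← e]
            group
        refine ⟨⟨g * a, hai⟩, Subtype.ext ?_⟩
        show (g * a) • r0 = S.1
        have har : a • r0 = r0 := by
          refine Subtype.ext ?_
          show (a : G) • R = R
          have hfR : f ^ i • R = R :=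
            MulAction.mem_stabilizer_iff.1 (pow_mem (iv.f_mem_twoStab).2 i)
          rcases hi with e | e <;> rw [e]
          · exact hfR
          · rw [mul_smul, show u • R = R from iv.u_mem.2, hfR]
        rw [mul_smul, har, hgR]
    rw [e1, e2, card_ne_point]
    omega
  have hHa : H ≤ MulAction.stabilizer φ.range q0 := by
    rintro _ ⟨c, hc, rfl⟩
    exact Subtype.ext (smul_eq_of_mem_centralizer hc)
  have hHfix : ∀ v ∈ H, v ≠ 1 → ∀ c : Fixed P u, v • c = c → c = q0 := by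
    rintro _ ⟨v, hv, rfl⟩ hv1 c hc
    by_contra hne
    rw [happ] at hc
    exact hv1 (by rw [hfree v hv c hne hc, map_one])
  have he5 : Nat.card ↥(MulAction.stabilizer φ.range q0 ⊓ MulAction.stabilizer φ.range r0 :
      Subgroup φ.range) = 5 := by
    rw [show (MulAction.stabilizer φ.range q0 ⊓ MulAction.stabilizer φ.range r0 : Subgroup φ.range) =
      zpowers (φ.rangeRestrict fC) from ?_, Nat.card_zpowers, ← Subgroup.orderOf_coe]
    · exact hord
    · refine le_antisymm ?_ (zpowers_le.2 ⟨Subtype.ext iv.f_smul_Q, Subtype.ext iv.f_smul_R⟩)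
      rintro g ⟨hg1, hg2⟩
      obtain ⟨g, rfl⟩ := φ.rangeRestrict_surjective g
      obtain ⟨i, hi⟩ := hstab g (show g • q0 = q0 from hg1) (show g • r0 = r0 from hg2)
      rw [show φ.rangeRestrict g = φ.rangeRestrict fC ^ i from Subtype.ext hi]
      exact pow_mem (mem_zpowers _) i
  rcases S0885.result hZ hq0 (Nat.card (Fixed P u) - 1) 5 (by rw [← Nat.card_eq_fintype_card]; omega)
    he5 (by decide) H hHa (by rw [← Nat.card_eq_fintype_card]; exact hHcard) hHfix with h | ⟨h2, ⟨a, b, hab⟩, -⟩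
  · omega
  · obtain ⟨k, hk⟩ := IsPGroup.iff_card.1 h2
    rcases Nat.eq_zero_or_pos k with rfl | hk0
    · rw [pow_zero] at hk
      haveI := (Nat.card_eq_one_iff_unique.1 hk).1
      exact absurd (Subsingleton.elim _ _) hab
    · obtain ⟨m, hm⟩ : 2 ∣ 2 ^ k := dvd_pow_self 2 hk0.ne'
      rw [hk, hm] at hHcard
      omega

/-! #### The lines -/

theorem card_line_pairs (iv : Inverting P Q R f j u) {S T : Mem P} (hne : S ≠ T) :
    Nat.card {p : {p : Mem P × Mem P // p.1 ≠ p.2} // p.1.1.1 ⊔ p.1.2.1 = S.1 ⊔ T.1} = 132 := by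
  rw [show 132 = Nat.card (Line P (S.1 ⊔ T.1)) * (Nat.card (Line P (S.1 ⊔ T.1)) - 1) by
    rw [iv.card_line hne], ← card_offDiag]
  exact Nat.card_congr
    { toFun := fun p => ⟨(⟨p.1.1.1, le_sup_left.trans (le_of_eq p.2)⟩, ⟨p.1.1.2, le_sup_right.trans (le_of_eq p.2)⟩),
        fun e => p.1.2 (congrArg Subtype.val e)⟩
      invFun := fun r => ⟨⟨(r.1.1.1, r.1.2.1), fun e => r.2 (Subtype.ext e)⟩,
        iv.line_eq (fun e => r.2 (Subtype.ext e)) hne r.1.1.2 r.1.2.2⟩
      left_inv := fun p => rfl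
      right_inv := fun r => rfl }

/-- At most two fixed members lie on a line. -/
theorem line_two (iv : Inverting P Q R f j u) {S T W : Mem P} (hST : S ≠ T) (hS : u • S = S)
    (hT : u • T = T) (hW : u • W = W) (hle : W.1 ≤ S.1 ⊔ T.1) : W = S ∨ W = T := by
  obtain ⟨g, hg, hgQ, hgR⟩ := iv.exists_cent_smul hST hS hT
  have hle' : (g⁻¹ • W).1 ≤ Q.1 ⊔ R.1 := by
    have h1 : Q.1 ⊔ R.1 = (S.1 ⊔ T.1).map (MulAut.conj g⁻¹).toMonoidHom := by
      rw [Subgroup.map_sup, ← Mem.smul_val, ← Mem.smul_val, ← hgQ, ← hgR, inv_smul_smul, inv_smul_smul]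
    rw [h1, Mem.smul_val]
    exact Subgroup.map_mono hle
  have hu' : u • (g⁻¹ • W) = g⁻¹ • W := by
    rw [smul_smul, show u * g⁻¹ = g⁻¹ * u from
      (mem_centralizer_singleton_iff.1 (inv_mem hg)).symm, mul_smul, hW]
  rcases eq_or_ne (g⁻¹ • W) Q with e | e
  · exact Or.inl (by rw [← hgQ, ← e, smul_inv_smul])
  refine Or.inr ?_
  obtain ⟨q, hq, hqR⟩ := iv.exists_smul_in_line iv.ne hle' e
  have h2 : (q * q) • R = R := by
    have hconj : u * q = q⁻¹ * u := mul_inv_eq_iff_eq_mul.1 (iv.u_act q hq)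
    have h : q⁻¹ • R = q • R := by
      calc q⁻¹ • R = (q⁻¹ * u) • R := by rw [mul_smul, show u • R = R from iv.u_mem.2]
        _ = (u * q) • R := by rw [hconj]
        _ = q • R := by rw [mul_smul, hqR, hu', ← hqR]
    rw [mul_smul, ← h, smul_inv_smul]
  have hq1 : q * q = 1 := by
    by_contra h
    exact iv.ne (iv.eq_of_smul_eq h (mul_mem hq hq) h2)
  have : q = 1 := by
    calc q = q ^ (2 * 6) := by
          rw [iv.pow_modEq (show 2 * 6 ≡ 1 [MOD 11] from rfl) hq, pow_one]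
      _ = 1 := by rw [pow_mul, pow_two, hq1, one_pow]
  rw [this, one_smul] at hqR
  rw [← hgR, hqR, smul_inv_smul]

theorem false_of_inverting' (iv : Inverting P Q R f j u) : False := by
  classical
  haveI := iv.simple
  have hG : ¬ IsMulCommutative G := fun h => by
    obtain ⟨a, b, hab⟩ := iv.toCore.commutator_ne_bot
    exact hab (h.is_comm.comm a b)
  have hF := iv.card_fixed
  have hn : Nat.card (Mem P) = 672 := by
    have h := iv.card_equation
    rw [hF] at h
    omega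
  -- the lines
  let O := {p : Mem P × Mem P // p.1 ≠ p.2}
  let Λ := {X : Subgroup G // ∃ p : O, p.1.1.1 ⊔ p.1.2.1 = X}
  haveI := Fintype.ofFinite Λ
  have hΛ : Nat.card O = Nat.card Λ * 132 :=
    card_of_fibres (fun p : O => (⟨_, p, rfl⟩ : Λ)) 132 fun X => by
      obtain ⟨X, ⟨⟨S, T⟩, hne⟩, rfl⟩ := X
      rw [← iv.card_line_pairs hne]
      exact Nat.card_congr (Equiv.subtypeEquivRight fun p =>
        ⟨fun e => congrArg Subtype.val e, fun e => Subtype.ext e⟩)
  have hact : ∀ (g : G) (X : Λ), ∃ p : O, p.1.1.1 ⊔ p.1.2.1 = X.1.map (MulAut.conj g).toMonoidHom := by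
    rintro g ⟨X, p, rfl⟩
    exact ⟨⟨(g • p.1.1, g • p.1.2), fun e => p.2 (MulAction.injective g e)⟩,
      by rw [Subgroup.map_sup]; rfl⟩
  letI : MulAction G Λ :=
    { smul := fun g X => ⟨X.1.map (MulAut.conj g).toMonoidHom, hact g X⟩
      one_smul := fun X => Subtype.ext (map_conj_one X.1)
      mul_smul := fun g h X => Subtype.ext (map_conj_mul X.1 g h) }
  have hsmul : ∀ (g : G) (p : O) (X : Λ), p.1.1.1 ⊔ p.1.2.1 = X.1 →
      (g • p.1.1).1 ⊔ (g • p.1.2).1 = (g • X).1 := fun g p X h => by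
    show _ = X.1.map _
    rw [← h, Subgroup.map_sup]
    rfl
  have hmap : ∀ (g : G) (X : Λ) (S : Mem P), S.1 ≤ X.1 → (g • S).1 ≤ (g • X).1 :=
    fun g X S h => Subgroup.map_mono h
  have hline : ∀ (X : Λ) (S T : Mem P), S ≠ T → S.1 ≤ X.1 → T.1 ≤ X.1 → S.1 ⊔ T.1 = X.1 := by
    rintro ⟨X, ⟨⟨A, B⟩, hne⟩, rfl⟩ S T hST hS hT
    exact iv.line_eq hST hne hS hT
  -- fixed lines with a fixed member
  let B := {X : Λ // u • X = X ∧ ∃ S : Mem P, u • S = S ∧ S.1 ≤ X.1}
  have hBsecond : ∀ X : B, ∃ S T : Mem P, S ≠ T ∧ u • S = S ∧ u • T = T ∧ S.1 ≤ X.1.1 ∧ T.1 ≤ X.1.1 := by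
    rintro ⟨X, hX, S, hS, hSX⟩
    obtain ⟨p, hp⟩ := X.2
    have hc12 : Nat.card {T : Mem P // T.1 ≤ X.1} = 12 := by
      rw [← hp]
      exact iv.card_line p.2
    letI : MulAction (zpowers u) {T : Mem P // T.1 ≤ X.1} :=
      { smul := fun g T => ⟨(g : G) • T.1, by
          obtain ⟨g, m, rfl⟩ := g
          have h := hmap (u ^ m) X T.1 T.2
          rwa [show u ^ m • X = X from
            MulAction.mem_stabilizer_iff.1 (Subgroup.zpow_mem (MulAction.stabilizer G X) hX m)] at h⟩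
        one_smul := fun T => Subtype.ext (one_smul G T.1)
        mul_smul := fun g h T => Subtype.ext (mul_smul (g : G) (h : G) T.1) }
    have hpar := card_fixed_parity (α := {T : Mem P // T.1 ≤ X.1})
      (x := (⟨u, mem_zpowers u⟩ : zpowers u)) (Subtype.ext iv.u_sq)
    rw [hc12] at hpar
    set W := {a : {T : Mem P // T.1 ≤ X.1} // (⟨u, mem_zpowers u⟩ : zpowers u) • a = a}
    haveI : Nonempty W := ⟨⟨⟨S, hSX⟩, Subtype.ext hS⟩⟩
    have h2 : 2 ≤ Nat.card W := by
      have : 0 < Nat.card W := Nat.card_pos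
      omega
    haveI := Finite.one_lt_card_iff_nontrivial.1 h2
    obtain ⟨T, hT⟩ := exists_ne (⟨⟨S, hSX⟩, Subtype.ext hS⟩ : W)
    exact ⟨S, T.1.1, fun e => hT (Subtype.ext (Subtype.ext e.symm)), hS, congrArg Subtype.val T.2, hSX, T.1.2⟩
  have hfixB : Nat.card {p : Fixed P u × Fixed P u // p.1 ≠ p.2} = Nat.card B * 2 := by
    refine card_of_fibres (fun p : {p : Fixed P u × Fixed P u // p.1 ≠ p.2} =>
      (⟨⟨_, ⟨(p.1.1.1, p.1.2.1), fun e => p.2 (Subtype.ext e)⟩, rfl⟩,
        Subtype.ext (by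
          show Subgroup.map _ (p.1.1.1.1 ⊔ p.1.2.1.1) = _
          rw [Subgroup.map_sup]
          exact congrArg₂ (· ⊔ ·) (congrArg Subtype.val p.1.1.2) (congrArg Subtype.val p.1.2.2)),
        p.1.1.1, p.1.1.2, le_sup_left⟩ : B)) 2 fun X => ?_
    obtain ⟨S, T, hST, hS, hT, hSX, hTX⟩ := hBsecond X
    have hthird : ∀ W : Fixed P u, W.1.1 ≤ X.1.1 → W = ⟨S, hS⟩ ∨ W = ⟨T, hT⟩ := fun W hW =>
      (iv.line_two hST hS hT W.2 (by rw [hline X.1 S T hST hSX hTX]; exact hW)).imp
        (fun e => Subtype.ext e) fun e => Subtype.ext e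
    rw [← Nat.card_fin 2]
    let e0 : {p : Fixed P u × Fixed P u // p.1 ≠ p.2} :=
      ⟨(⟨S, hS⟩, ⟨T, hT⟩), fun e => hST (congrArg Subtype.val e)⟩
    let e1 : {p : Fixed P u × Fixed P u // p.1 ≠ p.2} :=
      ⟨(⟨T, hT⟩, ⟨S, hS⟩), fun e => hST (congrArg Subtype.val e).symm⟩
    refine (Nat.card_congr (Equiv.ofBijective (![⟨e0, Subtype.ext (Subtype.ext (hline X.1 S T hST hSX hTX))⟩,
      ⟨e1, Subtype.ext (Subtype.ext (hline X.1 T S hST.symm hTX hSX))⟩]) ⟨?_, ?_⟩)).symm
    · intro a b hab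
      have h := congrArg (fun z => z.1.1.1.1) hab
      fin_cases a <;> fin_cases b <;> simp [e0, e1] at h ⊢
      exacts [hST h, hST h.symm]
    · rintro ⟨⟨⟨A, C⟩, hAC⟩, hX⟩
      have hX' : A.1.1 ⊔ C.1.1 = X.1.1 := congrArg (fun z : B => z.1.1) hX
      have hA := hthird A (le_sup_left.trans (le_of_eq hX'))
      have hC := hthird C (le_sup_right.trans (le_of_eq hX'))
      rcases hA with rfl | rfl <;> rcases hC with rfl | rfl
      · exact absurd rfl hAC
      · exact ⟨0, rfl⟩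
      · exact ⟨1, rfl⟩
      · exact absurd rfl hAC
  rw [card_offDiag, hF] at hfixB
  -- the moved members of the fixed lines
  let M := {S : Mem P // u • S ≠ S}
  have hMcard : Nat.card M = 660 := by
    haveI := Fintype.ofFinite (Mem P)
    haveI := Fintype.ofFinite (Fixed P u)
    rw [Nat.card_eq_fintype_card, Fintype.card_subtype_compl, ← Nat.card_eq_fintype_card,
      ← Nat.card_eq_fintype_card]
    change Nat.card (Mem P) - Nat.card (Fixed P u) = 660
    rw [hn, hF]
  let lineOf : M → Λ := fun S =>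
    ⟨S.1.1 ⊔ (u • S.1).1, ⟨(S.1, u • S.1), fun e => S.2 e.symm⟩, rfl⟩
  have hBM : Nat.card {S : M // u • lineOf S = lineOf S ∧ ∃ T : Mem P, u • T = T ∧ T.1 ≤ (lineOf S).1} =
      Nat.card B * 10 := by
    refine card_of_fibres (fun S : {S : M // u • lineOf S = lineOf S ∧ ∃ T : Mem P, u • T = T ∧ T.1 ≤ (lineOf S).1} =>
      (⟨lineOf S.1, S.2⟩ : B)) 10 fun X => ?_
    obtain ⟨S, T, hST, hS, hT, hSX, hTX⟩ := hBsecond X
    have hXst := hline X.1 S T hST hSX hTX
    have h12 : Nat.card {W : Line P X.1.1 // W ≠ ⟨S, hSX⟩} = 11 := by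
      rw [card_ne_point, ← hXst, iv.card_line hST]
    have h10 : Nat.card {W : {W : Line P X.1.1 // W ≠ ⟨S, hSX⟩} //
        W ≠ ⟨⟨T, hTX⟩, fun e => hST (congrArg Subtype.val e).symm⟩} = 10 := by
      rw [card_ne_point, h12]
    rw [← h10]
    have hmove : ∀ W : Mem P, W.1 ≤ X.1.1 → W ≠ S → W ≠ T → u • W ≠ W := fun W hW h1 h2 e => by
      rcases iv.line_two hST hS hT e (hXst ▸ hW) with h | h
      exacts [h1 h, h2 h]
    have hlineOf : ∀ W : M, W.1.1 ≤ X.1.1 → lineOf W = X.1 := fun W hW => Subtype.ext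
      (hline X.1 W.1 (u • W.1) (fun e => W.2 e.symm) hW (by
        have := hmap u X.1 W.1 hW
        rwa [X.2.1] at this))
    exact Nat.card_congr
      { toFun := fun W => ⟨⟨⟨W.1.1.1, by
            have h : lineOf W.1.1 = X.1 := congrArg Subtype.val W.2
            rw [← h]; exact le_sup_left⟩, fun e => W.1.1.2 (by
              rw [show W.1.1.1 = S from congrArg Subtype.val e]; exact hS)⟩,
          fun e => W.1.1.2 (by
            rw [show W.1.1.1 = T from congrArg (fun z => z.1.1) e]; exact hT)⟩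
        invFun := fun W => ⟨⟨⟨W.1.1.1, hmove _ W.1.1.2 (fun e => W.1.2 (Subtype.ext e))
            (fun e => W.2 (Subtype.ext (Subtype.ext e)))⟩, by
              rw [hlineOf _ W.1.1.2]; exact X.2⟩, Subtype.ext (hlineOf _ W.1.1.2)⟩
        left_inv := fun W => rfl
        right_inv := fun W => rfl }
  -- every fixed line holds a fixed member
  have hall : ∀ S : M, u • lineOf S = lineOf S ∧ ∃ T : Mem P, u • T = T ∧ T.1 ≤ (lineOf S).1 := by
    intro S
    have hsurj : Function.Surjective (Subtype.val :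
        {S : M // u • lineOf S = lineOf S ∧ ∃ T : Mem P, u • T = T ∧ T.1 ≤ (lineOf S).1} → M) :=
      ((Nat.bijective_iff_injective_and_card _).2 ⟨Subtype.val_injective, by rw [hBM, hMcard]; omega⟩).2
    obtain ⟨⟨W, hW⟩, rfl⟩ := hsurj S
    exact hW
  have hfixedΛ : Nat.card {X : Λ // u • X = X} = 66 := by
    have hbij : Function.Bijective (fun X : B => (⟨X.1, X.2.1⟩ : {X : Λ // u • X = X})) := by
      refine ⟨fun a b hab => Subtype.ext (congrArg (fun z => z.1) hab), fun X => ?_⟩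
      refine ⟨⟨X.1, X.2, ?_⟩, rfl⟩
      obtain ⟨p, hp⟩ := X.1.2
      by_cases hfix : u • p.1.1 = p.1.1
      · exact ⟨p.1.1, hfix, hp ▸ le_sup_left⟩
      · obtain ⟨-, T, hT, hTle⟩ := hall ⟨p.1.1, hfix⟩
        refine ⟨T, hT, hTle.trans (sup_le (hp ▸ le_sup_left) ?_)⟩
        have := hmap u X.1 p.1.1 (hp ▸ le_sup_left)
        rwa [X.2] at this
    rw [← Nat.card_congr (Equiv.ofBijective _ hbij)]
    omega
  rw [show Nat.card O = Nat.card (Mem P) * (Nat.card (Mem P) - 1) from card_offDiag, hn] at hΛ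
  -- an odd permutation
  set σ := MulAction.toPermHom G Λ u with hσ
  have hσ2 : σ ^ 2 = 1 := by rw [hσ, ← map_pow, pow_two, iv.u_sq, map_one]
  have hsign := SmallSimple.Basic.sign_eq_one hG (MulAction.toPermHom G Λ) u
  rw [← hσ, Equiv.Perm.sign_of_pow_two_eq_one hσ2, ← Nat.card_eq_fintype_card,
    ← Nat.card_eq_fintype_card] at hsign
  change (-1 : ℤˣ) ^ ((Nat.card Λ - Nat.card {X : Λ // u • X = X}) / 2) = 1 at hsign
  rw [hfixedΛ, show Nat.card Λ = 3416 by omega, show (3416 - 66) / 2 = 2 * 837 + 1 from rfl, pow_succ,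
    pow_mul, Int.units_sq, one_pow, one_mul] at hsign
  exact absurd hsign (by decide)

end Inverting

namespace Frame

variable {Q R : Mem P} {f j : G}

/-- An inverting involution with `K` odd and `C_K(u) = 1` is impossible. -/
theorem false_of_inverting [Finite G] (fr : Frame P Q R f j) (u : G) (hu : u ∈ twoStab Q R)
    (hu2 : u * u = 1) (huQ : ∀ x ∈ Q.1, u * x * u⁻¹ = x⁻¹) (hodd : Odd (Nat.card (lineCent Q R)))
    (hCu : ∀ k ∈ lineCent Q R, u * k = k * u → k = 1) : False :=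
  Inverting.false_of_inverting' (u := u) ⟨fr, hu, hu2, huQ, hodd, hCu⟩

end Frame

end Cfsg.Agent.ElevenPairs
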