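import Cfsg.Agent.Lib.ElevenPairs.LCase.Hom
import Cfsg.Agent.Lib.ElevenPairs.LCase.Small
import Cfsg.Agent.S0033
import Cfsg.Agent.S0035
import Cfsg.Agent.S0039
import Cfsg.Agent.S0040

/-!
# The exceptional end

A character of order eleven of a member centraliser that is nontrivial on a self centralising
element of order eleven of `K` is moved by the two point stabiliser, as the group is perfect. The
element moving it gives an involution inverting the members, and `K` is then of order eleven.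
-/

set_option autoImplicit false
set_option linter.style.haveILetI false

namespace Cfsg.Agent.ElevenPairs

open Subgroup
open scoped Pointwise commutatorElement

universe u

/-- An element of order eleven with cyclic centraliser of order eleven: the other elements of this
order are conjugate to its powers. -/
theorem exists_conj_pow_of_self_centralising {Γ : Type*} [Group Γ] [Finite Γ] {k : Γ}
    (ho : orderOf k = 11) (hC : ∀ g : Γ, g * k = k * g → g ∈ zpowers k) {y : Γ}
    (hy : orderOf y = 11) : ∃ (c : Γ) (e : ℕ), c * y * c⁻¹ = k ^ e := by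
  haveI h11 : Fact (Nat.Prime 11) := fact_prime_eleven
  have hp : ∀ z : Γ, orderOf z = 11 → IsPGroup 11 (zpowers z) := fun z hz =>
    IsPGroup.of_card (n := 1) (by rw [Nat.card_zpowers, hz, pow_one])
  obtain ⟨S, hS⟩ := (hp k ho).exists_le_sylow
  obtain ⟨S', hS'⟩ := (hp y hy).exists_le_sylow
  have hSk : (S : Subgroup Γ) ≤ zpowers k := by
    intro s hs
    haveI : Nontrivial (S : Subgroup Γ) := (nontrivial_iff_ne_bot _).2 fun e => by
      have h1 := e ▸ hS (mem_zpowers k)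
      rw [mem_bot] at h1
      rw [h1, orderOf_one] at ho
      omega
    haveI := S.isPGroup'.center_nontrivial
    obtain ⟨z, hz⟩ := exists_ne (1 : center (S : Subgroup Γ))
    have hzk : ((z : (S : Subgroup Γ)) : Γ) ∈ zpowers k := hC _
      (congrArg Subtype.val (mem_center_iff.1 z.2 ⟨k, hS (mem_zpowers k)⟩)).symm
    have hgen : zpowers ((z : (S : Subgroup Γ)) : Γ) = zpowers k := by
      refine Subgroup.eq_of_le_of_card_ge (zpowers_le.2 hzk) ?_
      rw [Nat.card_zpowers, Nat.card_zpowers, ho]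
      have hd := orderOf_dvd_natCard (⟨_, hzk⟩ : zpowers k)
      rw [Subgroup.orderOf_mk, Nat.card_zpowers, ho] at hd
      rcases (Nat.dvd_prime h11.out).1 hd with e | e
      · exact absurd (orderOf_eq_one_iff.1 e) fun e => hz (Subtype.ext (Subtype.ext e))
      · omega
    obtain ⟨m, hm⟩ := hgen.ge (mem_zpowers k)
    refine hC s ?_
    rw [← (show ((z : (S : Subgroup Γ)) : Γ) ^ m = k from hm)]
    exact ((show Commute s ((z : (S : Subgroup Γ)) : Γ) from
      congrArg Subtype.val (mem_center_iff.1 z.2 ⟨s, hs⟩)).zpow_right m).eq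
  obtain ⟨c, hc⟩ := MulAction.exists_smul_eq Γ S' S
  have hmem : c * y * c⁻¹ ∈ (S : Subgroup Γ) := by
    rw [← hc]
    exact ⟨y, hS' (mem_zpowers y), rfl⟩
  obtain ⟨e, he⟩ := mem_powers_iff_mem_zpowers.2 (hSk hmem)
  exact ⟨c, e, he.symm⟩

variable {G : Type u} [Group G] {P : Subgroup G}

/-- A homomorphism to a commutative group ignores conjugation. -/
theorem hom_conj {H : Subgroup G} {A : Type*} [CommGroup A] (θ : H →* A) {c x : G} (hc : c ∈ H)
    (hx : x ∈ H) (h : c * x * c⁻¹ ∈ H) : θ ⟨c * x * c⁻¹, h⟩ = θ ⟨x, hx⟩ := by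
  rw [show (⟨c * x * c⁻¹, h⟩ : H) = ⟨c, hc⟩ * ⟨x, hx⟩ * ⟨c, hc⟩⁻¹ from rfl, map_mul, map_mul,
    map_inv, mul_inv_cancel_comm]

namespace Frame

variable {Q R : Mem P} {f j : G}

theorem Q_le_centralizer [Finite G] (fr : Frame P Q R f j) :
    Q.1 ≤ centralizer (Q.1 : Set G) := by
  haveI : Fact (Nat.Prime 11) := fact_prime_eleven
  haveI : IsCyclic Q.1 := isCyclic_of_prime_card (fr.mem_card Q)
  letI := IsCyclic.commGroup (α := Q.1)
  intro a ha
  exact Subgroup.mem_centralizer_iff.2 fun b hb =>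
    congrArg Subtype.val (mul_comm (⟨b, hb⟩ : Q.1) ⟨a, ha⟩)

/-- The index of the centraliser in the stabiliser of a member divides ten. -/
theorem index_dvd_ten [Finite G] (fr : Frame P Q R f j) :
    ((centralizer (Q.1 : Set G)).subgroupOf (MulAction.stabilizer G Q)).index ∣ 10 := by
  haveI : Fact (Nat.Prime 11) := fact_prime_eleven
  haveI : IsCyclic Q.1 := isCyclic_of_prime_card (fr.mem_card Q)
  let ψ := Q.1.normalizerMonoidHom.comp (Subgroup.inclusion
    (fun g hg => (smul_eq_iff g Q).1 hg : MulAction.stabilizer G Q ≤ normalizer (Q.1 : Set G)))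
  have hker : (centralizer (Q.1 : Set G)).subgroupOf (MulAction.stabilizer G Q) = ψ.ker := by
    rw [← MonoidHom.comap_ker, normalizerMonoidHom_ker]
    rfl
  rw [hker, Subgroup.index_ker]
  refine dvd_trans (Subgroup.card_subgroup_dvd_card ψ.range) ?_
  rw [IsCyclic.card_mulAut, fr.mem_card, Nat.totient_prime fact_prime_eleven.out]

/-- Some element of the two point stabiliser moves the character at `k`. -/
theorem exists_moved [Finite G] (fr : Frame P Q R f j) {k : G} (hk : k ∈ lineCent Q R)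
    (ho : orderOf k = 11) (θ : centralizer (Q.1 : Set G) →* Multiplicative (ZMod 11))
    (hθk : θ ⟨k, (fr.K_iff.1 hk).1⟩ ≠ 1) :
    ∃ b ∈ twoStab Q R, ∃ h, θ ⟨b * k * b⁻¹, h⟩ ≠ θ ⟨k, (fr.K_iff.1 hk).1⟩ := by
  classical
  haveI h11 : Fact (Nat.Prime 11) := fact_prime_eleven
  by_contra hcon
  push Not at hcon
  set α := θ ⟨k, (fr.K_iff.1 hk).1⟩ with hα
  have hk1 : k ≠ 1 := fun e => by rw [e, orderOf_one] at ho; omega
  have hHN : (centralizer (Q.1 : Set G)) ≤ (MulAction.stabilizer G Q) := fun c hc => smul_eq_of_mem_centralizer hc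
  -- a conjugate of `k` in `C(Q)` carries the member into the line
  have hline : ∀ g : G, g⁻¹ * k * g ∈ (centralizer (Q.1 : Set G)) → (g • Q).1 ≤ (Q.1 ⊔ R.1) := fun g hg => by
    have h1 : (g⁻¹ * k * g) • Q = Q := smul_eq_of_mem_centralizer hg
    rw [mul_smul, mul_smul, inv_smul_eq_iff] at h1
    exact fr.K_fixed hk hk1 h1
  have hval : ∀ (g : G) (hg : g⁻¹ * k * g ∈ (centralizer (Q.1 : Set G))), θ ⟨_, hg⟩ = α := by
    intro g hg
    obtain ⟨x, hx, hx'⟩ := fr.exists_conj_in_pair Q R fr.ne (hline g hg) (fr.mem_card (g • Q))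
    have hxQ : g • Q = x • Q := Subtype.ext hx'.symm
    have haQ : (x⁻¹ * g) • Q = Q := by rw [mul_smul, hxQ, inv_smul_smul]
    have hne : (x⁻¹ * g)⁻¹ • R ≠ Q := fun e => fr.ne.symm (by
      rw [inv_smul_eq_iff, haQ] at e
      exact e)
    obtain ⟨c, hc, hcR⟩ := fr.exists_centralizing fr.ne.symm hne
    set b := x⁻¹ * g * c with hb
    have hbT : b ∈ twoStab Q R :=
      ⟨MulAction.mem_stabilizer_iff.2 (by rw [hb, mul_smul, smul_eq_of_mem_centralizer hc, haQ]),
        MulAction.mem_stabilizer_iff.2 (by rw [hb, mul_smul, hcR, smul_inv_smul])⟩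
    have hy : b⁻¹ * k * b⁻¹⁻¹ ∈ (centralizer (Q.1 : Set G)) := (fr.K_iff.1 (fr.smul_conj_mem (inv_mem hbT) hk)).1
    have e : g⁻¹ * k * g = c * (b⁻¹ * k * b⁻¹⁻¹) * c⁻¹ := by
      calc g⁻¹ * k * g = g⁻¹ * (x * k) * x⁻¹ * g := by rw [← fr.K_commute hk hx]; group
        _ = c * (b⁻¹ * k * b⁻¹⁻¹) * c⁻¹ := by rw [hb]; group
    rw [show (⟨_, hg⟩ : (centralizer (Q.1 : Set G))) = ⟨_, mul_mem (mul_mem hc hy) (inv_mem hc)⟩ from Subtype.ext e,
      hom_conj θ hc hy]
    exact hcon _ (inv_mem hbT) hy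
  have hfix : ∀ g : G, k • (g : G ⧸ (centralizer (Q.1 : Set G))) = (g : G ⧸ (centralizer (Q.1 : Set G))) ↔ (g • Q).1 ≤ (Q.1 ⊔ R.1) := by
    intro g
    refine ⟨fun h => hline g ?_, fun h => ?_⟩
    · have h1 : (k * g)⁻¹ * g ∈ (centralizer (Q.1 : Set G)) := QuotientGroup.eq.1 h
      have := inv_mem h1
      rwa [show ((k * g)⁻¹ * g)⁻¹ = g⁻¹ * k * g by group] at this
    · show ((k * g : G) : G ⧸ (centralizer (Q.1 : Set G))) = (g : G ⧸ (centralizer (Q.1 : Set G)))
      have h1 := mem_centralizer_smul (a := g⁻¹) (Q := (g • Q).1)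
        (Subgroup.centralizer_le (show ((g • Q).1 : Set G) ⊆ _ from h) hk)
      rw [← Mem.smul_val, inv_smul_smul, inv_inv] at h1
      exact QuotientGroup.eq.2 (by
        rw [show (k * g)⁻¹ * g = (g⁻¹ * k * g)⁻¹ by group]; exact inv_mem h1)
  -- the fixed cosets
  let φ : G ⧸ (MulAction.stabilizer G Q) → Mem P := MulAction.ofQuotientStabilizer G Q
  have hφ : Function.Bijective φ := ⟨MulAction.injective_ofQuotientStabilizer G Q, fun S => by
    obtain ⟨g, rfl⟩ := exists_smul_eq Q S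
    exact ⟨(g : G ⧸ (MulAction.stabilizer G Q)), rfl⟩⟩
  have hcount : Nat.card {c : G ⧸ (centralizer (Q.1 : Set G)) // k • c = c} = 12 * (((centralizer (Q.1 : Set G))).subgroupOf (MulAction.stabilizer G Q)).index := by
    rw [Subgroup.index, ← fr.card_line fr.ne, ← Nat.card_prod]
    have e1 : {x : G ⧸ (MulAction.stabilizer G Q) // (φ x).1 ≤ (Q.1 ⊔ R.1)} ≃ Line P (Q.1 ⊔ R.1) :=
      (Equiv.ofBijective φ hφ).subtypeEquiv (q := fun S : Mem P => S.1 ≤ (Q.1 ⊔ R.1)) fun _ => Iff.rfl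
    refine Nat.card_congr (((quotientEquivProdOfLE hHN).subtypeEquiv
      (q := fun z : (G ⧸ (MulAction.stabilizer G Q)) × (MulAction.stabilizer G Q) ⧸ ((centralizer (Q.1 : Set G))).subgroupOf (MulAction.stabilizer G Q) => (φ z.1).1 ≤ (Q.1 ⊔ R.1)) fun c => ?_).trans
      ((Equiv.prodSubtypeFstEquivSubtypeProd (p := fun x : G ⧸ (MulAction.stabilizer G Q) => (φ x).1 ≤ (Q.1 ⊔ R.1))).trans
        (Equiv.prodCongr e1 (Equiv.refl _))))
    induction c using QuotientGroup.induction_on with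
    | _ g => exact hfix g
  -- the transfer
  haveI := Fintype.ofFinite (Quotient (MulAction.orbitRel (zpowers k) (G ⧸ (centralizer (Q.1 : Set G)))))
  have htr : MonoidHom.transfer θ k = α ^ Nat.card {c : G ⧸ (centralizer (Q.1 : Set G)) // k • c = c} := by
    rw [MonoidHom.transfer_eq_prod_quotient_orbitRel_zpowers_quot]
    have hterm : ∀ q : Quotient (MulAction.orbitRel (zpowers k) (G ⧸ (centralizer (Q.1 : Set G)))),
        θ ⟨q.out.out⁻¹ * k ^ Function.minimalPeriod (k • ·) q.out * q.out.out,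
          QuotientGroup.out_conj_pow_minimalPeriod_mem (centralizer (Q.1 : Set G)) k q.out⟩ =
        if k • q.out = q.out then α else 1 := by
      intro q
      have hmem := QuotientGroup.out_conj_pow_minimalPeriod_mem (centralizer (Q.1 : Set G)) k q.out
      split_ifs with h
      · have hper : Function.minimalPeriod (k • ·) q.out = 1 :=
          Function.minimalPeriod_eq_one_iff_isFixedPt.2 h
        have hm : q.out.out⁻¹ * k * q.out.out ∈ (centralizer (Q.1 : Set G)) := by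
          rw [hper, pow_one] at hmem; exact hmem
        rw [show (⟨_, hmem⟩ : (centralizer (Q.1 : Set G))) = ⟨_, hm⟩ from Subtype.ext (by simp [hper]), hval _ hm]
      · have hper : Function.minimalPeriod (k • ·) q.out = 11 := by
          refine ((Nat.dvd_prime h11.out).1 ?_).resolve_left fun h1 =>
            h (Function.minimalPeriod_eq_one_iff_isFixedPt.1 h1)
          apply Function.IsPeriodicPt.minimalPeriod_dvd
          show (k • ·)^[11] q.out = q.out
          rw [smul_iterate, ← ho, pow_orderOf_eq_one]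
          exact one_smul _ _
        rw [show (⟨_, hmem⟩ : (centralizer (Q.1 : Set G))) = 1 from Subtype.ext (by
          show q.out.out⁻¹ * k ^ Function.minimalPeriod (k • ·) q.out * q.out.out = 1
          rw [hper, ← ho, pow_orderOf_eq_one, mul_one, inv_mul_cancel]), map_one]
    rw [Finset.prod_congr rfl fun q _ => hterm q, Finset.prod_ite, Finset.prod_const,
      Finset.prod_const_one, mul_one, ← Fintype.card_subtype, ← Nat.card_eq_fintype_card]
    congr 1
    refine Nat.card_congr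
      { toFun := fun q => ⟨q.1.out, q.2⟩
        invFun := fun c => ⟨Quotient.mk'' c.1, ?_⟩
        left_inv := fun q => Subtype.ext (Quotient.out_eq' q.1)
        right_inv := fun c => Subtype.ext ?_ }
    all_goals
      obtain ⟨⟨z, m, rfl⟩, hg⟩ := Quotient.mk_out (s := MulAction.orbitRel (zpowers k) (G ⧸ (centralizer (Q.1 : Set G)))) c.1
      have hc : (k ^ m) • c.1 = c.1 :=
        MulAction.mem_stabilizer_iff.1 (Subgroup.zpow_mem (MulAction.stabilizer G c.1) c.2 m)
      have hout : (Quotient.mk'' c.1 : Quotient (MulAction.orbitRel (zpowers k) (G ⧸ (centralizer (Q.1 : Set G))))).out = c.1 :=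
        hg.symm.trans hc
    · rw [hout]; exact c.2
    · exact hout
  have h1 : MonoidHom.transfer θ k = 1 :=
    Abelianization.commutator_subset_ker (MonoidHom.transfer θ)
      ((fr.perfect.symm ▸ mem_top k : k ∈ commutator G))
  rw [htr, hcount] at h1
  have hoα : orderOf α = 11 := orderOf_eq_prime (by
    rw [hα, ← map_pow, show (⟨k, (fr.K_iff.1 hk).1⟩ : (centralizer (Q.1 : Set G))) ^ 11 = 1 from Subtype.ext (by
      show k ^ 11 = 1; rw [← ho, pow_orderOf_eq_one]), map_one]) hθk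
  have hd := orderOf_dvd_of_pow_eq_one h1
  rw [hoα] at hd
  rcases h11.out.dvd_mul.1 hd with h | h
  · omega
  · exact absurd (h.trans fr.index_dvd_ten) (by norm_num)

/-- An involution inverting `k` and the members. -/
theorem exists_inverting_invol [Finite G] (fr : Frame P Q R f j)
    (hodd : Odd (Nat.card (lineCent Q R))) {k : G} (hk : k ∈ lineCent Q R) (ho : orderOf k = 11)
    (hC : ∀ g ∈ lineCent Q R, g * k = k * g → g ∈ zpowers k)
    (hN : ∀ g ∈ lineCent Q R, ∀ e : ℕ, g * k * g⁻¹ = k ^ e → g * k * g⁻¹ = k)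
    (θ : centralizer (Q.1 : Set G) →* Multiplicative (ZMod 11))
    (hθk : θ ⟨k, (fr.K_iff.1 hk).1⟩ ≠ 1) :
    ∃ u ∈ twoStab Q R, u * u = 1 ∧ (∀ x ∈ Q.1, u * x * u⁻¹ = x⁻¹) ∧ u * k * u⁻¹ = k⁻¹ := by
  obtain ⟨b, hb, hbH, hne⟩ := fr.exists_moved hk ho θ hθk
  have hy : b * k * b⁻¹ ∈ lineCent Q R := fr.smul_conj_mem hb hk
  obtain ⟨c, e, hce⟩ := exists_conj_pow_of_self_centralising (k := (⟨k, hk⟩ : lineCent Q R))
    (by rw [Subgroup.orderOf_mk, ho])
    (fun g hg => by
      obtain ⟨m, hm⟩ := hC g g.2 (congrArg Subtype.val hg)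
      exact ⟨m, Subtype.ext hm⟩)
    (y := ⟨_, hy⟩) (by
      rw [Subgroup.orderOf_mk]
      exact ((MulAut.conj b).orderOf_eq k).trans ho)
  have hce' : (c : G) * (b * k * b⁻¹) * (c : G)⁻¹ = k ^ e := congrArg Subtype.val hce
  set a := (c : G) * b with ha
  have haT : a ∈ twoStab Q R := mul_mem (fr.K_le_twoStab c.2) hb
  have hak : a * k * a⁻¹ = k ^ e := by rw [← hce', ha]; group
  have he1 : ¬ e ≡ 1 [MOD 11] := by
    intro h
    refine hne ?_
    have h2 : k ^ e = k := by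
      rw [pow_eq_pow_iff_modEq.2 (show e ≡ 1 [MOD orderOf k] by rwa [ho]), pow_one]
    rw [h2] at hce'
    rw [← hom_conj θ (fr.K_iff.1 c.2).1 hbH (by rw [hce']; exact (fr.K_iff.1 hk).1)]
    exact congrArg θ (Subtype.ext hce')
  obtain ⟨d, hd, i, hdi⟩ := fr.mem_torusK.1 (fr.sq_mem_torusK haT)
  have ha2 : a ^ 2 * k * (a ^ 2)⁻¹ = k ^ (e * e) := by
    rw [show a ^ 2 * k * (a ^ 2)⁻¹ = a * (a * k * a⁻¹) * a⁻¹ by rw [pow_two]; group, hak,
      ← conj_pow, hak, pow_mul]
  have hfk : f ^ i * k * (f ^ i)⁻¹ = k := by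
    rw [← (Commute.pow_right (fr.f_commute (fr.K_le_twoStab hk)) i).eq, mul_inv_cancel_right]
  have hdk : d * k * d⁻¹ = a ^ 2 * k * (a ^ 2)⁻¹ := by
    conv_lhs => rw [← hfk]
    rw [hdi]; group
  have hd2 : d * k * d⁻¹ = k := hN d hd _ (hdk.trans ha2)
  have hee : e * e ≡ 1 [MOD 11] := by
    have := pow_eq_pow_iff_modEq.1 (show k ^ (e * e) = k ^ 1 by rw [pow_one, ← ha2, ← hdk, hd2])
    rwa [ho] at this
  have he10 : e ≡ 10 [MOD 11] := by
    have key : ∀ r : Fin 11, r.val * r.val % 11 = 1 → r.val = 1 ∨ r.val = 10 := by decide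
    rcases key ⟨e % 11, Nat.mod_lt _ (by norm_num)⟩ (by rw [← Nat.mul_mod]; exact hee) with h | h
    · exact absurd h he1
    · exact h
  have hinv : k ^ e = k⁻¹ := by
    rw [pow_eq_pow_iff_modEq.2 (show e ≡ 10 [MOD orderOf k] by rwa [ho])]
    exact eq_inv_of_mul_eq_one_left (by rw [← pow_succ, show 10 + 1 = orderOf k from ho.symm, pow_orderOf_eq_one])
  have hcomm : Commute (a ^ 2) k := mul_inv_eq_iff_eq_mul.1 (hdk.symm.trans hd2)
  obtain ⟨t, ht⟩ : Odd (Nat.card (torusK Q R f)) := by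
    rw [fr.card_torusK]
    exact hodd.mul (by decide)
  set u := (a ^ 2) ^ t * a with hu
  have huT : u ∈ twoStab Q R := mul_mem (pow_mem (pow_mem haT 2) t) haT
  have hu2 : u * u = 1 := by
    rw [hu, show (a ^ 2) ^ t * a = a ^ (2 * t + 1) by rw [← pow_mul, ← pow_succ], ← pow_add,
      show 2 * t + 1 + (2 * t + 1) = 2 * (2 * t + 1) by ring, pow_mul, ← ht]
    exact congrArg Subtype.val
      (pow_card_eq_one' (x := (⟨_, fr.sq_mem_torusK haT⟩ : torusK Q R f)))
  have huk : u * k * u⁻¹ = k⁻¹ := by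
    rw [hu, show (a ^ 2) ^ t * a * k * ((a ^ 2) ^ t * a)⁻¹ =
      (a ^ 2) ^ t * (a * k * a⁻¹) * ((a ^ 2) ^ t)⁻¹ by group, hak, hinv,
      ((hcomm.pow_left t).inv_right).eq, mul_inv_cancel_right]
  refine ⟨u, huT, hu2, ?_, huk⟩
  obtain ⟨m, hm⟩ := fr.exists_exponent huT.1
  have hmm : m * m ≡ 1 [MOD 11] := fr.modEq_of_pow_eq (Q := Q) fun x hx => by
    rw [pow_mul, ← hm x hx, conj_pow, ← hm x hx, pow_one,
      show u * (u * x * u⁻¹) * u⁻¹ = u * u * x * (u * u)⁻¹ by group, hu2]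
    group
  have key : ∀ r : Fin 11, r.val * r.val % 11 = 1 → r.val = 1 ∨ r.val = 10 := by decide
  rcases key ⟨m % 11, Nat.mod_lt _ (by norm_num)⟩ (by rw [← Nat.mul_mod]; exact hmm) with h | h
  · exfalso
    have huK : u ∈ lineCent Q R := fr.K_iff.2 ⟨mem_centralizer_iff.2 fun x hx => by
      have h1 := hm x hx
      rw [fr.pow_modEq (show m ≡ 1 [MOD 11] from h) hx, pow_one] at h1
      exact (mul_inv_eq_iff_eq_mul.1 h1).symm, huT.2⟩
    have h1 := hN u huK e (huk.trans hinv.symm)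
    rw [huk] at h1
    have h2 := orderOf_dvd_of_pow_eq_one (show k ^ 2 = 1 by
      rw [pow_two]; nth_rewrite 1 [← h1]; exact inv_mul_cancel k)
    rw [ho] at h2
    norm_num at h2
  · intro x hx
    rw [hm x hx, fr.pow_modEq (show m ≡ 10 [MOD 11] from h) hx]
    refine eq_inv_of_mul_eq_one_left ?_
    rw [← pow_succ, fr.pow_modEq (show 10 + 1 ≡ 0 [MOD 11] from rfl) hx, pow_zero]

/-- A character of order eleven that is nontrivial on a self normalising element of order eleven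
is impossible. -/
theorem false_of_theta [Finite G] (fr : Frame P Q R f j) (hodd : Odd (Nat.card (lineCent Q R)))
    {k : G} (hk : k ∈ lineCent Q R) (ho : orderOf k = 11)
    (hC : ∀ g ∈ lineCent Q R, g * k = k * g → g ∈ Subgroup.zpowers k)
    (hN : ∀ g ∈ lineCent Q R, ∀ e : ℕ, g * k * g⁻¹ = k ^ e → g * k * g⁻¹ = k)
    (hline : ∀ x ∈ lineCent Q R, x ≠ 1 → ∀ S : Mem P, ¬ S.1 ≤ Q.1 ⊔ R.1 →
      (x • S).1 ≤ Q.1 ⊔ S.1 → x ^ 11 = 1)
    (θ : Subgroup.centralizer (Q.1 : Set G) →* Multiplicative (ZMod 11))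
    (hθQ : ∀ q (hq : q ∈ Subgroup.centralizer (Q.1 : Set G)), q ∈ Q.1 → θ ⟨q, hq⟩ = 1)
    (hθk : θ ⟨k, (fr.K_iff.1 hk).1⟩ ≠ 1) : False := by
  classical
  haveI h11 : Fact (Nat.Prime 11) := fact_prime_eleven
  obtain ⟨u, huT, hu2, huQ, huk⟩ := fr.exists_inverting_invol hodd hk ho hC hN θ hθk
  have hKH : (lineCent Q R) ≤ (centralizer (Q.1 : Set G)) := fun x hx => (fr.K_iff.1 hx).1
  set κ : (lineCent Q R) →* Multiplicative (ZMod 11) := θ.comp (Subgroup.inclusion hKH) with hκ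
  set k' : (lineCent Q R) := ⟨k, hk⟩ with hk'
  set O := κ.ker with hO
  have hcard11 : Nat.card (Multiplicative (ZMod 11)) = 11 := by simp
  have hα11 : orderOf (κ k') = 11 := orderOf_eq_prime (by
    rw [← map_pow, show k' ^ 11 = 1 from Subtype.ext (by
      show k ^ 11 = 1; rw [← ho, pow_orderOf_eq_one]), map_one]) hθk
  have hpowk : ∀ m : ℕ, κ (k' ^ m) = 1 → k' ^ m = 1 := fun m hm => by
    rw [map_pow] at hm
    have h1 := orderOf_dvd_of_pow_eq_one hm
    rw [hα11] at h1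
    exact Subtype.ext (orderOf_dvd_iff_pow_eq_one.1 (ho ▸ h1 : orderOf k ∣ m))
  -- `O` holds no element of order eleven
  have hO11 : ∀ x ∈ O, x ^ 11 = 1 → x = 1 := by
    intro x hx hx11
    by_contra hx1
    obtain ⟨c, e, hce⟩ := exists_conj_pow_of_self_centralising (k := k')
      (by rw [hk', Subgroup.orderOf_mk, ho])
      (fun g hg => by
        obtain ⟨m, hm⟩ := hC g g.2 (congrArg Subtype.val hg)
        exact ⟨m, Subtype.ext hm⟩)
      (orderOf_eq_prime hx11 hx1)
    have h1 := hpowk e (by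
      rw [← hce, map_mul, map_mul, map_inv, MonoidHom.mem_ker.1 hx, mul_one, mul_inv_cancel])
    rw [h1, conj_eq_one_iff] at hce
    exact hx1 hce
  have hsplit : ∀ x : (lineCent Q R), ∃ m : ℕ, x * (k' ^ m)⁻¹ ∈ O := by
    intro x
    have htop := zpowers_eq_top_of_prime_card hcard11 hθk
    obtain ⟨m, hm⟩ := mem_powers_iff_mem_zpowers.2 (htop ▸ mem_top (κ x) : κ x ∈ zpowers (κ k'))
    refine ⟨m, MonoidHom.mem_ker.2 ?_⟩
    rw [map_mul, map_inv, map_pow, ← (show κ k' ^ m = κ x from hm), mul_inv_cancel]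
  by_cases hO1 : O = ⊥
  · refine fr.false_of_inverting u huT hu2 huQ hodd fun x hx hxu => ?_
    obtain ⟨m, hm⟩ := hsplit ⟨x, hx⟩
    rw [hO1, mem_bot, mul_inv_eq_one] at hm
    have hxm : x = k ^ m := congrArg Subtype.val hm
    have h1 : (k ^ m)⁻¹ = k ^ m := by
      rw [← inv_pow, ← huk, conj_pow, ← hxm, hxu, mul_inv_cancel_right]
    have h2 := orderOf_dvd_of_pow_eq_one (show k ^ (m * 2) = 1 by
      rw [pow_mul, pow_two]; nth_rewrite 1 [← h1]; exact inv_mul_cancel _)
    rw [ho] at h2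
    rw [hxm]
    obtain ⟨r, rfl⟩ := (Nat.Coprime.dvd_of_dvd_mul_right (by norm_num) h2 : 11 ∣ m)
    rw [pow_mul, ← ho, pow_orderOf_eq_one, one_pow]
  -- `O` is a Frobenius complement modulo `Q`
  set M := θ.ker with hMdef
  set Qs : Subgroup M := (Q.1.subgroupOf (centralizer (Q.1 : Set G))).subgroupOf M with hQs
  have hQc : ∀ q ∈ Q.1, ∀ g ∈ (centralizer (Q.1 : Set G)), g * q = q * g := fun q hq g hg =>
    (Subgroup.mem_centralizer_iff.1 hg q hq).symm
  haveI : Qs.Normal := ⟨fun q hq g => by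
    show (((g : (centralizer (Q.1 : Set G))) : G) * ((q : (centralizer (Q.1 : Set G))) : G) * ((g : (centralizer (Q.1 : Set G))) : G)⁻¹) ∈ Q.1
    have hq' : ((q : (centralizer (Q.1 : Set G))) : G) ∈ Q.1 := hq
    rw [hQc _ hq' _ (g : (centralizer (Q.1 : Set G))).2, mul_inv_cancel_right]
    exact hq'⟩
  set π := QuotientGroup.mk' Qs with hπ
  let ι : O →* M :=
    ((Subgroup.inclusion hKH).comp O.subtype).codRestrict M fun x => MonoidHom.mem_ker.1 x.2
  let φ : O →* M ⧸ Qs := π.comp ι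
  have hKQ : ∀ x ∈ (lineCent Q R), x ∈ Q.1 → x = 1 := fun x hx hxQ => fr.line_center (mem_sup_left hxQ) hx
  have hφinj : Function.Injective φ := by
    intro a b hab
    have h0 : ((ι a : M) : M ⧸ Qs) = ((ι b : M) : M ⧸ Qs) := hab
    have h0' := QuotientGroup.eq.1 h0
    have h1 : ((a : (lineCent Q R)) : G)⁻¹ * ((b : (lineCent Q R)) : G) ∈ Q.1 := h0'
    exact Subtype.ext (Subtype.ext
      (inv_mul_eq_one.1 (hKQ _ (mul_mem (inv_mem (a : (lineCent Q R)).2) (b : (lineCent Q R)).2) h1)))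
  have hmem : ∀ g : M, ((g : (centralizer (Q.1 : Set G))) : G) • R ≠ Q → (((g : (centralizer (Q.1 : Set G))) : G) • R).1 ≤ Q.1 ⊔ R.1 →
      π g ∈ φ.range := by
    intro g hgne hgl
    obtain ⟨q, hq, hqR⟩ := fr.exists_smul_in_line fr.ne hgl hgne
    have hqH : q ∈ (centralizer (Q.1 : Set G)) := fr.Q_le_centralizer hq
    set w := q⁻¹ * ((g : (centralizer (Q.1 : Set G))) : G) with hw
    have hwK : w ∈ (lineCent Q R) := fr.K_iff.2 ⟨mul_mem (inv_mem hqH) (g : (centralizer (Q.1 : Set G))).2, by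
      rw [hw, mul_smul, ← hqR, inv_smul_smul]⟩
    have hwO : (⟨w, hwK⟩ : (lineCent Q R)) ∈ O := MonoidHom.mem_ker.2 (by
      show θ (⟨q, hqH⟩⁻¹ * (g : (centralizer (Q.1 : Set G)))) = 1
      rw [map_mul, map_inv, hθQ q hqH hq, inv_one, one_mul]
      exact MonoidHom.mem_ker.1 g.2)
    refine ⟨⟨⟨w, hwK⟩, hwO⟩, QuotientGroup.eq.2 ?_⟩
    show w⁻¹ * ((g : (centralizer (Q.1 : Set G))) : G) ∈ Q.1
    rw [hw, show (q⁻¹ * ((g : (centralizer (Q.1 : Set G))) : G))⁻¹ * ((g : (centralizer (Q.1 : Set G))) : G) =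
      (((g : (centralizer (Q.1 : Set G))) : G))⁻¹ * (q * ((g : (centralizer (Q.1 : Set G))) : G)) by group, ← hQc q hq _ (g : (centralizer (Q.1 : Set G))).2, inv_mul_cancel_left]
    exact hq
  have hgneQ : ∀ g : M, ((g : (centralizer (Q.1 : Set G))) : G) • R ≠ Q := fun g e => fr.ne.symm
    (MulAction.injective _ (e.trans (smul_eq_of_mem_centralizer (g : (centralizer (Q.1 : Set G))).2).symm))
  have hbar : Cfsg.IsFrobeniusComplement φ.range := by
    refine ⟨fun e => hO1 ?_, fun e => ?_, fun g hg => ?_⟩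
    · rw [eq_bot_iff]
      intro x hx
      have h1 : φ ⟨x, hx⟩ = 1 := mem_bot.1 (e ▸ ⟨⟨x, hx⟩, rfl⟩)
      exact congrArg Subtype.val (hφinj (h1.trans (map_one φ).symm))
    · -- some element of `M` carries `R` off the line
      obtain ⟨S, hS⟩ : ∃ S : Mem P, ¬ S.1 ≤ Q.1 ⊔ R.1 := by
        by_contra hall
        push Not at hall
        have h1 : Nat.card (Mem P) ≤ Nat.card (Line P (Q.1 ⊔ R.1)) :=
          Nat.card_le_card_of_injective (fun S => ⟨S, hall S⟩)
            fun S T h => congrArg Subtype.val h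
        rw [fr.card_line fr.ne] at h1
        have := fr.card_members_ge
        omega
      obtain ⟨c, hc, hcR⟩ := fr.exists_centralizing fr.ne.symm fun e => hS (e ▸ le_sup_left)
      have htop := zpowers_eq_top_of_prime_card hcard11 hθk
      obtain ⟨m, hm⟩ := mem_powers_iff_mem_zpowers.2 (htop ▸ mem_top (θ ⟨c, hc⟩) :
        θ ⟨c, hc⟩ ∈ zpowers (θ ⟨k, hKH hk⟩))
      let g : M := ⟨⟨c, hc⟩ * (⟨k, hKH hk⟩ ^ m)⁻¹, MonoidHom.mem_ker.2 (by
        rw [map_mul, map_inv, map_pow, ← (show θ ⟨k, hKH hk⟩ ^ m = θ ⟨c, hc⟩ from hm),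
          mul_inv_cancel])⟩
      obtain ⟨o, ho'⟩ : π g ∈ φ.range := e ▸ mem_top _
      have h0 : ((ι o : M) : M ⧸ Qs) = ((g : M) : M ⧸ Qs) := ho'
      have h0' := QuotientGroup.eq.1 h0
      have h1 : ((o : (lineCent Q R)) : G)⁻¹ * (c * (k ^ m)⁻¹) ∈ Q.1 := h0'
      have hgR : (c * (k ^ m)⁻¹) • R = S := by
        rw [mul_smul, inv_smul_eq_iff.2 (fr.K_iff.1 (pow_mem hk m)).2.symm, hcR]
      refine hS ?_
      rw [← hgR, show c * (k ^ m)⁻¹ = ((o : (lineCent Q R)) : G) * (((o : (lineCent Q R)) : G)⁻¹ * (c * (k ^ m)⁻¹)) by group,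
        mul_smul]
      have h2 := le_of_smul_le (S := R) (mem_sup_left (T := R.1) h1) le_sup_right
      rwa [fr.K_smul (o : (lineCent Q R)).2 h2]
    · rw [eq_bot_iff]
      rintro _ ⟨⟨o', rfl⟩, hx⟩
      have hx2 : φ o' ∈ MulAut.conj g • φ.range := hx
      rw [Subgroup.mem_pointwise_smul_iff_inv_smul_mem] at hx2
      obtain ⟨o, ho'⟩ := hx2
      obtain ⟨g, rfl⟩ := QuotientGroup.mk'_surjective Qs g
      rw [mem_bot]
      by_contra hne1
      apply hg
      have he : π g * φ o * (π g)⁻¹ = φ o' := by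
        rw [ho', ← map_inv, MulAut.smul_def, MulAut.conj_apply, inv_inv, hπ]
        group
      have h1 : (((o' : (lineCent Q R)) : G))⁻¹ *
          (((g : (centralizer (Q.1 : Set G))) : G) * ((o : (lineCent Q R)) : G) * (((g : (centralizer (Q.1 : Set G))) : G))⁻¹) ∈ Q.1 := by
        have he' : φ o' = π (g * ι o * g⁻¹) := by
          rw [map_mul, map_mul, map_inv]; exact he.symm
        have h0 : ((ι o' : M) : M ⧸ Qs) = ((g * ι o * g⁻¹ : M) : M ⧸ Qs) := he'
        have h0' := QuotientGroup.eq.1 h0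
        exact h0'
      set S := ((g : (centralizer (Q.1 : Set G))) : G) • R with hS
      refine hmem g (hgneQ g) (by_contra fun hnl => ?_)
      set q := (((o' : (lineCent Q R)) : G))⁻¹ * (((g : (centralizer (Q.1 : Set G))) : G) * ((o : (lineCent Q R)) : G) * (((g : (centralizer (Q.1 : Set G))) : G))⁻¹) with hq
      have hoS : ((((g : (centralizer (Q.1 : Set G))) : G) * ((o : (lineCent Q R)) : G) * (((g : (centralizer (Q.1 : Set G))) : G))⁻¹)) • S = S := by
        rw [hS, ← mul_smul, inv_mul_cancel_right, mul_smul, (fr.K_iff.1 (o : (lineCent Q R)).2).2]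
      have hxS : (((o' : (lineCent Q R)) : G))⁻¹ • S = q • S := by rw [hq, mul_smul, hoS]
      have ho'1 : ((o' : (lineCent Q R)) : G) ≠ 1 := fun e => hne1 (by
        rw [show o' = 1 from Subtype.ext (Subtype.ext e), map_one])
      have h11' := hline _ (inv_mem (o' : (lineCent Q R)).2) (inv_ne_one.2 ho'1) S hnl
        (by rw [hxS]; exact le_of_smul_le (mem_sup_left h1) le_sup_right)
      rw [inv_pow, inv_eq_one] at h11'
      exact ho'1 (congrArg Subtype.val (hO11 _ o'.2 (Subtype.ext h11')))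
  obtain ⟨N, -, hNn, hNc⟩ := S0035.result φ.range hbar
  haveI := hNn
  have hNb : N ≠ ⊥ := fun e => hbar.2.1 (isComplement'_bot_left.1 (e ▸ hNc))
  have hfpf := (S0039.result N φ.range hNc hNb hbar.1).1 hbar
  have hoddO : Odd (Nat.card O) := by
    obtain ⟨r, hr⟩ := O.card_subgroup_dvd_card
    rw [hr] at hodd
    exact (Nat.odd_mul.1 hodd).1
  haveI : IsZGroup φ.range := ⟨fun p hp S => by
    haveI := Fact.mk hp
    refine (S0040.result N φ.range hNc hNb hfpf p S).resolve_right ?_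
    rintro ⟨n, ⟨e⟩⟩
    haveI : NeZero (2 ^ n) := ⟨pow_ne_zero n two_ne_zero⟩
    have hd : 2 ∣ Nat.card φ.range := by
      refine dvd_trans ?_ (Subgroup.card_subgroup_dvd_card (S : Subgroup φ.range))
      rw [Nat.card_congr e.toEquiv, Nat.card_eq_fintype_card, QuaternionGroup.card]
      exact Dvd.dvd.mul_right (by norm_num) _
    rw [← Nat.card_congr (MonoidHom.ofInjective hφinj).toEquiv] at hd
    exact Nat.not_odd_iff_even.2 (even_iff_two_dvd.2 hd) hoddO⟩
  haveI : IsZGroup O := IsZGroup.of_injective (f := (MonoidHom.ofInjective hφinj).toMonoidHom)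
    (MonoidHom.ofInjective hφinj).injective
  -- `k` acts fixed point freely on `O`
  set β : MulAut O := MulAut.conjNormal k' with hβdef
  have hβfix : ∀ x : O, β x = x → x = 1 := by
    intro x hx
    have h1 : k' * (x : (lineCent Q R)) * k'⁻¹ = x := by
      rw [← MulAut.conjNormal_apply]; exact congrArg Subtype.val hx
    have h2 := mul_inv_eq_iff_eq_mul.1 h1
    obtain ⟨m, hm⟩ := mem_powers_iff_mem_zpowers.2
      (hC _ (x : (lineCent Q R)).2 (congrArg Subtype.val h2).symm)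
    have hxm : (x : (lineCent Q R)) = k' ^ m := Subtype.ext (show ((x : (lineCent Q R)) : G) = k ^ m from hm.symm)
    exact Subtype.ext (hxm.trans (hpowk m (hxm ▸ MonoidHom.mem_ker.1 x.2)))
  have hβord : orderOf β = 11 := by
    refine orderOf_eq_prime ?_ fun e => hO1 ?_
    · rw [hβdef, ← map_pow, show k' ^ 11 = 1 from Subtype.ext (by
        show k ^ 11 = 1; rw [← ho, pow_orderOf_eq_one]), map_one]
    · rw [eq_bot_iff]
      intro x hx
      exact congrArg Subtype.val (hβfix ⟨x, hx⟩ (by rw [e]; rfl))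
  haveI : Group.IsNilpotent O := S0033.result β hβfix 11 h11.out hβord
  haveI : IsCyclic O := inferInstance
  -- so `k` commutes with its inverse through `u`
  have huO : ∀ x : O, (⟨_, fr.smul_conj_mem huT (x : (lineCent Q R)).2⟩ : (lineCent Q R)) ∈ O := by
    intro x
    rw [MonoidHom.mem_ker]
    by_contra hne
    have hd : 11 ∣ orderOf ((⟨_, fr.smul_conj_mem huT (x : (lineCent Q R)).2⟩ : (lineCent Q R))) := by
      have := orderOf_map_dvd κ (⟨_, fr.smul_conj_mem huT (x : (lineCent Q R)).2⟩ : (lineCent Q R))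
      rwa [orderOf_eq_prime (p := 11) ((congrArg (_ ^ ·) hcard11.symm).trans pow_card_eq_one') hne] at this
    rw [Subgroup.orderOf_mk,
      show u * ((x : (lineCent Q R)) : G) * u⁻¹ = MulAut.conj u ((x : (lineCent Q R)) : G) from rfl,
      MulEquiv.orderOf_eq, Subgroup.orderOf_coe] at hd
    obtain ⟨r, hr⟩ := hd
    have hr0 : 0 < orderOf (x : (lineCent Q R)) := orderOf_pos _
    have h1 : ((x : (lineCent Q R)) ^ r) = 1 := hO11 _ (pow_mem x.2 r)
      (by rw [← pow_mul, mul_comm, ← hr, pow_orderOf_eq_one])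
    have h2 := Nat.le_of_dvd (by
      rcases Nat.eq_zero_or_pos r with rfl | h
      · omega
      · exact h) (orderOf_dvd_of_pow_eq_one h1)
    omega
  let γ : O →* O :=
    { toFun := fun x => ⟨_, huO x⟩
      map_one' := Subtype.ext (Subtype.ext (by show u * 1 * u⁻¹ = 1; group))
      map_mul' := fun x y => Subtype.ext (Subtype.ext (by
        show u * (((x : (lineCent Q R)) : G) * ((y : (lineCent Q R)) : G)) * u⁻¹ =
          u * ((x : (lineCent Q R)) : G) * u⁻¹ * (u * ((y : (lineCent Q R)) : G) * u⁻¹)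
        group)) }
  obtain ⟨a, ha⟩ := MonoidHom.map_cyclic γ
  obtain ⟨b, hb⟩ := MonoidHom.map_cyclic β.toMonoidHom
  apply hO1
  rw [eq_bot_iff]
  intro x hx
  have hcomm : γ (β ⟨x, hx⟩) = β (γ ⟨x, hx⟩) := by
    show γ (β.toMonoidHom ⟨x, hx⟩) = β.toMonoidHom (γ ⟨x, hx⟩)
    rw [hb, ha, ha, hb, ← zpow_mul, ← zpow_mul, mul_comm]
  have hcommG : u * (k * (x : G) * k⁻¹) * u⁻¹ = k * (u * (x : G) * u⁻¹) * k⁻¹ :=
    congrArg (fun z : O => ((z : (lineCent Q R)) : G)) hcomm
  set w := u * (x : G) * u⁻¹ with hw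
  have hwK : w ∈ (lineCent Q R) := fr.smul_conj_mem huT x.2
  have h3 : k⁻¹ * w * k = k * w * k⁻¹ := by
    rw [← hcommG, hw, show u * (k * (x : G) * k⁻¹) * u⁻¹ =
      u * k * u⁻¹ * (u * (x : G) * u⁻¹) * (u * k * u⁻¹)⁻¹ by group, huk, inv_inv]
  have h4 : Commute w (k ^ 2) := by
    show w * k ^ 2 = k ^ 2 * w
    calc w * k ^ 2 = k * (k⁻¹ * w * k) * k := by rw [pow_two]; group
      _ = k * (k * w * k⁻¹) * k := by rw [h3]
      _ = k ^ 2 * w := by rw [pow_two]; group
  have h5 : Commute w k := by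
    have := h4.pow_right 6
    rwa [← pow_mul, show 2 * 6 = 11 + 1 from rfl, pow_succ, ← ho, pow_orderOf_eq_one, one_mul] at this
  have h6 : β ⟨⟨w, hwK⟩, huO ⟨x, hx⟩⟩ = ⟨⟨w, hwK⟩, huO ⟨x, hx⟩⟩ := Subtype.ext (Subtype.ext (by
    show k * w * k⁻¹ = w
    rw [← h5.eq, mul_inv_cancel_right]))
  have h7 : w = 1 := congrArg (fun z : O => ((z : (lineCent Q R)) : G)) (hβfix _ h6)
  rw [mem_bot]
  exact Subtype.ext (conj_eq_one_iff.1 h7)

end Frame

end Cfsg.Agent.ElevenPairs
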