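import Cfsg.Agent.Lib.ElevenPairs.LCase.Stab

/-!
# A frame: two members, their torus and their swap

The two point stabiliser is `K × ⟨f⟩`, possibly extended by an element inverting the members, where
`K` centralises the line.
-/

set_option autoImplicit false

namespace Cfsg.Agent.ElevenPairs

universe u

variable {G : Type u} [Group G] {P : Subgroup G}

/-- The centraliser of the line of two members. -/
abbrev lineCent (Q R : Mem P) : Subgroup G :=
  Subgroup.centralizer ((Q.1 ⊔ R.1 : Subgroup G) : Set G)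

/-- The two point stabiliser. -/
abbrev twoStab (Q R : Mem P) : Subgroup G := MulAction.stabilizer G Q ⊓ MulAction.stabilizer G R

/-- Two members, their torus `f` and an inner swap `j`. -/
structure Frame (P : Subgroup G) (Q R : Mem P) (f j : G) : Prop extends LHyp P where
  ne : Q ≠ R
  f_mem : f ∈ Q.1 ⊔ R.1
  f_order : orderOf f = 5
  f_smul_Q : f • Q = Q
  f_smul_R : f • R = R
  f_act_Q : ∀ x ∈ Q.1, f * x * f⁻¹ = x ^ 5
  f_act_R : ∀ y ∈ R.1, f * y * f⁻¹ = y ^ 9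
  f_fixed : ∀ g : G, g • Q = Q → g • R = R → g * f * g⁻¹ = f
  j_mem : j ∈ Q.1 ⊔ R.1
  j_order : orderOf j = 2
  j_smul_Q : j • Q = R
  j_smul_R : j • R = Q
  j_outer : ∀ a : G, a • Q = Q → a • R = R → ∀ k : ℕ, (∀ x ∈ Q.1, a * x * a⁻¹ = x ^ k) →
    ¬ k ^ 5 ≡ 1 [MOD 11] → ∃ S : Mem P, S.1 ≤ Q.1 ⊔ R.1 ∧ (j * a) • S = S

theorem LHyp.exists_frame [Finite G] (h : LHyp P) (Q R : Mem P) (hne : Q ≠ R) :
    ∃ f j : G, Frame P Q R f j := by
  obtain ⟨f, hfm, hf5, hfQ, hfR, -, hxQ, hxR, hfix⟩ := h.exists_torus hne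
  have hne' := subgroupOf_ne (X := Q.1 ⊔ R.1) le_sup_left le_sup_right
    (fun e => hne (Subtype.ext e))
  obtain ⟨j, hj2, hjQ, hjR, hout⟩ := (h.allL Q R hne).exists_swap_outer _ _
    (h.card_subgroupOf Q le_sup_left) (h.card_subgroupOf R le_sup_right) hne'
  have hpush : ∀ S T : Mem P, S.1 ≤ Q.1 ⊔ R.1 → T.1 ≤ Q.1 ⊔ R.1 →
      (S.1.subgroupOf (Q.1 ⊔ R.1)).map (MulAut.conj j).toMonoidHom = T.1.subgroupOf (Q.1 ⊔ R.1) →
      (j : G) • S = T := by
    intro S T hS hT e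
    refine Subtype.ext ?_
    have e' := congrArg (Subgroup.map (Q.1 ⊔ R.1).subtype) e
    rw [Subgroup.map_map, show (Q.1 ⊔ R.1).subtype.comp (MulAut.conj j).toMonoidHom =
        (MulAut.conj (j : G)).toMonoidHom.comp (Q.1 ⊔ R.1).subtype from MonoidHom.ext fun _ => rfl,
      ← Subgroup.map_map, Subgroup.map_subgroupOf_eq_of_le hS,
      Subgroup.map_subgroupOf_eq_of_le hT] at e'
    exact e'
  refine ⟨f, j, ⟨h, hne, hfm, hf5, hfQ, hfR, hxQ, hxR, hfix, j.2,
    by rw [Subgroup.orderOf_coe, hj2], hpush Q R le_sup_left le_sup_right hjQ,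
    hpush R Q le_sup_right le_sup_left hjR, fun a haQ haR k hk hk5 => ?_⟩⟩
  have hX := map_sup_eq_of_smul haQ haR
  obtain ⟨S, hS, hSm⟩ := hout (conjAut _ a hX)
    (conjAut_map _ a hX le_sup_left (congrArg Subtype.val haQ))
    (conjAut_map _ a hX le_sup_right (congrArg Subtype.val haR)) k
    (fun x hx => Subtype.ext (by rw [conjAut_coe, SubgroupClass.coe_pow]; exact hk x hx)) hk5
  have hS' : Nat.card (S.map (Q.1 ⊔ R.1).subtype) = 11 := by
    rw [Subgroup.card_map_of_injective (Q.1 ⊔ R.1).subtype_injective, hS]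
  refine ⟨⟨_, h.member_of_le_pair Q R hne (Subgroup.map_subtype_le S) hS'⟩,
    Subgroup.map_subtype_le S, Subtype.ext ?_⟩
  show (S.map (Q.1 ⊔ R.1).subtype).map (MulAut.conj ((j : G) * a)).toMonoidHom = _
  conv_rhs => rw [show (⟨_, h.member_of_le_pair Q R hne (Subgroup.map_subtype_le S) hS'⟩ : Mem P).1 =
    S.map (Q.1 ⊔ R.1).subtype from rfl, ← hSm]
  rw [Subgroup.map_map, Subgroup.map_map]
  congr 1
  ext x
  show (j : G) * a * x * ((j : G) * a)⁻¹ = (j : G) * (conjAut _ a hX x : G) * (j : G)⁻¹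
  rw [conjAut_coe]
  group

namespace Frame

variable {Q R : Mem P} {f j : G} [Finite G]

theorem K_iff (fr : Frame P Q R f j) {g : G} :
    g ∈ lineCent Q R ↔ g ∈ Subgroup.centralizer (Q.1 : Set G) ∧ g • R = R := by
  constructor
  · intro hg
    exact ⟨Subgroup.centralizer_le (show (Q.1 : Set G) ⊆ _ from
      (le_sup_left : Q.1 ≤ Q.1 ⊔ R.1)) hg, smul_eq_of_mem_centralizer
      (Subgroup.centralizer_le (show (R.1 : Set G) ⊆ _ from (le_sup_right : R.1 ≤ Q.1 ⊔ R.1)) hg)⟩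
  · intro hg
    exact fr.pair_lemma fr.ne hg.1 hg.2

theorem K_le_twoStab (fr : Frame P Q R f j) : lineCent Q R ≤ twoStab Q R := fun _ hg =>
  ⟨smul_eq_of_mem_centralizer (fr.K_iff.1 hg).1, (fr.K_iff.1 hg).2⟩

theorem K_commute (_fr : Frame P Q R f j) {k x : G} (hk : k ∈ lineCent Q R)
    (hx : x ∈ Q.1 ⊔ R.1) : k * x = x * k :=
  (Subgroup.mem_centralizer_iff.1 hk x hx).symm

theorem line_center (fr : Frame P Q R f j) {x : G} (hx : x ∈ Q.1 ⊔ R.1) (hc : x ∈ lineCent Q R) :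
    x = 1 := by
  by_contra hx1
  have hL := fr.allL Q R fr.ne
  haveI := hL.simple
  rcases IsSimpleGroup.eq_bot_or_eq_top_of_normal (Subgroup.center ↥(Q.1 ⊔ R.1)) inferInstance
    with hb | ht
  · have : (⟨x, hx⟩ : ↥(Q.1 ⊔ R.1)) ∈ Subgroup.center ↥(Q.1 ⊔ R.1) :=
      Subgroup.mem_center_iff.2 fun y => Subtype.ext (fr.K_commute hc y.2).symm
    rw [hb, Subgroup.mem_bot] at this
    exact hx1 (congrArg Subtype.val this)
  · refine fr.ne (fr.eq_of_le_normalizer (Q := R) (R := Q) ?_)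
    intro a ha
    refine Subgroup.centralizer_le_normalizer _ (Subgroup.mem_centralizer_iff.2 fun b hb => ?_)
    have := Subgroup.mem_center_iff.1 (ht ▸ Subgroup.mem_top
      (⟨a, Subgroup.mem_sup_left ha⟩ : ↥(Q.1 ⊔ R.1))) ⟨b, Subgroup.mem_sup_right hb⟩
    exact congrArg Subtype.val this

theorem f_commute (fr : Frame P Q R f j) {a : G} (ha : a ∈ twoStab Q R) : a * f = f * a :=
  mul_inv_eq_iff_eq_mul.1 (fr.f_fixed a ha.1 ha.2)

theorem f_mem_twoStab (fr : Frame P Q R f j) : f ∈ twoStab Q R := ⟨fr.f_smul_Q, fr.f_smul_R⟩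

theorem f_pow_five (fr : Frame P Q R f j) : f ^ 5 = 1 := fr.f_order ▸ pow_orderOf_eq_one f

theorem f_act_pow (fr : Frame P Q R f j) (i : ℕ) {x : G} (hx : x ∈ Q.1) :
    f ^ i * x * (f ^ i)⁻¹ = x ^ 5 ^ i := by
  induction i generalizing x with
  | zero => simp
  | succ i ih =>
    rw [show f ^ (i + 1) * x * (f ^ (i + 1))⁻¹ = f ^ i * (f * x * f⁻¹) * (f ^ i)⁻¹ by group,
      fr.f_act_Q x hx, ih (pow_mem hx 5), ← pow_mul, pow_succ, mul_comm]

theorem f_pow_mem_centralizer (fr : Frame P Q R f j) {i : ℕ}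
    (h : f ^ i ∈ Subgroup.centralizer (Q.1 : Set G)) : f ^ i = 1 := by
  have hm : 5 ^ i ≡ 1 [MOD 11] := fr.modEq_of_pow_eq (Q := Q) fun x hx => by
    rw [← fr.f_act_pow i hx, ← Subgroup.mem_centralizer_iff.1 h x hx, pow_one]
    group
  have h0 : i % 5 = 0 := by
    have h5 : 5 ^ i % 11 = 5 ^ (i % 5) % 11 := by
      conv_lhs => rw [← Nat.div_add_mod i 5, pow_add, pow_mul, Nat.mul_mod, Nat.pow_mod]
      norm_num [Nat.mul_mod, Nat.pow_mod]
    have key : ∀ r : Fin 5, 5 ^ r.val % 11 = 1 → r.val = 0 := by decide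
    exact key ⟨i % 5, Nat.mod_lt _ (by norm_num)⟩ (h5.symm.trans hm)
  rw [pow_eq_pow_mod i fr.f_pow_five, h0, pow_zero]

/-- An element of the two point stabiliser with square exponent lies in `K ⟨f⟩`. -/
theorem exists_decomp (fr : Frame P Q R f j) {a : G} (ha : a ∈ twoStab Q R) {k : ℕ}
    (hk : ∀ x ∈ Q.1, a * x * a⁻¹ = x ^ k) (h5 : k ^ 5 ≡ 1 [MOD 11]) :
    ∃ i : ℕ, (f ^ i)⁻¹ * a ∈ lineCent Q R := by
  obtain ⟨i, hi⟩ : ∃ i : ℕ, 5 ^ i ≡ k [MOD 11] := by
    have key : ∀ r : Fin 11, r.val ^ 5 % 11 = 1 → ∃ i : Fin 5, 5 ^ i.val % 11 = r.val := by decide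
    obtain ⟨i, hi⟩ := key ⟨k % 11, Nat.mod_lt _ (by norm_num)⟩ (by
      rw [← Nat.pow_mod]; exact h5)
    exact ⟨i.val, hi⟩
  refine ⟨i, fr.K_iff.2 ⟨Subgroup.mem_centralizer_iff.2 fun x hx => ?_, ?_⟩⟩
  · have e : a * x * a⁻¹ = f ^ i * x * (f ^ i)⁻¹ := by
      rw [hk x hx, fr.f_act_pow i hx, fr.pow_modEq hi hx]
    calc x * ((f ^ i)⁻¹ * a) = (f ^ i)⁻¹ * (f ^ i * x * (f ^ i)⁻¹) * a := by group
      _ = (f ^ i)⁻¹ * (a * x * a⁻¹) * a := by rw [e]
      _ = (f ^ i)⁻¹ * a * x := by group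
  · exact MulAction.mem_stabilizer_iff.1 (mul_mem
      (inv_mem (pow_mem fr.f_mem_twoStab i)) ha).2

/-- An element of the two point stabiliser lies in `K ⟨f⟩` or its fifth power inverts `Q`. -/
theorem decomp_or_inverts (fr : Frame P Q R f j) {a : G} (ha : a ∈ twoStab Q R) :
    (∃ i : ℕ, (f ^ i)⁻¹ * a ∈ lineCent Q R) ∨ ∀ x ∈ Q.1, a ^ 5 * x * (a ^ 5)⁻¹ = x⁻¹ := by
  obtain ⟨k, hk⟩ := fr.exists_exponent ha.1
  have hk0 : k % 11 ≠ 0 := by
    intro h0
    obtain ⟨x, hx, hx1⟩ : ∃ x ∈ Q.1, x ≠ 1 := by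
      by_contra hc
      push Not at hc
      have : Q.1 = ⊥ := (Subgroup.eq_bot_iff_forall _).2 hc
      have hcard := fr.mem_card Q
      rw [this, Subgroup.card_bot] at hcard
      omega
    refine hx1 (conj_eq_one_iff.1 (?_ : a * x * a⁻¹ = 1))
    rw [hk x hx, fr.pow_modEq (show k ≡ 0 [MOD 11] from h0) hx, pow_zero]
  have key : ∀ r : Fin 11, r.val ≠ 0 → r.val ^ 5 % 11 = 1 ∨ r.val ^ 5 % 11 = 10 := by decide
  rcases key ⟨k % 11, Nat.mod_lt _ (by norm_num)⟩ hk0 with h5 | h5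
  · exact Or.inl (fr.exists_decomp ha hk (by rw [← Nat.pow_mod] at h5; exact h5))
  · refine Or.inr fun x hx => ?_
    have hpow : ∀ i : ℕ, ∀ y ∈ Q.1, a ^ i * y * (a ^ i)⁻¹ = y ^ k ^ i := by
      intro i
      induction i with
      | zero => intro y _; simp
      | succ i ih =>
        intro y hy
        rw [show a ^ (i + 1) * y * (a ^ (i + 1))⁻¹ = a ^ i * (a * y * a⁻¹) * (a ^ i)⁻¹ by group,
          hk y hy, ih _ (pow_mem hy k), ← pow_mul, pow_succ, mul_comm]
    have h11 : x ^ 11 = 1 := by rw [fr.pow_modEq (show 11 ≡ 0 [MOD 11] from rfl) hx, pow_zero]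
    rw [hpow 5 x hx, fr.pow_modEq (show k ^ 5 ≡ 10 [MOD 11] by rw [← Nat.pow_mod] at h5; exact h5) hx]
    exact eq_inv_of_mul_eq_one_left (by rw [← pow_succ, h11])

theorem j_commute (fr : Frame P Q R f j) {k : G} (hk : k ∈ lineCent Q R) : k * j = j * k :=
  fr.K_commute hk fr.j_mem

theorem j_inv (fr : Frame P Q R f j) : j⁻¹ = j :=
  inv_eq_of_mul_eq_one_right (by
    have := pow_orderOf_eq_one j
    rwa [fr.j_order, pow_two] at this)

theorem j_f (fr : Frame P Q R f j) : j * f * j⁻¹ = f⁻¹ := by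
  have hQ : (j * f * j⁻¹) • Q = Q := by
    rw [mul_smul, mul_smul, fr.j_inv, fr.j_smul_Q, fr.f_smul_R, fr.j_smul_R]
  have hR : (j * f * j⁻¹) • R = R := by
    rw [mul_smul, mul_smul, fr.j_inv, fr.j_smul_R, fr.f_smul_Q, fr.j_smul_Q]
  have hact : ∀ x ∈ Q.1, j * f * j⁻¹ * x * (j * f * j⁻¹)⁻¹ = x ^ 9 := fun x hx => by
    have hy : j⁻¹ * x * j ∈ R.1 := by
      rw [show R = j⁻¹ • Q from by rw [fr.j_inv, fr.j_smul_Q]]
      have h1 := (mem_iff_smul (g := j⁻¹) (x := x)).2 hx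
      rwa [inv_inv] at h1
    rw [show j * f * j⁻¹ * x * (j * f * j⁻¹)⁻¹ = j * (f * (j⁻¹ * x * j) * f⁻¹) * j⁻¹ by group,
      fr.f_act_R _ hy, ← conj_pow]
    group
  have hc : f * (j * f * j⁻¹) ∈ lineCent Q R := by
    refine fr.K_iff.2 ⟨Subgroup.mem_centralizer_iff.2 fun x hx => ?_, by rw [mul_smul, hR, fr.f_smul_R]⟩
    have e : f * (j * f * j⁻¹) * x * (f * (j * f * j⁻¹))⁻¹ = x := by
      rw [show f * (j * f * j⁻¹) * x * (f * (j * f * j⁻¹))⁻¹ =
        f * (j * f * j⁻¹ * x * (j * f * j⁻¹)⁻¹) * f⁻¹ by group, hact x hx, ← conj_pow,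
        fr.f_act_Q x hx, ← pow_mul, fr.pow_modEq (show 5 * 9 ≡ 1 [MOD 11] from rfl) hx, pow_one]
    exact (mul_inv_eq_iff_eq_mul.1 e).symm
  exact eq_inv_of_mul_eq_one_right (fr.line_center
    (mul_mem fr.f_mem (mul_mem (mul_mem fr.j_mem fr.f_mem) (inv_mem fr.j_mem))) hc)

/-- The inner swaps fix no member. -/
theorem j_free (fr : Frame P Q R f j) (S : Mem P) : j • S ≠ S :=
  fr.involution_free fr.ne fr.j_mem fr.j_order S

/-- A member fixed by a nontrivial element of `K` lies in the line. -/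
theorem K_fixed (fr : Frame P Q R f j) {k : G} (hk : k ∈ lineCent Q R) (hk1 : k ≠ 1) {S : Mem P}
    (hS : k • S = S) : S.1 ≤ Q.1 ⊔ R.1 := by
  obtain ⟨R', hne', -, hall⟩ := fr.exists_pair_centralized hk1 fr.ne (fr.K_iff.1 hk).1
    (fr.K_iff.1 hk).2
  rw [fr.line_eq fr.ne hne' le_sup_left (hall R (fr.K_iff.1 hk).2)]
  exact hall S hS

/-- `K` fixes the members of the line. -/
theorem K_smul (fr : Frame P Q R f j) {k : G} (hk : k ∈ lineCent Q R) {S : Mem P}
    (hS : S.1 ≤ Q.1 ⊔ R.1) : k • S = S :=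
  smul_eq_of_mem_centralizer (Subgroup.centralizer_le (fun x hx => hS hx) hk)

/-- The torus fixes only `Q` and `R`. -/
theorem f_fixed_points (fr : Frame P Q R f j) {S : Mem P} (hS : f • S = S) : S = Q ∨ S = R :=
  fr.five_two_points fr.f_pow_five fr.ne fr.f_smul_Q fr.f_smul_R hS fun hc => by
    have h1 : f ^ 1 = 1 := fr.f_pow_mem_centralizer (by rwa [pow_one])
    rw [pow_one] at h1
    have := fr.f_order
    rw [h1, orderOf_one] at this
    omega

theorem card_members_mod_four (fr : Frame P Q R f j) : 4 ∣ Nat.card (Mem P) := by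
  set X := Q.1 ⊔ R.1 with hX
  obtain ⟨s, t, hs, ht, hst, hc⟩ := (fr.allL Q R fr.ne).exists_four
  have hs2 : (s : G) * s = 1 := by
    have := pow_orderOf_eq_one s
    rw [hs, pow_two] at this
    exact congrArg Subtype.val this
  have ht2 : (t : G) * t = 1 := by
    have := pow_orderOf_eq_one t
    rw [ht, pow_two] at this
    exact congrArg Subtype.val this
  have hcG : Commute (s : G) t := congrArg Subtype.val hc
  let V : Subgroup G := Forms.KleinPSL.kSub (s : G) t hs2 ht2 hcG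
  have hfree : ∀ v ∈ V, v ≠ 1 → ∀ S : Mem P, v • S ≠ S := by
    intro v hv hv1 S
    have hinv : v ∈ X ∧ orderOf v = 2 := by
      have hst' : (s : G) * t ≠ 1 := fun e => hst (Subtype.ext ((eq_inv_of_mul_eq_one_left e).trans
        (inv_eq_of_mul_eq_one_right ht2)))
      have hst2 : ((s : G) * t) * ((s : G) * t) = 1 := by
        rw [mul_assoc, ← mul_assoc (t : G) s t, ← hcG.eq, mul_assoc (s : G) t t, ht2, mul_one, hs2]
      rcases Forms.KleinPSL.mem_kSub.1 hv with rfl | rfl | rfl | rfl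
      · exact absurd rfl hv1
      · exact ⟨s.2, by rw [Subgroup.orderOf_coe, hs]⟩
      · exact ⟨t.2, by rw [Subgroup.orderOf_coe, ht]⟩
      · exact ⟨mul_mem s.2 t.2, orderOf_eq_prime (by rw [pow_two, hst2]) hst'⟩
    exact fr.involution_free fr.ne hinv.1 hinv.2 S
  have hV : Nat.card V = 4 := Forms.KleinPSL.natCard_kSub
    (fun e => by rw [show s = 1 from Subtype.ext e, orderOf_one] at hs; omega)
    (fun e => by rw [show t = 1 from Subtype.ext e, orderOf_one] at ht; omega)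
    (fun e => hst (Subtype.ext e))
  have hfree' : ∀ S : Mem P, MulAction.stabilizer V S = ⊥ := fun S =>
    (Subgroup.eq_bot_iff_forall _).2 fun v hv => by
      by_contra hv1
      exact hfree v v.2 (fun e => hv1 (Subtype.ext e)) S hv
  have hq := Nat.card_congr (MulAction.selfEquivOrbitsQuotientProd hfree')
  rw [hq, Nat.card_prod, hV]
  exact dvd_mul_left 4 _

theorem card_members_mod_three (fr : Frame P Q R f j) : 3 ∣ Nat.card (Mem P) := by
  obtain ⟨A, B, x, y, hA, hB, hAB, hx, hy, ho⟩ := (fr.allL Q R fr.ne).three_product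
  have hm : ∀ C : Subgroup ↥(Q.1 ⊔ R.1), Nat.card C = 11 →
      Member P (C.map (Q.1 ⊔ R.1).subtype) := fun C hC =>
    fr.member_of_le_pair Q R fr.ne (Subgroup.map_subtype_le _)
      (by rw [Subgroup.card_map_of_injective (Q.1 ⊔ R.1).subtype_injective, hC])
  have hne' : (⟨_, hm A hA⟩ : Mem P) ≠ ⟨_, hm B hB⟩ := fun e =>
    hAB (Subgroup.map_injective (Q.1 ⊔ R.1).subtype_injective (congrArg Subtype.val e))
  rw [← Subgroup.orderOf_coe, Subgroup.coe_mul] at ho
  haveI : Fact (Nat.Prime 3) := ⟨Nat.prime_three⟩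
  have hfree' : ∀ S : Mem P, MulAction.stabilizer (Subgroup.zpowers ((x : G) * y)) S = ⊥ := fun S =>
    (Subgroup.eq_bot_iff_forall _).2 fun v hv => by
      by_contra hv1
      have hv3 : Subgroup.zpowers v = ⊤ :=
        zpowers_eq_top_of_prime_card (p := 3) (by rw [Nat.card_zpowers, ho]) hv1
      have hmem : (⟨(x : G) * y, Subgroup.mem_zpowers _⟩ : Subgroup.zpowers ((x : G) * y)) ∈
          MulAction.stabilizer _ S := by
        refine (Subgroup.zpowers_le.2 hv) ?_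
        rw [hv3]
        exact Subgroup.mem_top _
      exact fr.product_free hne' ⟨x, hx, rfl⟩ ⟨y, hy, rfl⟩ (Or.inr ho) S hmem
  have hq := Nat.card_congr (MulAction.selfEquivOrbitsQuotientProd hfree')
  rw [hq, Nat.card_prod, Nat.card_zpowers, ho]
  exact dvd_mul_left 3 _

theorem twelve_dvd (fr : Frame P Q R f j) : 12 ∣ Nat.card (Mem P) :=
  (by norm_num : (4 : ℕ) * 3 = 12) ▸
    (Nat.Coprime.mul_dvd_of_dvd_of_dvd (by norm_num) fr.card_members_mod_four
      fr.card_members_mod_three)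

theorem card_mod (fr : Frame P Q R f j) : Nat.card (Mem P) % 660 = 12 := by
  have h1 := fr.card_mod_five
  have h2 := fr.card_mod_eleven
  have h3 := fr.twelve_dvd
  omega

/-- The order of a member stabiliser. -/
theorem card_stabilizer (fr : Frame P Q R f j) :
    Nat.card (MulAction.stabilizer G Q) = (Nat.card (Mem P) - 1) * Nat.card (twoStab Q R) := by
  rw [← card_ne_point Q]
  have horb : MulAction.orbit (MulAction.stabilizer G Q) R = {S : Mem P | S ≠ Q} := by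
    ext S
    constructor
    · rintro ⟨g, rfl⟩ e
      exact fr.ne.symm (MulAction.injective (g : G) (e.trans g.2.symm))
    · intro hS
      obtain ⟨c, hc, hcR⟩ := fr.exists_centralizing fr.ne.symm hS
      exact ⟨⟨c, smul_eq_of_mem_centralizer hc⟩, hcR⟩
  have hc := (MulAction.stabilizer (MulAction.stabilizer G Q) R).card_mul_index
  rw [MulAction.index_stabilizer, horb, ← Nat.card_coe_set_eq] at hc
  have e : MulAction.stabilizer (MulAction.stabilizer G Q) R =
      (twoStab Q R).subgroupOf (MulAction.stabilizer G Q) := by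
    ext g
    exact ⟨fun hg => ⟨g.2, hg⟩, fun hg => hg.2⟩
  rw [e, Nat.card_congr (Subgroup.subgroupOfEquivOfLe inf_le_left).toEquiv] at hc
  rw [← hc, mul_comm]
  rfl

/-- The order of a member centraliser. -/
theorem card_centralizer (fr : Frame P Q R f j) :
    Nat.card (Subgroup.centralizer (Q.1 : Set G)) =
      (Nat.card (Mem P) - 1) * Nat.card (lineCent Q R) := by
  rw [← card_ne_point Q]
  have horb : MulAction.orbit (Subgroup.centralizer (Q.1 : Set G)) R = {S : Mem P | S ≠ Q} := by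
    ext S
    constructor
    · rintro ⟨g, rfl⟩ e
      exact fr.ne.symm (MulAction.injective (g : G)
        (e.trans (smul_eq_of_mem_centralizer g.2).symm))
    · intro hS
      obtain ⟨c, hc, hcR⟩ := fr.exists_centralizing fr.ne.symm hS
      exact ⟨⟨c, hc⟩, hcR⟩
  have hc := (MulAction.stabilizer (Subgroup.centralizer (Q.1 : Set G)) R).card_mul_index
  rw [MulAction.index_stabilizer, horb, ← Nat.card_coe_set_eq] at hc
  have e : MulAction.stabilizer (Subgroup.centralizer (Q.1 : Set G)) R =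
      (lineCent Q R).subgroupOf (Subgroup.centralizer (Q.1 : Set G)) := by
    ext g
    exact ⟨fun hg => fr.K_iff.2 ⟨g.2, hg⟩, fun hg => (fr.K_iff.1 hg).2⟩
  rw [e, Nat.card_congr (Subgroup.subgroupOfEquivOfLe fun g hg => (fr.K_iff.1 hg).1).toEquiv] at hc
  rw [← hc, mul_comm]
  rfl

/-- There are more members than a line holds. -/
theorem card_members_ge (fr : Frame P Q R f j) : 672 ≤ Nat.card (Mem P) := by
  by_contra hlt
  have hmod := fr.card_mod
  have hn : Nat.card (Mem P) = 12 := by omega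
  have hsurj : Function.Surjective (Subtype.val : Line P (Q.1 ⊔ R.1) → Mem P) :=
    ((Nat.bijective_iff_injective_and_card _).2 ⟨Subtype.val_injective, by
      rw [fr.card_line fr.ne, hn]⟩).2
  refine fr.pair_ne_top Q R (eq_top_iff.2 ?_)
  rw [← fr.gen]
  refine Subgroup.closure_le _ |>.2 fun x hx => ?_
  obtain ⟨y, hy, g, hg⟩ := Group.mem_conjugatesOfSet_iff.1 hx
  obtain ⟨T, hT⟩ := hsurj ((g : G) • Mem.base P)
  refine T.2 ?_
  rw [hT]
  exact ⟨y, hy, mul_inv_eq_iff_eq_mul.2 hg⟩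

end Frame

/-- Some nontrivial element of `K` normalises a second line through `Q`. -/
def Exceptional (Q R : Mem P) : Prop :=
  ∃ k ∈ lineCent Q R, k ≠ 1 ∧ ∃ S : Mem P, ¬ S.1 ≤ Q.1 ⊔ R.1 ∧ (k • S).1 ≤ Q.1 ⊔ S.1

end Cfsg.Agent.ElevenPairs
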