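import Cfsg.Agent.Lib.ElevenPairs.LCase.Apply

/-!
# Characters of the two point stabiliser

With a kernel, the stabiliser of `Q` modulo the kernel is the two point stabiliser, so a proper
subgroup of the latter with abelian quotient that contains the torus gives a linear character.
-/

set_option autoImplicit false
set_option linter.style.haveILetI false

namespace Cfsg.Agent.ElevenPairs

universe u

variable {G : Type u} [Group G] {P : Subgroup G}

theorem Kernel.exists_smul [Finite G] {Q R : Mem P} {M : Subgroup G} {r : ℕ} (hM : Kernel Q R M r)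
    (hne : Q ≠ R) {S : Mem P} (hS : S ≠ Q) : ∃ m ∈ M, m • R = S := by
  have hmQ : ∀ m : M, (m : G) • Q = Q := fun m => smul_eq_of_mem_centralizer (hM.le_centralizer m.2)
  let φ : M → {T : Mem P // T ≠ Q} := fun m => ⟨(m : G) • R, fun e =>
    hne.symm (MulAction.injective (m : G) (e.trans (hmQ m).symm))⟩
  have hb : Function.Bijective φ := by
    refine (Nat.bijective_iff_injective_and_card φ).2 ⟨fun a b hab => ?_, ?_⟩
    · have h : (a : G) • R = (b : G) • R := congrArg Subtype.val hab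
      exact Subtype.ext (inv_mul_eq_one.1 (hM.regular _ (mul_mem (inv_mem a.2) b.2)
        (by rw [mul_smul, ← h, inv_smul_smul])))
    · rw [card_ne_point, hM.card, hM.members, Nat.add_sub_cancel]
  obtain ⟨m, hm⟩ := hb.2 ⟨S, hS⟩
  exact ⟨m, m.2, congrArg Subtype.val hm⟩

namespace Frame

variable {Q R : Mem P} {f j : G} [Finite G]

theorem smul_conj_mem (fr : Frame P Q R f j) {a k : G} (ha : a ∈ twoStab Q R)
    (hk : k ∈ lineCent Q R) : a * k * a⁻¹ ∈ lineCent Q R :=
  fr.K_iff.2 ⟨LHyp.centralizer_smul_mem Q ha.1 (fr.K_iff.1 hk).1, by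
    rw [mul_smul, mul_smul, inv_smul_eq_iff.2 (show a • R = R from ha.2).symm, (fr.K_iff.1 hk).2,
      show a • R = R from ha.2]⟩

/-- Commutators of the two point stabiliser centralise the line. -/
theorem commutator_le (fr : Frame P Q R f j) : ⁅twoStab Q R, twoStab Q R⁆ ≤ lineCent Q R := by
  rw [Subgroup.commutator_le]
  intro a ha b hb
  rw [commutatorElement_def]
  obtain ⟨k, hk⟩ := fr.exists_exponent ha.1
  obtain ⟨l, hl⟩ := fr.exists_exponent hb.1
  have hab : ∀ x ∈ Q.1, a * (b * x * b⁻¹) * a⁻¹ = b * (a * x * a⁻¹) * b⁻¹ := fun x hx => by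
    rw [hl x hx, hk x hx, ← conj_pow, ← conj_pow, hk x hx, hl x hx, ← pow_mul, ← pow_mul, mul_comm]
  refine fr.K_iff.2 ⟨Subgroup.mem_centralizer_iff.2 fun x hx => ?_, ?_⟩
  · have hy : a⁻¹ * (b⁻¹ * x * b) * a ∈ Q.1 := by
      refine (Subgroup.mem_normalizer_iff''.1 ((smul_eq_iff a Q).1 ha.1) _).1 ?_
      exact (Subgroup.mem_normalizer_iff''.1 ((smul_eq_iff b Q).1 hb.1) _).1 hx
    have e := hab _ hy
    calc x * (a * b * a⁻¹ * b⁻¹) = b * (a * (a⁻¹ * (b⁻¹ * x * b) * a) * a⁻¹) * b⁻¹ *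
          (a * b * a⁻¹ * b⁻¹) := by group
      _ = a * (b * (a⁻¹ * (b⁻¹ * x * b) * a) * b⁻¹) * a⁻¹ * (a * b * a⁻¹ * b⁻¹) := by rw [e]
      _ = a * b * a⁻¹ * b⁻¹ * x := by group
  · exact MulAction.mem_stabilizer_iff.1
      (mul_mem (mul_mem (mul_mem ha hb) (inv_mem ha)) (inv_mem hb)).2

/-- The two point stabiliser has no proper subgroup with abelian quotient containing the torus. -/
theorem false_of_normal (fr : Frame P Q R f j) (hsw : SwapsFix Q R j) {M : Subgroup G} {r : ℕ}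
    (hM : Kernel Q R M r) (N : Subgroup G) (hN : ⁅twoStab Q R, twoStab Q R⁆ ≤ N) (hfN : f ∈ N)
    (hAN : ¬ twoStab Q R ≤ N) : False := by
  classical
  let H := MulAction.stabilizer G Q
  let M' := M.subgroupOf H
  haveI : M'.Normal := ⟨fun x hx g => hM.invariant g g.2 x hx⟩
  let φ : ↥(twoStab Q R) →* H ⧸ M' :=
    (QuotientGroup.mk' M').comp (Subgroup.inclusion inf_le_left)
  have hinj : Function.Injective φ := by
    intro a b hab
    have hab' : ((Subgroup.inclusion inf_le_left a : H) : H ⧸ M') =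
        (Subgroup.inclusion inf_le_left b : H) := hab
    have h0 := QuotientGroup.eq.1 hab'
    have h1 : (a : G)⁻¹ * (b : G) ∈ M := h0
    exact Subtype.ext (inv_mul_eq_one.1 (hM.regular _ h1
      (MulAction.mem_stabilizer_iff.1 (mul_mem (inv_mem a.2) b.2).2)))
  have hMH : M ≤ H := fun m hm => smul_eq_of_mem_centralizer (hM.le_centralizer hm)
  have hcard : Nat.card ↥(twoStab Q R) = Nat.card (H ⧸ M') := by
    have h1 := Subgroup.card_eq_card_quotient_mul_card_subgroup M'
    rw [Nat.card_congr (Subgroup.subgroupOfEquivOfLe hMH).toEquiv, hM.card, fr.card_stabilizer,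
      hM.members, Nat.add_sub_cancel, mul_comm] at h1
    exact Nat.eq_of_mul_eq_mul_right (Nat.mul_pos (by norm_num) (by have := hM.one_lt; omega)) h1
  let e := MulEquiv.ofBijective φ ((Nat.bijective_iff_injective_and_card φ).2 ⟨hinj, hcard⟩)
  let N' := N.subgroupOf (twoStab Q R)
  have hmem : ∀ a b : ↥(twoStab Q R), a * b * a⁻¹ * b⁻¹ ∈ N' := fun a b => by
    have := hN (Subgroup.commutator_mem_commutator a.2 b.2)
    rwa [commutatorElement_def] at this
  haveI : N'.Normal := ⟨fun x hx g => by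
    have e : g * x * g⁻¹ = g * x * g⁻¹ * x⁻¹ * x := by group
    rw [e]
    exact mul_mem (hmem g x) hx⟩
  let C : CommGroup (↥(twoStab Q R) ⧸ N') :=
    { (inferInstance : Group (↥(twoStab Q R) ⧸ N')) with
      mul_comm := by
        intro a b
        obtain ⟨a, rfl⟩ := QuotientGroup.mk'_surjective N' a
        obtain ⟨b, rfl⟩ := QuotientGroup.mk'_surjective N' b
        rw [← map_mul, ← map_mul]
        refine QuotientGroup.eq.2 ?_
        have := hmem b⁻¹ a⁻¹
        rwa [inv_inv, inv_inv, show b⁻¹ * a⁻¹ * b * a = (a * b)⁻¹ * (b * a) by group] at this }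
  letI := C
  obtain ⟨a, ha, haN⟩ := SetLike.not_le_iff_exists.1 hAN
  have ha1 : (QuotientGroup.mk' N' ⟨a, ha⟩) ≠ 1 := fun h =>
    haN ((QuotientGroup.eq_one_iff (⟨a, ha⟩ : ↥(twoStab Q R))).1 h)
  obtain ⟨χ, hχ⟩ := CommGroup.exists_apply_ne_one_of_hasEnoughRootsOfUnity
    (↥(twoStab Q R) ⧸ N') ℂ ha1
  let Λ : H →* ℂˣ :=
    ((χ.comp (QuotientGroup.mk' N')).comp e.symm.toMonoidHom).comp (QuotientGroup.mk' M')
  have hval : ∀ x : ↥(twoStab Q R), Λ ⟨x, x.2.1⟩ = χ (QuotientGroup.mk' N' x) := fun x => by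
    show χ (QuotientGroup.mk' N' (e.symm (e x))) = _
    rw [e.symm_apply_apply]
  refine fr.false_of_hom hsw hM Λ (fun h => hχ ?_) ?_
  · rw [← hval ⟨a, ha⟩, h, MonoidHom.one_apply]
  · rw [show (⟨f, fr.f_smul_Q⟩ : H) = ⟨((⟨f, fr.f_mem_twoStab⟩ : ↥(twoStab Q R)) : G),
      fr.f_mem_twoStab.1⟩ from rfl]
    refine (hval ⟨f, fr.f_mem_twoStab⟩).trans ?_
    rw [show QuotientGroup.mk' N' (⟨f, fr.f_mem_twoStab⟩ : ↥(twoStab Q R)) = 1 from
      (QuotientGroup.eq_one_iff _).2 hfN, map_one]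

end Frame

end Cfsg.Agent.ElevenPairs
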