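import Cfsg.Agent.Lib.ElevenPairs.LCase.Frame
import Cfsg.Agent.Lib.Characters.Frobenius
import Cfsg.Agent.Lib.SylowAb.Basic
import Cfsg.Agent.S0042

/-!
# The kernel on the lines through a member

If no element of `K` normalises a second line through `Q`, the centraliser of `Q` extended by the
torus is, modulo `Q`, a Frobenius group on those lines; the preimage of its kernel is nilpotent.
-/

set_option autoImplicit false
set_option linter.style.haveILetI false

namespace Cfsg.Agent.ElevenPairs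

open scoped Pointwise

universe u

variable {G : Type u} [Group G] {P : Subgroup G}

/-- A nilpotent normal subgroup of the stabiliser of `Q`, regular on the other members. -/
structure Kernel (Q R : Mem P) (M : Subgroup G) (r : ℕ) : Prop where
  le_centralizer : M ≤ Subgroup.centralizer (Q.1 : Set G)
  Q_le : Q.1 ≤ M
  nilpotent : Group.IsNilpotent M
  card : Nat.card M = 11 * r
  invariant : ∀ g : G, g • Q = Q → ∀ x ∈ M, g * x * g⁻¹ ∈ M
  regular : ∀ x ∈ M, x • R = R → x = 1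
  members : Nat.card (Mem P) = 11 * r + 1
  one_lt : 1 < r
  coprime : ∀ p : ℕ, p.Prime → p ∣ r → ¬ p ∣ Nat.card (twoStab Q R)

namespace Frame

variable {Q R : Mem P} {f j : G} [Finite G]

/-- `K ⟨f⟩`. -/
abbrev torusK (Q R : Mem P) (f : G) : Subgroup G := lineCent Q R ⊔ Subgroup.zpowers f

theorem exists_pow_of_mem (fr : Frame P Q R f j) {x : G} (hx : x ∈ Subgroup.zpowers f) :
    ∃ i : ℕ, x = f ^ i := by
  obtain ⟨i, hi⟩ := mem_powers_iff_mem_zpowers.2 hx
  exact ⟨i, hi.symm⟩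

theorem zpowers_f_le_normalizer (fr : Frame P Q R f j) :
    Subgroup.zpowers f ≤ Subgroup.normalizer (lineCent Q R : Set G) := by
  rw [Subgroup.zpowers_le, Subgroup.mem_normalizer_iff]
  intro x
  constructor
  · intro hx
    rwa [← fr.f_commute (fr.K_le_twoStab hx), mul_inv_cancel_right]
  · intro hx
    have e : f * x * f⁻¹ = x :=
      calc f * x * f⁻¹ = f⁻¹ * (f * (f * x * f⁻¹)) := by group
        _ = f⁻¹ * (f * x * f⁻¹ * f) := by rw [fr.f_commute (fr.K_le_twoStab hx)]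
        _ = x := by group
    rwa [e] at hx

theorem mem_torusK (fr : Frame P Q R f j) {x : G} :
    x ∈ torusK Q R f ↔ ∃ k ∈ lineCent Q R, ∃ i : ℕ, x = k * f ^ i := by
  rw [← SetLike.mem_coe, Subgroup.coe_mul_of_right_le_normalizer_left _ _ fr.zpowers_f_le_normalizer]
  constructor
  · rintro ⟨k, hk, z, hz, rfl⟩
    obtain ⟨i, rfl⟩ := fr.exists_pow_of_mem hz
    exact ⟨k, hk, i, rfl⟩
  · rintro ⟨k, hk, i, rfl⟩
    exact ⟨k, hk, f ^ i, pow_mem (Subgroup.mem_zpowers f) i, rfl⟩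

theorem torusK_le (fr : Frame P Q R f j) : torusK Q R f ≤ twoStab Q R :=
  sup_le fr.K_le_twoStab (Subgroup.zpowers_le.2 fr.f_mem_twoStab)

theorem disjoint_K_f (fr : Frame P Q R f j) : Disjoint (lineCent Q R) (Subgroup.zpowers f) := by
  rw [Subgroup.disjoint_def]
  intro x hxK hxf
  obtain ⟨i, rfl⟩ := fr.exists_pow_of_mem hxf
  exact fr.f_pow_mem_centralizer (fr.K_iff.1 hxK).1

theorem card_torusK (fr : Frame P Q R f j) :
    Nat.card (torusK Q R f) = Nat.card (lineCent Q R) * 5 := by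
  rw [SylowAb.card_sup fr.zpowers_f_le_normalizer fr.disjoint_K_f, Nat.card_zpowers, fr.f_order]

theorem sq_mem_torusK (fr : Frame P Q R f j) {a : G} (ha : a ∈ twoStab Q R) :
    a ^ 2 ∈ torusK Q R f := by
  obtain ⟨k, hk⟩ := fr.exists_exponent ha.1
  have h2 : ∀ x ∈ Q.1, a ^ 2 * x * (a ^ 2)⁻¹ = x ^ (k * k) := fun x hx => by
    rw [show a ^ 2 * x * (a ^ 2)⁻¹ = a * (a * x * a⁻¹) * a⁻¹ by rw [pow_two]; group, hk x hx,
      ← conj_pow, hk x hx, ← pow_mul]
  have hk0 : k % 11 ≠ 0 := by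
    intro h0
    obtain ⟨x, hx, hx1⟩ : ∃ x ∈ Q.1, x ≠ 1 := by
      by_contra hc
      push Not at hc
      have : Q.1 = ⊥ := (Subgroup.eq_bot_iff_forall _).2 hc
      have hcard := fr.mem_card Q
      rw [this, Subgroup.card_bot] at hcard
      omega
    refine hx1 (conj_eq_one_iff.1 (?_ : a * x * a⁻¹ = 1))
    rw [hk x hx, fr.pow_modEq (show k ≡ 0 [MOD 11] from h0) hx, pow_zero]
  have key : ∀ r : Fin 11, r.val ≠ 0 → (r.val * r.val) ^ 5 % 11 = 1 := by decide
  have h5 : (k * k) ^ 5 ≡ 1 [MOD 11] := by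
    show (k * k) ^ 5 % 11 = 1
    have := key ⟨k % 11, Nat.mod_lt _ (by norm_num)⟩ hk0
    rw [Nat.pow_mod, Nat.mul_mod]
    rwa [← Nat.pow_mod] 
  obtain ⟨i, hi⟩ := fr.exists_decomp (pow_mem ha 2) h2 h5
  have e : a ^ 2 = f ^ i * ((f ^ i)⁻¹ * a ^ 2) := by group
  rw [e]
  exact mul_mem (Subgroup.mem_sup_right (pow_mem (Subgroup.mem_zpowers f) i))
    (Subgroup.mem_sup_left hi)

/-- A prime dividing the two point stabiliser divides `2 · 5 · |K|`. -/
theorem prime_dvd_twoStab (fr : Frame P Q R f j) {p : ℕ} (hp : p.Prime) (hp2 : p ≠ 2)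
    (hd : p ∣ Nat.card (twoStab Q R)) : p ∣ Nat.card (torusK Q R f) := by
  haveI : Fact p.Prime := ⟨hp⟩
  obtain ⟨a, ha⟩ := exists_prime_orderOf_dvd_card' p hd
  have hm : (a : G) ∈ torusK Q R f := by
    have hcop : Nat.Coprime 2 (orderOf (a : G)) := by
      rw [Subgroup.orderOf_coe, ha]
      exact (Nat.coprime_primes Nat.prime_two hp).2 hp2.symm
    obtain ⟨m, hm⟩ := exists_pow_eq_self_of_coprime hcop
    rw [← hm]
    exact pow_mem (fr.sq_mem_torusK a.2) m
  have := orderOf_dvd_natCard (⟨a, hm⟩ : torusK Q R f)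
  rw [← Subgroup.orderOf_coe] at this
  change orderOf (a : G) ∣ _ at this
  rwa [Subgroup.orderOf_coe, ha] at this

/-- An element of `K ⟨f⟩` outside `K` normalises no second line through `Q`. -/
theorem torus_two_lines (fr : Frame P Q R f j) {k : G} (hk : k ∈ lineCent Q R) {i : ℕ}
    (hfi : f ^ i ≠ 1) {S : Mem P} (hS : ¬ S.1 ≤ Q.1 ⊔ R.1)
    (hyS : ((k * f ^ i) • S).1 ≤ Q.1 ⊔ S.1) : False := by
  have hy : k * f ^ i ∈ torusK Q R f := fr.mem_torusK.2 ⟨k, hk, i, rfl⟩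
  have hQS : Q ≠ S := fun e => hS (e ▸ le_sup_left)
  have hyA : k * f ^ i ∈ twoStab Q R := fr.torusK_le hy
  have hyQ : (k * f ^ i) • Q = Q := hyA.1
  have hne' : (k * f ^ i) • S ≠ Q := fun e => hQS (MulAction.injective _ (hyQ.trans e.symm))
  obtain ⟨q0, hq0, hq0S⟩ := fr.exists_smul_in_line hQS hyS hne'
  have hact : ∀ x ∈ Q.1, k * f ^ i * x * (k * f ^ i)⁻¹ = x ^ 5 ^ i := fun x hx => by
    rw [show k * f ^ i * x * (k * f ^ i)⁻¹ = k * (f ^ i * x * (f ^ i)⁻¹) * k⁻¹ by group,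
      fr.f_act_pow i hx, fr.K_commute hk (Subgroup.mem_sup_left (pow_mem hx _)),
      mul_inv_cancel_right]
  have he : 5 ^ i % 11 ≠ 1 := fun h1 => hfi (fr.f_pow_mem_centralizer
    (Subgroup.mem_centralizer_iff.2 fun x hx => by
      have e := fr.f_act_pow i hx
      rw [fr.pow_modEq (show 5 ^ i ≡ 1 [MOD 11] from h1) hx, pow_one] at e
      exact (mul_inv_eq_iff_eq_mul.1 e).symm))
  obtain ⟨m, hm⟩ : ∃ m : ℕ, m * 5 ^ i + 1 ≡ m [MOD 11] := by
    have key : ∀ e : Fin 11, e.val ≠ 1 → ∃ m : Fin 11, (m.val * e.val + 1) % 11 = m.val := by decide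
    obtain ⟨m, hm⟩ := key ⟨5 ^ i % 11, Nat.mod_lt _ (by norm_num)⟩ he
    refine ⟨m.val, ?_⟩
    show (m.val * 5 ^ i + 1) % 11 = m.val % 11
    rw [Nat.mod_eq_of_lt m.isLt, Nat.add_mod, Nat.mul_mod, Nat.mod_eq_of_lt m.isLt]
    simpa [Nat.add_mod] using hm
  set T := (q0 ^ m) • S with hT
  have hyT : (k * f ^ i) • T = T := by
    have hqq : k * f ^ i * q0 ^ m * (k * f ^ i)⁻¹ * q0 = q0 ^ m := by
      rw [hact _ (pow_mem hq0 m), ← pow_mul, ← pow_succ, fr.pow_modEq hm hq0]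
    calc (k * f ^ i) • T = (k * f ^ i * q0 ^ m * (k * f ^ i)⁻¹) • ((k * f ^ i) • S) := by
          rw [hT, ← mul_smul, ← mul_smul]; congr 1; group
      _ = T := by rw [← hq0S, ← mul_smul, hqq]
  have hqm : q0 ^ m ∈ Q.1 := pow_mem hq0 m
  have hTQ : T ≠ Q := fun e => hQS (MulAction.injective (q0 ^ m)
    (((smul_eq_iff (q0 ^ m) Q).2 (Subgroup.le_normalizer hqm)).trans e.symm))
  have hTR : T ≠ R := fun e => by
    refine hS ?_
    have hRle : R.1 ≤ Q.1 ⊔ S.1 := by
      rw [← e]; exact le_of_smul_le (Subgroup.mem_sup_left hqm) le_sup_right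
    rw [fr.line_eq fr.ne hQS le_sup_left hRle]
    exact le_sup_right
  have hsq := fr.sq_mem_centralizer fr.ne hTQ.symm hTR.symm hyQ hyA.2 hyT
  have hm2 : 5 ^ i * 5 ^ i ≡ 1 [MOD 11] := fr.modEq_of_pow_eq (Q := Q) fun x hx => by
    rw [pow_mul, ← hact x hx, conj_pow, ← hact x hx, pow_one]
    have := Subgroup.mem_centralizer_iff.1 hsq x hx
    rw [show k * f ^ i * (k * f ^ i * x * (k * f ^ i)⁻¹) * (k * f ^ i)⁻¹ =
      (k * f ^ i) ^ 2 * x * ((k * f ^ i) ^ 2)⁻¹ by rw [pow_two]; group, ← this, mul_inv_cancel_right]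
  apply he
  have h5 : 5 ^ i % 11 = 5 ^ (i % 5) % 11 := by
    conv_lhs => rw [← Nat.div_add_mod i 5, pow_add, pow_mul, Nat.mul_mod, Nat.pow_mod]
    norm_num [Nat.mul_mod, Nat.pow_mod]
  have key : ∀ r : Fin 5, (5 ^ r.val * 5 ^ r.val) % 11 = 1 → 5 ^ r.val % 11 = 1 := by decide
  rw [h5]
  refine key ⟨i % 5, Nat.mod_lt _ (by norm_num)⟩ ?_
  rw [Nat.mul_mod, ← h5, ← Nat.mul_mod]
  exact hm2

/-- A conjugate of an element of `K ⟨f⟩` normalising the line of `Q` and `S` is trivial, unless that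
is the line of the frame. -/
theorem eq_one_of_two_lines (fr : Frame P Q R f j) (hex : ¬ Exceptional Q R) {y : G}
    (hy : y ∈ torusK Q R f) {S : Mem P} (hS : ¬ S.1 ≤ Q.1 ⊔ R.1)
    (hyS : (y • S).1 ≤ Q.1 ⊔ S.1) : y = 1 := by
  obtain ⟨k, hk, i, rfl⟩ := fr.mem_torusK.1 hy
  by_cases hfi : f ^ i = 1
  · rw [hfi, mul_one] at hyS ⊢
    by_contra hk1
    exact hex ⟨k, hk, hk1, S, hS, hyS⟩
  exact (fr.torus_two_lines hk hfi hS hyS).elim

/-- Without exceptional elements there is a kernel. -/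
theorem exists_kernel (fr : Frame P Q R f j) (hex : ¬ Exceptional Q R) :
    ∃ (M : Subgroup G) (r : ℕ), Kernel Q R M r := by
  classical
  obtain ⟨r, hn⟩ : ∃ r, Nat.card (Mem P) = 11 * r + 1 :=
    ⟨Nat.card (Mem P) / 11, by have := fr.card_mod_eleven; omega⟩
  have hr1 : 1 < r := by have := fr.card_members_ge; omega
  set C := Subgroup.centralizer (Q.1 : Set G) with hCdef
  have hQC : Q.1 ≤ C := by
    haveI : Fact (Nat.Prime 11) := fact_prime_eleven
    haveI : IsCyclic Q.1 := isCyclic_of_prime_card (fr.mem_card Q)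
    letI := IsCyclic.commGroup (α := Q.1)
    intro a ha
    exact Subgroup.mem_centralizer_iff.2 fun b hb =>
      congrArg Subtype.val (mul_comm (⟨b, hb⟩ : Q.1) ⟨a, ha⟩)
  have hKC : lineCent Q R ≤ C := fun k hk => (fr.K_iff.1 hk).1
  have hfN : Subgroup.zpowers f ≤ Subgroup.normalizer (C : Set G) := by
    rw [Subgroup.zpowers_le, Subgroup.mem_normalizer_iff]
    intro x
    refine ⟨fun hx => LHyp.centralizer_smul_mem Q fr.f_smul_Q hx, fun hx => ?_⟩
    have h2 := LHyp.centralizer_smul_mem Q (g := f⁻¹) (inv_smul_eq_iff.2 fr.f_smul_Q.symm) hx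
    rwa [show f⁻¹ * (f * x * f⁻¹) * f⁻¹⁻¹ = x by group] at h2
  set H0 := C ⊔ Subgroup.zpowers f with hH0
  have hH0Q : H0 ≤ MulAction.stabilizer G Q :=
    sup_le (fun c hc => smul_eq_of_mem_centralizer hc) (Subgroup.zpowers_le.2 fr.f_smul_Q)
  have hcardH0 : Nat.card H0 = Nat.card C * 5 := by
    rw [hH0, SylowAb.card_sup hfN ?_, Nat.card_zpowers, fr.f_order]
    rw [Subgroup.disjoint_def]
    intro x hxC hxf
    obtain ⟨i, rfl⟩ := fr.exists_pow_of_mem hxf
    exact fr.f_pow_mem_centralizer hxC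
  have hTH : torusK Q R f ≤ H0 := sup_le (hKC.trans le_sup_left) le_sup_right
  set Qs := Q.1.subgroupOf H0 with hQs
  haveI hQn : Qs.Normal := by
    rw [hQs, Subgroup.normal_subgroupOf_iff_le_normalizer (hQC.trans le_sup_left)]
    exact fun g hg => (smul_eq_iff g Q).1 (hH0Q hg)
  set π := QuotientGroup.mk' Qs with hπ
  set Hc := ((torusK Q R f).subgroupOf H0).map π with hHc
  have hdisj : ∀ y ∈ torusK Q R f, y ∈ Q.1 → y = 1 := fun y hy hyQ => by
    by_contra hy1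
    exact fr.ne (fr.eq_of_smul_eq hy1 hyQ (fr.torusK_le hy).2)
  have hmemHc : ∀ g : H0, π g ∈ Hc ↔ ∃ q ∈ Q.1, ∃ y ∈ torusK Q R f, (g : G) = y * q := by
    intro g
    constructor
    · rintro ⟨y, hy, he⟩
      refine ⟨((y⁻¹ * g : H0) : G), (QuotientGroup.eq.1 he : y⁻¹ * g ∈ Qs), y, hy, ?_⟩
      simp
    · rintro ⟨q, hq, y, hy, hgy⟩
      refine ⟨⟨y, hTH hy⟩, hy, QuotientGroup.eq.2 ?_⟩
      show y⁻¹ * (g : G) ∈ Q.1
      rw [hgy, inv_mul_cancel_left]
      exact hq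
  have hcardHc : Nat.card Hc = Nat.card (lineCent Q R) * 5 := by
    rw [← fr.card_torusK, ← Nat.card_congr (Subgroup.subgroupOfEquivOfLe hTH).toEquiv]
    refine (Nat.card_congr (Equiv.ofBijective (fun y : (torusK Q R f).subgroupOf H0 =>
      (⟨π y, y, y.2, rfl⟩ : Hc)) ⟨fun a b hab => ?_, ?_⟩)).symm
    · have e := QuotientGroup.eq.1 (congrArg Subtype.val hab)
      have h1 : ((a : G))⁻¹ * (b : G) ∈ torusK Q R f := mul_mem (inv_mem a.2) b.2
      exact Subtype.ext (Subtype.ext (inv_mul_eq_one.1 (hdisj _ h1 e)))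
    · rintro ⟨_, y, hy, rfl⟩
      exact ⟨⟨y, hy⟩, rfl⟩
  have hindex : Hc.index = r := by
    have h1 := Hc.card_mul_index
    have h2 := Subgroup.card_eq_card_quotient_mul_card_subgroup Qs
    rw [Nat.card_congr (Subgroup.subgroupOfEquivOfLe (hQC.trans le_sup_left)).toEquiv, fr.mem_card,
      hcardH0, hCdef, fr.card_centralizer, hn] at h2
    rw [hcardHc] at h1
    have h0 : 0 < Nat.card (lineCent Q R) := Nat.card_pos
    have h3 : (Nat.card (lineCent Q R) * 5) * Hc.index * 11 = (Nat.card (lineCent Q R) * 5) * r * 11 := by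
      rw [h1, ← h2]
      simp only [Nat.add_sub_cancel]
      ring
    exact Nat.eq_of_mul_eq_mul_left (Nat.mul_pos h0 (by norm_num))
      (Nat.eq_of_mul_eq_mul_right (by norm_num) h3)
  -- the complement is malnormal
  have hmal : ∀ g x : H0, π x ∈ Hc → π (g⁻¹ * x * g) ∈ Hc → π x ≠ 1 → π g ∈ Hc := by
    intro g x hx hxg hx1
    obtain ⟨q, hq, y, hy, hxy⟩ := (hmemHc x).1 hx
    obtain ⟨q', hq', y', hy', hgy⟩ := (hmemHc (g⁻¹ * x * g)).1 hxg
    have hgQ : (g : G) • Q = Q := hH0Q g.2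
    have hqfix : ∀ z ∈ Q.1, z • Q = Q := fun z hz => (smul_eq_iff z Q).2 (Subgroup.le_normalizer hz)
    set S := (g : G) • R with hS
    by_cases hle : S.1 ≤ Q.1 ⊔ R.1
    · have hSQ : S ≠ Q := fun e => fr.ne.symm (MulAction.injective (g : G) (e.trans hgQ.symm))
      obtain ⟨q1, hq1, hq1S⟩ := fr.exists_smul_in_line fr.ne hle hSQ
      obtain ⟨c, hc, z, hz, hcz⟩ := show (g : G) ∈ (C : Set G) * (Subgroup.zpowers f : Set G) by
        rw [← Subgroup.coe_mul_of_right_le_normalizer_left _ _ hfN]; exact g.2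
      obtain ⟨i, rfl⟩ := fr.exists_pow_of_mem hz
      have hK : q1⁻¹ * c ∈ lineCent Q R := fr.K_iff.2 ⟨mul_mem (inv_mem (hQC hq1)) hc, by
        have hfiR : (f ^ i) • R = R :=
          MulAction.mem_stabilizer_iff.1 (pow_mem fr.f_mem_twoStab i).2
        rw [mul_smul, inv_smul_eq_iff, hq1S, hS, ← hcz, mul_smul, hfiR]⟩
      refine (hmemHc g).2 ⟨(q1⁻¹ * c * f ^ i)⁻¹ * q1 * (q1⁻¹ * c * f ^ i), ?_, q1⁻¹ * c * f ^ i,
        fr.mem_torusK.2 ⟨_, hK, i, rfl⟩, ?_⟩
      · have hA := fr.torusK_le (fr.mem_torusK.2 ⟨_, hK, i, rfl⟩)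
        exact (Subgroup.mem_normalizer_iff''.1 ((smul_eq_iff _ Q).1 hA.1) q1).1 hq1
      · rw [← hcz]; group
    · refine absurd ?_ hx1
      have hyS : (y • S).1 ≤ Q.1 ⊔ S.1 := by
        have hxS : ((x : G) • S).1 ≤ Q.1 ⊔ S.1 := by
          have e : (x : G) • S = (g : G) • ((y' * q') • R) := by
            rw [← hgy, hS, ← mul_smul, ← mul_smul]
            congr 1
            simp [mul_assoc]
          have hL : (((y' * q') • R)).1 ≤ Q.1 ⊔ R.1 := by
            have hy'A := fr.torusK_le hy'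
            rw [mul_smul]
            intro z hz
            obtain ⟨w, hw, rfl⟩ := hz
            have hwL : w ∈ Q.1 ⊔ R.1 :=
              le_of_smul_le (Subgroup.mem_sup_left hq') le_sup_right hw
            have hX := map_sup_eq_of_smul hy'A.1 hy'A.2
            exact hX.le ⟨w, hwL, rfl⟩
          rw [e]
          intro z hz
          obtain ⟨w, hw, rfl⟩ := hz
          have hmap : (Q.1 ⊔ R.1).map (MulAut.conj (g : G)).toMonoidHom = Q.1 ⊔ S.1 := by
            rw [Subgroup.map_sup, ← Mem.smul_val, ← Mem.smul_val, hgQ]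
          rw [← hmap]
          exact ⟨w, hL hw, rfl⟩
        have e : y • S = (y * q⁻¹ * y⁻¹) • ((x : G) • S) := by
          rw [hxy, ← mul_smul (y * q⁻¹ * y⁻¹) (y * q) S]; congr 1; group
        rw [e]
        exact le_of_smul_le (Subgroup.mem_sup_left ((Subgroup.mem_normalizer_iff.1
          ((smul_eq_iff y Q).1 (fr.torusK_le hy).1) _).1 (inv_mem hq))) hxS
      have hy1 := fr.eq_one_of_two_lines hex hy hle hyS
      rw [hπ, QuotientGroup.mk'_apply, QuotientGroup.eq_one_iff]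
      show (x : G) ∈ Q.1
      rw [hxy, hy1, one_mul]
      exact hq
  have hHbot : Hc ≠ ⊥ := fun e => by
    rw [e, Subgroup.card_bot] at hcardHc; omega
  have hHtop : Hc ≠ ⊤ := fun e => by
    rw [e, Subgroup.index_top] at hindex; omega
  have hfc : Cfsg.IsFrobeniusComplement Hc := by
    refine ⟨hHbot, hHtop, fun g hg => ?_⟩
    rw [eq_bot_iff]
    rintro z ⟨hz, hz'⟩
    replace hz' := (Characters.mem_conj_smul_iff g z).1 hz'
    obtain ⟨g, rfl⟩ := QuotientGroup.mk'_surjective Qs g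
    obtain ⟨x, rfl⟩ := QuotientGroup.mk'_surjective Qs z
    rw [Subgroup.mem_bot]
    by_contra hx1
    rw [← map_inv, ← map_mul, ← map_mul] at hz'
    exact hg (hmal g x hz hz' hx1)
  obtain ⟨N, hNeq, hNn, hNnil⟩ := Cfsg.Agent.S0042.result Hc hfc
  have hNcard : Nat.card N = r := by
    rw [← hindex, ← Characters.card_frobeniusKernel hfc, ← hNeq]
    rfl
  have hNH : ∀ z ∈ N, z ∈ Hc → z = 1 := fun z hzN hzH => by
    have : z ∈ (Cfsg.frobeniusKernel Hc) := hNeq ▸ hzN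
    rcases (Characters.mem_frobeniusKernel_iff z).1 this with h | h
    · exact h
    · exact absurd (by simpa using hzH) (h 1)
  set M0 := N.comap π with hM0
  set M := M0.map H0.subtype with hM
  have hM0card : Nat.card M0 = 11 * r := by
    have h1 := M0.card_mul_index
    rw [hM0, Subgroup.index_comap_of_surjective _ (QuotientGroup.mk'_surjective _)] at h1
    have h2 := Subgroup.card_eq_card_quotient_mul_card_subgroup Qs
    rw [Nat.card_congr (Subgroup.subgroupOfEquivOfLe (hQC.trans le_sup_left)).toEquiv, fr.mem_card,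
      ← N.card_mul_index] at h2
    rw [h2, hNcard] at h1
    have hpos : 0 < N.index := Nat.pos_of_ne_zero Subgroup.index_ne_zero_of_finite
    refine Nat.eq_of_mul_eq_mul_right hpos ?_
    rw [← hM0] at h1
    rw [h1]; ring
  have hMcard : Nat.card M = 11 * r := by
    rw [hM, Subgroup.card_map_of_injective H0.subtype_injective, hM0card]
  -- the kernel centralises `Q`
  have hcop : ∀ p : ℕ, p.Prime → p ∣ r → ¬ p ∣ Nat.card (lineCent Q R) * 5 := by
    intro p hp hpr hpd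
    haveI : Fact p.Prime := ⟨hp⟩
    rw [← hcardHc] at hpd
    obtain ⟨y, hy⟩ := exists_prime_orderOf_dvd_card' p hpd
    haveI := hNn
    letI : MulAction (Subgroup.zpowers (y : ↥H0 ⧸ Qs)) N :=
      { smul := fun z x => ⟨(z : ↥H0 ⧸ Qs) * x * (z : ↥H0 ⧸ Qs)⁻¹, hNn.conj_mem _ x.2 _⟩
        one_smul := fun x => Subtype.ext (by
          show (1 : ↥H0 ⧸ Qs) * x * (1 : ↥H0 ⧸ Qs)⁻¹ = x
          simp)
        mul_smul := fun a b x => Subtype.ext (by
          show ((a : ↥H0 ⧸ Qs) * b) * x * ((a : ↥H0 ⧸ Qs) * b)⁻¹ =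
            (a : ↥H0 ⧸ Qs) * ((b : ↥H0 ⧸ Qs) * x * (b : ↥H0 ⧸ Qs)⁻¹) * (a : ↥H0 ⧸ Qs)⁻¹
          group) }
    have hpg : IsPGroup p (Subgroup.zpowers (y : ↥H0 ⧸ Qs)) :=
      IsPGroup.of_card (n := 1) (by rw [Nat.card_zpowers, Subgroup.orderOf_coe, hy, pow_one])
    have h1 : (1 : N) ∈ MulAction.fixedPoints (Subgroup.zpowers (y : ↥H0 ⧸ Qs)) N := fun z =>
      Subtype.ext (by
        show (z : ↥H0 ⧸ Qs) * (1 : ↥H0 ⧸ Qs) * (z : ↥H0 ⧸ Qs)⁻¹ = 1
        simp)
    obtain ⟨x, hx, hx1⟩ := hpg.exists_fixed_point_of_prime_dvd_card_of_fixed_point N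
      (hNcard ▸ hpr) h1
    have he : (y : ↥H0 ⧸ Qs) * x * (y : ↥H0 ⧸ Qs)⁻¹ = x :=
      congrArg Subtype.val (hx ⟨y, Subgroup.mem_zpowers _⟩)
    have hy1 : (y : ↥H0 ⧸ Qs) ≠ 1 := fun e => by
      rw [← Subgroup.orderOf_coe, e, orderOf_one] at hy
      exact hp.ne_one hy.symm
    have hxH : (x : ↥H0 ⧸ Qs) ∈ Hc := Characters.mem_of_frobenius_meet hfc y.2 (by
      rw [mul_inv_eq_iff_eq_mul] at he
      rw [mul_assoc, he, inv_mul_cancel_left]
      exact y.2) hy1
    exact hx1 (Subtype.ext (hNH _ x.2 hxH)).symm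
  have hr5 : ¬ 5 ∣ r := fun hd => hcop 5 (by norm_num) hd (dvd_mul_left 5 _)
  have hMC : M ≤ C := by
    rintro _ ⟨x, hx, rfl⟩
    obtain ⟨c, hc, z, hz, hcz⟩ := show (x : G) ∈ (C : Set G) * (Subgroup.zpowers f : Set G) by
      rw [← Subgroup.coe_mul_of_right_le_normalizer_left _ _ hfN]; exact x.2
    obtain ⟨i, rfl⟩ := fr.exists_pow_of_mem hz
    show (x : G) ∈ C
    haveI : (C.subgroupOf H0).Normal :=
      (Subgroup.normal_subgroupOf_iff_le_normalizer le_sup_left).2 (sup_le Subgroup.le_normalizer hfN)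
    have hidx : Nat.card (↥H0 ⧸ C.subgroupOf H0) = 5 := by
      have h1 := Subgroup.card_eq_card_quotient_mul_card_subgroup (C.subgroupOf H0)
      rw [hcardH0, Nat.card_congr (Subgroup.subgroupOfEquivOfLe le_sup_left).toEquiv, mul_comm] at h1
      exact (Nat.eq_of_mul_eq_mul_right Nat.card_pos h1.symm)
    have ho : orderOf (QuotientGroup.mk' (C.subgroupOf H0) x) ∣ 5 := hidx ▸ orderOf_dvd_natCard _
    have hox : orderOf x ∣ 11 * r := by
      rw [← hM0card]
      have := orderOf_dvd_natCard (⟨x, hx⟩ : M0)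
      rwa [← Subgroup.orderOf_coe] at this
    have hcp : Nat.Coprime 5 (11 * r) :=
      (Nat.Prime.coprime_iff_not_dvd (by norm_num)).2 fun hd =>
        ((Nat.Prime.dvd_mul (by norm_num : Nat.Prime 5)).1 hd).elim (by norm_num) hr5
    have h1 : orderOf (QuotientGroup.mk' (C.subgroupOf H0) x) = 1 :=
      Nat.eq_one_of_dvd_coprimes hcp ho ((orderOf_map_dvd _ x).trans hox)
    rw [orderOf_eq_one_iff, QuotientGroup.mk'_apply, QuotientGroup.eq_one_iff] at h1
    exact h1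
  have hQM : Q.1 ≤ M := fun q hq =>
    ⟨⟨q, Subgroup.mem_sup_left (hQC hq)⟩, by
      show π _ ∈ N
      rw [show π ⟨q, Subgroup.mem_sup_left (hQC hq)⟩ = 1 from (QuotientGroup.eq_one_iff _).2 hq]
      exact one_mem N, rfl⟩
  refine ⟨M, r, hMC, hQM, ?_, hMcard, ?_, ?_, hn, hr1, ?_⟩
  · haveI : Group.IsNilpotent N := hNnil
    haveI : Group.IsNilpotent M0 := by
      refine Subgroup.isNilpotent_of_ker_le_center
        ((π.comp M0.subtype).codRestrict N fun x => x.2) ?_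
      intro x hx
      have hxQ : (x : G) ∈ Q.1 :=
        (QuotientGroup.eq_one_iff (x : H0)).1 (congrArg Subtype.val (MonoidHom.mem_ker.1 hx))
      exact Subgroup.mem_center_iff.2 fun y => Subtype.ext (Subtype.ext
        ((Subgroup.mem_centralizer_iff.1 (hMC ⟨(y : H0), y.2, rfl⟩) (x : G) hxQ).symm))
    exact Group.nilpotent_of_mulEquiv (M0.equivMapOfInjective _ H0.subtype_injective)
  · rintro g hg _ ⟨x, hx, rfl⟩
    obtain ⟨c, hc, hcR⟩ := fr.exists_centralizing fr.ne.symm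
      (fun e => fr.ne.symm (MulAction.injective g (e.trans hg.symm)) : g • R ≠ Q)
    have haA : c⁻¹ * g ∈ twoStab Q R :=
      ⟨show (c⁻¹ * g) • Q = Q by
          rw [mul_smul, hg]; exact smul_eq_of_mem_centralizer (inv_mem hc),
        show (c⁻¹ * g) • R = R by rw [mul_smul, ← hcR, inv_smul_smul]⟩
    set a := c⁻¹ * g with ha
    -- conjugation by `a` preserves the set-up
    have haC : ∀ z, z ∈ C → a * z * a⁻¹ ∈ C := fun z hz =>
      LHyp.centralizer_smul_mem Q haA.1 hz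
    have haf : a * f * a⁻¹ = f := fr.f_fixed a haA.1 haA.2
    have haH : ∀ z, z ∈ H0 → a * z * a⁻¹ ∈ H0 := by
      intro z hz
      obtain ⟨c', hc', w, hw, rfl⟩ := show z ∈ (C : Set G) * (Subgroup.zpowers f : Set G) by
        rw [← Subgroup.coe_mul_of_right_le_normalizer_left _ _ hfN]; exact hz
      obtain ⟨i, rfl⟩ := fr.exists_pow_of_mem hw
      rw [show a * (c' * f ^ i) * a⁻¹ = a * c' * a⁻¹ * (a * f ^ i * a⁻¹) by group,
        ← conj_pow, haf]
      exact Subgroup.mul_mem_sup (haC _ hc') (pow_mem (Subgroup.mem_zpowers f) i)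
    have haT : ∀ z, z ∈ torusK Q R f → a * z * a⁻¹ ∈ torusK Q R f := by
      intro z hz
      obtain ⟨k, hk, i, rfl⟩ := fr.mem_torusK.1 hz
      refine fr.mem_torusK.2 ⟨a * k * a⁻¹, fr.K_iff.2 ⟨haC _ (hKC hk), ?_⟩, i, ?_⟩
      · have hR' : a⁻¹ • R = R := inv_smul_eq_iff.2 haA.2.symm
        rw [mul_smul, mul_smul, hR', (fr.K_iff.1 hk).2, haA.2]
      · conv_rhs => rw [← haf, conj_pow]
        group
    have haM : a * (x : G) * a⁻¹ ∈ M := by
      refine ⟨⟨_, haH _ x.2⟩, ?_, rfl⟩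
      show π _ ∈ N
      have hxN : π x ∈ Cfsg.frobeniusKernel Hc := hNeq ▸ (hx : π x ∈ N)
      rw [← SetLike.mem_coe, hNeq, Characters.mem_frobeniusKernel_iff]
      rcases (Characters.mem_frobeniusKernel_iff _).1 hxN with h1 | h1
      · left
        rw [hπ, QuotientGroup.mk'_apply, QuotientGroup.eq_one_iff] at h1 ⊢
        exact (Subgroup.mem_normalizer_iff.1 ((smul_eq_iff a Q).1 haA.1) _).1 h1
      · right
        intro z hz
        obtain ⟨z, rfl⟩ := QuotientGroup.mk'_surjective Qs z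
        rw [← map_inv, ← map_mul, ← map_mul, hmemHc] at hz
        obtain ⟨q, hq, y, hy, hzy⟩ := hz
        have haA' : a⁻¹ ∈ twoStab Q R := inv_mem haA
        have haC' : ∀ w, w ∈ C → a⁻¹ * w * a ∈ C := fun w hw => by
          have := LHyp.centralizer_smul_mem Q (g := a⁻¹) haA'.1 hw
          rwa [inv_inv] at this
        have haf' : a⁻¹ * f * a = f := by
          have := fr.f_fixed a⁻¹ haA'.1 haA'.2
          rwa [inv_inv] at this
        have hz' : a⁻¹ * (z : G) * a ∈ H0 := by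
          obtain ⟨c', hc', w, hw, hcw⟩ := show (z : G) ∈ (C : Set G) * (Subgroup.zpowers f : Set G) by
            rw [← Subgroup.coe_mul_of_right_le_normalizer_left _ _ hfN]; exact z.2
          obtain ⟨i, rfl⟩ := fr.exists_pow_of_mem hw
          have e : (a⁻¹ * f * a) ^ i = a⁻¹ * f ^ i * a := by
            simpa using conj_pow (a := a⁻¹) (b := f) (i := i)
          rw [← hcw, show a⁻¹ * (c' * f ^ i) * a = a⁻¹ * c' * a * (a⁻¹ * f ^ i * a) by group, ← e, haf']
          exact Subgroup.mul_mem_sup (haC' _ hc') (pow_mem (Subgroup.mem_zpowers f) i)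
        refine h1 (π ⟨_, hz'⟩) ?_
        rw [← map_inv, ← map_mul, ← map_mul, hmemHc]
        refine ⟨a⁻¹ * q * a, ?_, a⁻¹ * y * a, ?_, ?_⟩
        · exact (Subgroup.mem_normalizer_iff''.1 ((smul_eq_iff a Q).1 haA.1) q).1 hq
        · obtain ⟨k, hk, i, rfl⟩ := fr.mem_torusK.1 hy
          refine fr.mem_torusK.2 ⟨a⁻¹ * k * a, fr.K_iff.2 ⟨haC' _ (hKC hk), ?_⟩, i, ?_⟩
          · rw [mul_smul, mul_smul, haA.2, (fr.K_iff.1 hk).2, inv_smul_eq_iff, haA.2]
          · conv_rhs => rw [← haf']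
            rw [show (a⁻¹ * f * a) ^ i = a⁻¹ * f ^ i * a by simpa using conj_pow (a := a⁻¹) (b := f) (i := i)]
            group
        · simp only [Subgroup.coe_mul, InvMemClass.coe_inv] at hzy ⊢
          have e : (z : G)⁻¹ * (a * (x : G) * a⁻¹) * z = y * q := hzy
          calc (a⁻¹ * (z : G) * a)⁻¹ * (x : G) * (a⁻¹ * (z : G) * a)
              = a⁻¹ * ((z : G)⁻¹ * (a * (x : G) * a⁻¹) * z) * a := by group
            _ = a⁻¹ * y * a * (a⁻¹ * q * a) := by rw [e]; group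
    -- `c` lies in the group, where the kernel is normal
    have hcH : c ∈ H0 := Subgroup.mem_sup_left hc
    obtain ⟨w, hw, hwe⟩ := haM
    refine ⟨⟨c, hcH⟩ * w * ⟨c, hcH⟩⁻¹, ?_, ?_⟩
    · show π _ ∈ N
      rw [map_mul, map_mul, map_inv]
      exact hNn.conj_mem _ hw _
    · show c * (w : G) * c⁻¹ = g * (x : G) * g⁻¹
      rw [show (w : G) = a * (x : G) * a⁻¹ from hwe, ha]
      group
  · intro x hxM hxR
    have hxK : x ∈ lineCent Q R := fr.K_iff.2 ⟨hMC hxM, hxR⟩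
    obtain ⟨y, hy, rfl⟩ := hxM
    have hyH : π y ∈ Hc := ⟨y, Subgroup.mem_sup_left hxK, rfl⟩
    have hy1 : π y = 1 := hNH _ hy hyH
    rw [hπ, QuotientGroup.mk'_apply, QuotientGroup.eq_one_iff] at hy1
    exact hdisj _ (Subgroup.mem_sup_left hxK) hy1
  · intro p hp hpr hd
    rcases eq_or_ne p 2 with rfl | hp2
    · have := fr.card_mod
      obtain ⟨m, rfl⟩ := hpr
      omega
    · exact hcop p hp hpr (fr.card_torusK ▸ fr.prime_dvd_twoStab hp hp2 hd)

end Frame

end Cfsg.Agent.ElevenPairs
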