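import Cfsg.Agent.Lib.ElevenPairs.LCase.Even
import Cfsg.Agent.Lib.ElevenPairs.LCase.Exceptional
import Cfsg.Agent.Lib.ElevenPairs.LCase.ExceptionalEnd

/-!
# All pairs of type L: impossible
-/

set_option autoImplicit false

namespace Cfsg.Agent.ElevenPairs

universe u

variable {G : Type u} [Group G] {P : Subgroup G}

namespace Frame

variable {Q R : Mem P} {f j : G} [Finite G]

theorem false_of_exceptional (fr : Frame P Q R f j) (hex : Exceptional Q R)
    (hodd : Odd (Nat.card (lineCent Q R))) : False := by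
  obtain ⟨k, hk, hk1, S, hS, hkS⟩ := hex
  obtain ⟨q, ex⟩ := fr.exists_exc hk hk1 hS hkS
  obtain ⟨θ, hθQ, hθk⟩ := ex.exists_theta hodd
  refine fr.false_of_theta hodd hk ex.order_k (fun g hg hgk => ex.mem_zpowers_of_commute hg hgk)
    (fun g hg e he => ex.normalizes_K hodd hg he) (fun x hx hx1 T hT hxT => ?_) θ hθQ hθk
  obtain ⟨q', ex'⟩ := fr.exists_exc hx hx1 hT hxT
  exact ex'.pow_eleven

theorem false' (fr : Frame P Q R f j) : False := by
  rcases Nat.even_or_odd (Nat.card (lineCent Q R)) with he | ho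
  · refine fr.false_of_even (fun hex => ?_) he
    have hd := fr.dvd_of_exceptional hex (r := 61) (fr.even_facts he).1
    norm_num at hd
  · by_cases hex : Exceptional Q R
    · exact fr.false_of_exceptional hex ho
    · exact fr.false_of_odd hex ho

end Frame

theorem Core.false_of_allL [Finite G] (h : Core P)
    (hL : ∀ Q R : Mem P, Q ≠ R → IsL ↥(Q.1 ⊔ R.1)) : False := by
  have hh : LHyp P := ⟨h, hL⟩
  obtain ⟨R, hR⟩ := hh.exists_ne (Mem.base P)
  obtain ⟨f, j, fr⟩ := hh.exists_frame (Mem.base P) R hR.symm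
  exact fr.false'

end Cfsg.Agent.ElevenPairs
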