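import Cfsg.Agent.Lib.ElevenPairs.LCase.Hom
import Cfsg.Agent.Lib.ElevenPairs.LCase.Small
import Cfsg.Agent.S0040

/-!
# No involution centralises two members

Then the two point stabiliser has a linear character: either an element inverts the members, or the
centraliser of a line acts without fixed points on the kernel, so is a Z-group.
-/

set_option autoImplicit false
set_option linter.style.haveILetI false

namespace Cfsg.Agent.ElevenPairs

open Subgroup
open scoped Pointwise commutatorElement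

universe u

variable {G : Type u} [Group G] {P : Subgroup G}

namespace Frame

variable {Q R : Mem P} {f j : G} [Finite G]

theorem swapsFix_of_odd (_fr : Frame P Q R f j) (hodd : Odd (Nat.card (lineCent Q R))) :
    SwapsFix Q R j := by
  intro k hk hk2 hk1
  exfalso
  have h1 : orderOf k = 2 := orderOf_eq_prime (by rw [pow_two, hk2]) hk1
  have h2 := orderOf_dvd_natCard (⟨k, hk⟩ : lineCent Q R)
  rw [← Subgroup.orderOf_coe] at h2
  change orderOf k ∣ _ at h2
  rw [h1] at h2
  exact Nat.not_odd_iff_even.2 (even_iff_two_dvd.2 h2) hodd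

/-- An element with non square exponent yields a linear character. -/
theorem false_of_outer (fr : Frame P Q R f j) (hsw : SwapsFix Q R j) {M : Subgroup G} {r : ℕ}
    (hM : Kernel Q R M r) {a : G} (ha : a ∈ twoStab Q R) (hni : ¬ a ∈ torusK Q R f) : False :=
  fr.false_of_normal hsw hM (torusK Q R f) (fr.commutator_le.trans le_sup_left)
    (mem_sup_right (mem_zpowers f)) fun h => hni (h ha)

theorem torusK_commutator (fr : Frame P Q R f j) :
    ⁅torusK Q R f, torusK Q R f⁆ ≤ ⁅lineCent Q R, lineCent Q R⁆ := by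
  rw [Subgroup.commutator_le]
  intro a ha b hb
  obtain ⟨k, hk, i, rfl⟩ := fr.mem_torusK.1 ha
  obtain ⟨l, hl, m, rfl⟩ := fr.mem_torusK.1 hb
  have c1 : ∀ (x : G) (n : ℕ), x ∈ lineCent Q R → x * f ^ n = f ^ n * x := fun x n hx =>
    (Commute.pow_right (fr.f_commute (fr.K_le_twoStab hx)) n).eq
  have e : ⁅k * f ^ i, l * f ^ m⁆ = ⁅k, l⁆ := by
    simp only [commutatorElement_def]
    calc k * f ^ i * (l * f ^ m) * (k * f ^ i)⁻¹ * (l * f ^ m)⁻¹
        = k * (f ^ i * l) * f ^ m * (f ^ i)⁻¹ * k⁻¹ * (f ^ m)⁻¹ * l⁻¹ := by group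
      _ = k * (l * f ^ i) * f ^ m * (f ^ i)⁻¹ * k⁻¹ * (f ^ m)⁻¹ * l⁻¹ := by rw [c1 l i hl]
      _ = k * l * (f ^ m * k⁻¹) * (f ^ m)⁻¹ * l⁻¹ := by group
      _ = k * l * (k⁻¹ * f ^ m) * (f ^ m)⁻¹ * l⁻¹ := by rw [c1 k⁻¹ m (inv_mem hk)]
      _ = k * l * k⁻¹ * l⁻¹ := by group
  rw [e]
  exact Subgroup.commutator_mem_commutator hk hl

/-- With only square exponents, a proper derived group of `K` yields a linear character. -/
theorem false_of_derived (fr : Frame P Q R f j) (hsw : SwapsFix Q R j) {M : Subgroup G} {r : ℕ}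
    (hM : Kernel Q R M r) (hall : ∀ a ∈ twoStab Q R, a ∈ torusK Q R f)
    (hK : ¬ lineCent Q R ≤ ⁅lineCent Q R, lineCent Q R⁆) : False := by
  obtain ⟨k, hk, hkK⟩ := SetLike.not_le_iff_exists.1 hK
  have hD : ⁅lineCent Q R, lineCent Q R⁆ ≤ lineCent Q R := commutator_le_self _
  refine fr.false_of_normal hsw hM (⁅lineCent Q R, lineCent Q R⁆ ⊔ zpowers f)
    (((Subgroup.commutator_mono hall hall).trans fr.torusK_commutator).trans le_sup_left)
    (mem_sup_right (mem_zpowers f)) fun h => hkK ?_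
  have hkA := h (fr.K_le_twoStab hk)
  have hn : zpowers f ≤ normalizer ((⁅lineCent Q R, lineCent Q R⁆ : Subgroup G) : Set G) := by
    rw [zpowers_le]
    refine centralizer_le_normalizer _ (mem_centralizer_iff.2 fun d hd => ?_)
    exact fr.f_commute (fr.K_le_twoStab (hD hd))
  rw [← SetLike.mem_coe, coe_mul_of_right_le_normalizer_left _ _ hn] at hkA
  obtain ⟨d, hd, z, hz, rfl⟩ := hkA
  have hzK : z ∈ lineCent Q R := by
    have := mul_mem (inv_mem (hD hd)) hk
    rwa [inv_mul_cancel_left] at this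
  show d * z ∈ _
  rw [Subgroup.disjoint_def.1 fr.disjoint_K_f hzK hz, mul_one]
  exact hd

/-- The action on the kernel modulo `Q` is fixed point free. -/
theorem mem_of_commutator_mem (fr : Frame P Q R f j) (hex : ¬ Exceptional Q R) {M : Subgroup G}
    {r : ℕ} (hM : Kernel Q R M r) {k m : G} (hk : k ∈ lineCent Q R) (hk1 : k ≠ 1) (hm : m ∈ M)
    (hc : k * m * k⁻¹ * m⁻¹ ∈ Q.1) : m ∈ Q.1 := by
  have hkR : k • R = R := (fr.K_iff.1 hk).2
  have hmQ : m • Q = Q := smul_eq_of_mem_centralizer (hM.le_centralizer hm)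
  have hline : (k • (m • R)).1 ≤ Q.1 ⊔ (m • R).1 := by
    have e : k • (m • R) = (k * m * k⁻¹ * m⁻¹) • (m • R) := by
      rw [← mul_smul, ← mul_smul, show k * m * k⁻¹ * m⁻¹ * m = k * m * k⁻¹ by group,
        mul_smul (k * m) k⁻¹, inv_smul_eq_iff.2 hkR.symm]
    rw [e]
    exact le_of_smul_le (mem_sup_left hc) le_sup_right
  by_cases hS : (m • R).1 ≤ Q.1 ⊔ R.1
  · obtain ⟨q, hq, hqR⟩ := fr.exists_smul_in_line fr.ne hS fun e =>
      fr.ne.symm (MulAction.injective m (e.trans hmQ.symm))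
    have h1 := hM.regular _ (mul_mem (inv_mem (hM.Q_le hq)) hm)
      (by rw [mul_smul, ← hqR, inv_smul_smul])
    rw [← inv_mul_eq_one.1 h1]
    exact hq
  · exact absurd ⟨k, hk, hk1, m • R, hS, hline⟩ hex

/-- Without exceptional elements, an odd `K` is a Z-group. -/
theorem isZGroup_K (fr : Frame P Q R f j) (hex : ¬ Exceptional Q R)
    (hodd : Odd (Nat.card (lineCent Q R))) {M : Subgroup G} {r : ℕ} (hM : Kernel Q R M r) :
    IsZGroup (lineCent Q R) := by
  classical
  set K := lineCent Q R with hKdef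
  have hKN : K ≤ normalizer (M : Set G) := by
    intro k hk
    have hkQ := smul_eq_of_mem_centralizer (fr.K_iff.1 hk).1
    rw [mem_normalizer_iff]
    refine fun x => ⟨fun hx => hM.invariant k hkQ x hx, fun hx => ?_⟩
    have := hM.invariant k⁻¹ (inv_smul_eq_iff.2 hkQ.symm) _ hx
    rwa [show k⁻¹ * (k * x * k⁻¹) * k⁻¹⁻¹ = x by group] at this
  set H := M ⊔ K with hH
  set Qs := Q.1.subgroupOf H with hQs
  have hHQ : H ≤ MulAction.stabilizer G Q :=
    sup_le (fun m hm => smul_eq_of_mem_centralizer (hM.le_centralizer hm))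
      (fun k hk => smul_eq_of_mem_centralizer (fr.K_iff.1 hk).1)
  haveI hQn : Qs.Normal := by
    rw [hQs, normal_subgroupOf_iff_le_normalizer (hM.Q_le.trans le_sup_left)]
    exact fun g hg => (smul_eq_iff g Q).1 (hHQ hg)
  set π := QuotientGroup.mk' Qs with hπ
  haveI hMn : (M.subgroupOf H).Normal :=
    (normal_subgroupOf_iff_le_normalizer le_sup_left).2 (sup_le le_normalizer hKN)
  set Mb := (M.subgroupOf H).map π with hMb
  set Kb := (K.subgroupOf H).map π with hKb
  haveI : Mb.Normal := hMn.map π (QuotientGroup.mk'_surjective _)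
  have hKM : ∀ x ∈ K, x ∈ M → x = 1 := fun x hx hxM => hM.regular x hxM (fr.K_iff.1 hx).2
  have hdisj : Disjoint Mb Kb := by
    rw [Subgroup.disjoint_def]
    rintro _ ⟨m, hm, rfl⟩ ⟨k, hk, he⟩
    have h1 := QuotientGroup.eq.1 he
    have h2 : (k : G)⁻¹ * (m : G) ∈ Q.1 := h1
    have hkM : (k : G) ∈ M := by
      have e : (k : G) = (m : G) * ((k : G)⁻¹ * (m : G))⁻¹ := by group
      rw [e]
      exact mul_mem hm (inv_mem (hM.Q_le h2))
    rw [← he, show k = 1 from Subtype.ext (hKM _ hk hkM), map_one]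
  have hcomp : IsComplement' Mb Kb := by
    refine isComplement'_of_disjoint_and_mul_eq_univ hdisj (Set.eq_univ_of_forall fun g => ?_)
    obtain ⟨g, rfl⟩ := QuotientGroup.mk'_surjective Qs g
    obtain ⟨m, hm, k, hk, hmk⟩ := show (g : G) ∈ (M : Set G) * (K : Set G) by
      rw [← coe_mul_of_right_le_normalizer_left _ _ hKN]; exact g.2
    refine ⟨π ⟨m, mem_sup_left hm⟩, ⟨_, hm, rfl⟩, π ⟨k, mem_sup_right hk⟩, ⟨_, hk, rfl⟩, ?_⟩
    show π _ * π _ = π g
    rw [← map_mul]
    exact congrArg π (Subtype.ext hmk)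
  have hMb1 : Mb ≠ ⊥ := fun hb => by
    rw [hMb, Subgroup.map_eq_bot_iff, hπ, QuotientGroup.ker_mk'] at hb
    have hle : M ≤ Q.1 := fun m hm => hb (x := ⟨m, mem_sup_left hm⟩) hm
    have := Subgroup.card_le_of_le hle
    rw [hM.card, fr.mem_card] at this
    have := hM.one_lt
    omega
  have hfpf : ∀ h ∈ Kb, h ≠ 1 → Mb ⊓ centralizer {h} = ⊥ := by
    rintro _ ⟨k, hk, rfl⟩ hk1
    rw [eq_bot_iff]
    rintro _ ⟨⟨m, hm, rfl⟩, hmc⟩
    replace hmc := Subgroup.mem_centralizer_singleton_iff.1 hmc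
    rw [← map_mul, ← map_mul] at hmc
    have hmc' := QuotientGroup.eq.1 hmc
    have h1 : ((m : G) * (k : G))⁻¹ * ((k : G) * (m : G)) ∈ Q.1 := hmc'
    have hk1' : (k : G) ≠ 1 := fun e => hk1 (by rw [show k = 1 from Subtype.ext e, map_one])
    have hkm : (k : G) * m * (k : G)⁻¹ * (m : G)⁻¹ ∈ Q.1 := by
      have hn := (smul_eq_iff ((m : G) * (k : G)) Q).1 (hHQ (mul_mem m.2 k.2))
      have := (mem_normalizer_iff.1 hn _).1 h1
      rwa [show (m : G) * k * (((m : G) * k)⁻¹ * ((k : G) * m)) * ((m : G) * k)⁻¹ =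
        (k : G) * m * (k : G)⁻¹ * (m : G)⁻¹ by group] at this
    rw [Subgroup.mem_bot]
    exact (QuotientGroup.eq_one_iff m).2 (fr.mem_of_commutator_mem hex hM hk hk1' hm hkm)
  let φ : K →* Kb :=
    ((π.comp (Subgroup.inclusion (le_sup_right : K ≤ H)))).codRestrict Kb fun k => ⟨_, k.2, rfl⟩
  have hφ : Function.Injective φ := by
    intro a b hab
    have h0 : ((Subgroup.inclusion le_sup_right a : H) : H ⧸ Qs) =
        (Subgroup.inclusion le_sup_right b : H) := congrArg Subtype.val hab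
    have h0' := QuotientGroup.eq.1 h0
    have h1 : (a : G)⁻¹ * (b : G) ∈ Q.1 := h0'
    exact Subtype.ext (inv_mul_eq_one.1 (hKM _ (mul_mem (inv_mem a.2) b.2) (hM.Q_le h1)))
  have hKb : Odd (Nat.card Kb) := by
    have hs : Function.Surjective φ := by
      rintro ⟨_, k, hk, rfl⟩
      exact ⟨⟨k, hk⟩, rfl⟩
    rwa [← Nat.card_congr (Equiv.ofBijective φ ⟨hφ, hs⟩)]
  haveI : IsZGroup Kb := ⟨fun p hp S => by
    haveI := Fact.mk hp
    refine (S0040.result Mb Kb hcomp hMb1 hfpf p S).resolve_right ?_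
    rintro ⟨n, ⟨e⟩⟩
    haveI : NeZero (2 ^ n) := ⟨pow_ne_zero n two_ne_zero⟩
    have hd : 2 ∣ Nat.card Kb := by
      refine dvd_trans ?_ (Subgroup.card_subgroup_dvd_card (S : Subgroup Kb))
      rw [Nat.card_congr e.toEquiv, Nat.card_eq_fintype_card, QuaternionGroup.card]
      exact Dvd.dvd.mul_right (by norm_num) _
    exact Nat.not_odd_iff_even.2 (even_iff_two_dvd.2 hd) hKb⟩
  exact IsZGroup.of_injective hφ

/-- `K` is even or exceptional. -/
theorem false_of_odd (fr : Frame P Q R f j) (hex : ¬ Exceptional Q R)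
    (hodd : Odd (Nat.card (lineCent Q R))) : False := by
  obtain ⟨M, r, hM⟩ := fr.exists_kernel hex
  by_cases hout : ∃ a ∈ twoStab Q R, a ∉ torusK Q R f
  · obtain ⟨a, ha, hni⟩ := hout
    exact fr.false_of_outer (fr.swapsFix_of_odd hodd) hM ha hni
  push Not at hout
  by_cases hK : lineCent Q R = ⊥
  · refine fr.false_of_bot hK fun a ha => ?_
    obtain ⟨k, hk, i, rfl⟩ := fr.mem_torusK.1 (hout a ha)
    refine ⟨i, ?_⟩
    rw [Commute.eq (Commute.pow_right (fr.f_commute (fr.K_le_twoStab hk)) i), inv_mul_cancel_left]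
    exact hk
  refine fr.false_of_derived (fr.swapsFix_of_odd hodd) hM hout fun hle => ?_
  haveI := fr.isZGroup_K hex hodd hM
  haveI : Nontrivial (lineCent Q R) := (nontrivial_iff_ne_bot _).2 hK
  refine (IsZGroup.commutator_lt (lineCent Q R)).ne (map_injective (subtype_injective _) ?_)
  rw [map_subtype_commutator, ← MonoidHom.range_eq_map, range_subtype]
  exact le_antisymm (commutator_le_self _) hle

end Frame

end Cfsg.Agent.ElevenPairs
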