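import Cfsg.Agent.Lib.ElevenPairs.Basic

/-!
# All pairs of type L: double transitivity

An element of order five that does not centralise a member fixes at most two members, so by
Sylow's theorem the centraliser of a member is transitive on the others.
-/

set_option autoImplicit false

namespace Cfsg.Agent.ElevenPairs

open scoped Pointwise

universe u

variable {G : Type u} [Group G] {P : Subgroup G}

/-- The minimal situation with all pairs isomorphic to PSL(2,11). -/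
structure LHyp (P : Subgroup G) : Prop extends Core P where
  allL : ∀ Q R : Mem P, Q ≠ R → IsL ↥(Q.1 ⊔ R.1)

namespace LHyp

variable [Finite G]

theorem line_eq (h : LHyp P) {Q R S T : Mem P} (hQR : Q ≠ R) (hST : S ≠ T)
    (hQ : Q.1 ≤ S.1 ⊔ T.1) (hR : R.1 ≤ S.1 ⊔ T.1) : Q.1 ⊔ R.1 = S.1 ⊔ T.1 :=
  Subgroup.eq_of_le_of_card_ge (sup_le hQ hR)
    (le_of_eq (by rw [(h.allL Q R hQR).card, (h.allL S T hST).card]))

theorem exists_ne (h : LHyp P) (Q : Mem P) : ∃ R : Mem P, R ≠ Q := by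
  by_contra hc
  push Not at hc
  refine h.not_normal ⟨fun x hx g => ?_⟩
  have e : g • Mem.base P = Mem.base P := (hc _).trans (hc _).symm
  exact (Subgroup.mem_normalizer_iff.1 ((smul_eq_iff g (Mem.base P)).1 e) x).1 hx

theorem exists_exponent (h : LHyp P) {g : G} {Q : Mem P} (hg : g • Q = Q) :
    ∃ k : ℕ, ∀ x ∈ Q.1, g * x * g⁻¹ = x ^ k := by
  haveI : Fact (Nat.Prime 11) := fact_prime_eleven
  haveI : IsCyclic Q.1 := isCyclic_of_prime_card (h.mem_card Q)
  obtain ⟨a, ha⟩ := IsCyclic.exists_monoid_generator (α := Q.1)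
  have hmem : g * (a : G) * g⁻¹ ∈ Q.1 :=
    (Subgroup.mem_normalizer_iff.1 ((smul_eq_iff g Q).1 hg) _).1 a.2
  obtain ⟨k, hk⟩ := ha ⟨_, hmem⟩
  have hk' : (a : G) ^ k = g * a * g⁻¹ := congrArg Subtype.val hk
  refine ⟨k, fun x hx => ?_⟩
  obtain ⟨i, hi⟩ := ha ⟨x, hx⟩
  have hi' : (a : G) ^ i = x := congrArg Subtype.val hi
  rw [← hi', ← conj_pow, ← hk', ← pow_mul, ← pow_mul, mul_comm]

theorem modEq_of_pow_eq (h : LHyp P) {Q : Mem P} {a b : ℕ}
    (hab : ∀ x ∈ Q.1, x ^ a = x ^ b) : a ≡ b [MOD 11] := by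
  haveI : Fact (Nat.Prime 11) := fact_prime_eleven
  haveI : IsCyclic Q.1 := isCyclic_of_prime_card (h.mem_card Q)
  obtain ⟨a0, ha0⟩ := IsCyclic.exists_ofOrder_eq_natCard (α := Q.1)
  rw [h.mem_card] at ha0
  have := pow_eq_pow_iff_modEq.1 (Subtype.ext (hab a0 a0.2) : a0 ^ a = a0 ^ b)
  rwa [ha0] at this

theorem pow_modEq (h : LHyp P) {Q : Mem P} {a b : ℕ} (hab : a ≡ b [MOD 11]) {x : G}
    (hx : x ∈ Q.1) : x ^ a = x ^ b := by
  have ho : orderOf x ∣ 11 := by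
    have := orderOf_dvd_natCard (⟨x, hx⟩ : Q.1)
    rwa [h.mem_card, ← Subgroup.orderOf_coe] at this
  exact pow_eq_pow_iff_modEq.2 (hab.of_dvd ho)

theorem exponent_mul (h : LHyp P) {g : G} {Q R : Mem P} (hne : Q ≠ R) (hQ : g • Q = Q)
    (hR : g • R = R) {k l : ℕ} (hk : ∀ x ∈ Q.1, g * x * g⁻¹ = x ^ k)
    (hl : ∀ x ∈ R.1, g * x * g⁻¹ = x ^ l) : l * k ≡ 1 [MOD 11] :=
  h.modEq_of_pow_eq (Q := R) fun x hx => by
    rw [pow_mul, ← hl x hx, h.exponent_L hne (h.allL Q R hne) hQ hR hk x hx, pow_one]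

/-- An element fixing three members acts on each as `±1`. -/
theorem sq_mem_centralizer (h : LHyp P) {g : G} {Q R S : Mem P} (hQR : Q ≠ R) (hQS : Q ≠ S)
    (hRS : R ≠ S) (hQ : g • Q = Q) (hR : g • R = R) (hS : g • S = S) :
    g ^ 2 ∈ Subgroup.centralizer (Q.1 : Set G) := by
  obtain ⟨a, ha⟩ := h.exists_exponent hQ
  obtain ⟨b, hb⟩ := h.exists_exponent hR
  obtain ⟨c, hc⟩ := h.exists_exponent hS
  have h1 : b * a ≡ 1 [MOD 11] := h.exponent_mul hQR hQ hR ha hb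
  have h2 : c * a ≡ 1 [MOD 11] := h.exponent_mul hQS hQ hS ha hc
  have h3 : c * b ≡ 1 [MOD 11] := h.exponent_mul hRS hR hS hb hc
  have h4 : a * a ≡ 1 [MOD 11] := by
    calc a * a = 1 * (a * a) := (one_mul _).symm
      _ ≡ c * b * (a * a) [MOD 11] := h3.symm.mul_right _
      _ = b * a * (c * a) := by ring
      _ ≡ 1 * 1 [MOD 11] := h1.mul h2
  rw [Subgroup.mem_centralizer_iff]
  intro x hx
  have e : g ^ 2 * x * (g ^ 2)⁻¹ = x := by
    rw [show g ^ 2 * x * (g ^ 2)⁻¹ = g * (g * x * g⁻¹) * g⁻¹ by rw [pow_two]; group, ha x hx, ← conj_pow, ha x hx,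
      ← pow_mul, h.pow_modEq h4 hx, pow_one]
  exact (mul_inv_eq_iff_eq_mul.1 e).symm

theorem five_two_points (h : LHyp P) {g : G} (hg : g ^ 5 = 1) {Q R S : Mem P} (hQR : Q ≠ R)
    (hQ : g • Q = Q) (hR : g • R = R) (hS : g • S = S)
    (hc : g ∉ Subgroup.centralizer (Q.1 : Set G)) : S = Q ∨ S = R := by
  by_contra hne
  push Not at hne
  refine hc ?_
  have h2 := h.sq_mem_centralizer hQR hne.1.symm hne.2.symm hQ hR hS
  have e : g = (g ^ 2) ^ 3 := by rw [← pow_mul, pow_succ, hg, one_mul]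
  rw [e]
  exact pow_mem h2 3

/-- A torus of two members. -/
theorem exists_torus (h : LHyp P) {Q R : Mem P} (hne : Q ≠ R) :
    ∃ f : G, f ∈ Q.1 ⊔ R.1 ∧ orderOf f = 5 ∧ f • Q = Q ∧ f • R = R ∧
      f ∉ Subgroup.centralizer (Q.1 : Set G) ∧
      (∀ x ∈ Q.1, f * x * f⁻¹ = x ^ 5) ∧ (∀ y ∈ R.1, f * y * f⁻¹ = y ^ 9) ∧
      ∀ g : G, g • Q = Q → g • R = R → g * f * g⁻¹ = f := by
  obtain ⟨f, hm, hf5, hQ, hR, hxQ, hxR, hfix⟩ := h.exists_torus_L hne (h.allL Q R hne)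
  refine ⟨f, hm, hf5, hQ, hR, fun hc => ?_, hxQ, hxR, hfix⟩
  have := h.modEq_of_pow_eq (Q := Q) (a := 5) (b := 1) fun x hx => by
    rw [← hxQ x hx, ← Subgroup.mem_centralizer_iff.1 hc x hx, pow_one]
    group
  exact absurd this (by decide)

/-- A five element normalising a member acts on it as a power of a given one. -/
theorem exists_pow_mul_mem (h : LHyp P) {g f : G} {Q : Mem P} (hg5 : g ^ 5 = 1)
    (hg : g • Q = Q) (hf : ∀ x ∈ Q.1, f * x * f⁻¹ = x ^ 5) :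
    ∃ i : ℕ, (f ^ i)⁻¹ * g ∈ Subgroup.centralizer (Q.1 : Set G) := by
  obtain ⟨k, hk⟩ := h.exists_exponent hg
  have hpow : ∀ (a : G) (m : ℕ), (∀ x ∈ Q.1, a * x * a⁻¹ = x ^ m) → ∀ (i : ℕ), ∀ x ∈ Q.1,
      a ^ i * x * (a ^ i)⁻¹ = x ^ m ^ i := by
    intro a m ha i
    induction i with
    | zero => intro x _; simp
    | succ i ih =>
      intro x hx
      rw [show a ^ (i + 1) * x * (a ^ (i + 1))⁻¹ = a ^ i * (a * x * a⁻¹) * (a ^ i)⁻¹ by group,
        ha x hx, ih _ (pow_mem hx m), ← pow_mul, pow_succ, mul_comm]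
  have h5 : k ^ 5 ≡ 1 [MOD 11] := h.modEq_of_pow_eq (Q := Q) fun x hx => by
    rw [← hpow g k hk 5 x hx, hg5, one_mul, inv_one, mul_one, pow_one]
  obtain ⟨i, hi⟩ : ∃ i : ℕ, 5 ^ i ≡ k [MOD 11] := by
    have key : ∀ r : Fin 11, r.val ^ 5 % 11 = 1 → ∃ i : Fin 5, 5 ^ i.val % 11 = r.val := by decide
    obtain ⟨i, hi⟩ := key ⟨k % 11, Nat.mod_lt _ (by norm_num)⟩ (by
      rw [← Nat.pow_mod]; exact h5)
    exact ⟨i.val, hi⟩
  refine ⟨i, Subgroup.mem_centralizer_iff.2 fun x hx => ?_⟩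
  have e : g * x * g⁻¹ = f ^ i * x * (f ^ i)⁻¹ := by
    rw [hk x hx, hpow f 5 hf i x hx, h.pow_modEq hi hx]
  calc x * ((f ^ i)⁻¹ * g) = (f ^ i)⁻¹ * (f ^ i * x * (f ^ i)⁻¹) * g := by group
    _ = (f ^ i)⁻¹ * (g * x * g⁻¹) * g := by rw [e]
    _ = (f ^ i)⁻¹ * g * x := by group

theorem centralizer_smul_mem (Q : Mem P) {g : G} (hg : g • Q = Q) {c : G}
    (hc : c ∈ Subgroup.centralizer (Q.1 : Set G)) :
    g * c * g⁻¹ ∈ Subgroup.centralizer (Q.1 : Set G) := by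
  have h1 := mem_centralizer_smul (a := g) hc
  rwa [← Mem.smul_val, hg] at h1

/-- The centraliser of a member is transitive on the others. -/
theorem exists_centralizing (h : LHyp P) {Q R S : Mem P} (hR : R ≠ Q) (hS : S ≠ Q) :
    ∃ c ∈ Subgroup.centralizer (Q.1 : Set G), c • R = S := by
  haveI : Fact (Nat.Prime 5) := ⟨by norm_num⟩
  obtain ⟨f, -, hf5, hfQ, hfR, hfc, hfx, -, -⟩ := h.exists_torus hR.symm
  obtain ⟨f', -, hf'5, hf'Q, hf'S, hf'c, -, -, -⟩ := h.exists_torus hS.symm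
  have hp : f ^ 5 = 1 := hf5 ▸ pow_orderOf_eq_one f
  have hp' : f' ^ 5 = 1 := hf'5 ▸ pow_orderOf_eq_one f'
  let H : Subgroup G := Subgroup.centralizer (Q.1 : Set G) ⊔ Subgroup.zpowers f
  have hHstab : H ≤ MulAction.stabilizer G Q := by
    refine sup_le (fun c hc => smul_eq_of_mem_centralizer hc) ?_
    rw [Subgroup.zpowers_le]
    exact hfQ
  have hfH : f ∈ H := Subgroup.mem_sup_right (Subgroup.mem_zpowers f)
  have hf'H : f' ∈ H := by
    obtain ⟨i, hi⟩ := h.exists_pow_mul_mem hp' hf'Q hfx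
    have e : f' = f ^ i * ((f ^ i)⁻¹ * f') := by group
    rw [e]
    exact mul_mem (pow_mem hfH i) (Subgroup.mem_sup_left hi)
  have hpz : ∀ a : H, a ^ 5 = 1 → IsPGroup 5 (Subgroup.zpowers a) := fun a ha5 => by
    rintro ⟨x, hx⟩
    obtain ⟨k, rfl⟩ := hx
    refine ⟨1, Subtype.ext ?_⟩
    show (a ^ k) ^ (5 ^ 1 : ℕ) = 1
    rw [pow_one, ← zpow_natCast, ← zpow_mul, mul_comm, zpow_mul, zpow_natCast, ha5, one_zpow]
  obtain ⟨T, hT⟩ := (hpz ⟨f, hfH⟩ (Subtype.ext hp)).exists_le_sylow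
  obtain ⟨T', hT'⟩ := (hpz ⟨f', hf'H⟩ (Subtype.ext hp')).exists_le_sylow
  obtain ⟨a, ha⟩ := MulAction.exists_smul_eq H T' T
  have hmem : a * ⟨f', hf'H⟩ * a⁻¹ ∈ (T : Subgroup H) := by
    rw [← ha]
    exact ⟨⟨f', hf'H⟩, hT' (Subgroup.mem_zpowers _), rfl⟩
  -- `T` fixes a member other than `Q`
  let O : SubMulAction H (Mem P) :=
    { carrier := {U | U ≠ Q}
      smul_mem' := fun b U hU hc => hU (by
        have hb : (b : G) • Q = Q := hHstab b.2
        exact MulAction.injective (b : G) (hc.trans hb.symm)) }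
  have hR' : R ∈ O := hR
  have hfix : ∀ U : O, (⟨f, hfH⟩ : H) • U = U → U = ⟨R, hR'⟩ := fun U hU => by
    rcases h.five_two_points hp hR.symm hfQ hfR (congrArg Subtype.val hU) hfc with e | e
    · exact absurd e U.2
    · exact Subtype.ext e
  have hcard : Nat.card O ≡ 1 [MOD 5] := by
    have hcz := (hpz ⟨f, hfH⟩ (Subtype.ext hp)).card_modEq_card_fixedPoints O
    haveI : Unique (MulAction.fixedPoints (Subgroup.zpowers (⟨f, hfH⟩ : H)) O) :=
      { default := ⟨⟨R, hR'⟩, by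
          rintro ⟨x, k, rfl⟩
          apply Subtype.ext
          show f ^ k • R = R
          exact MulAction.mem_stabilizer_iff.1
            (Subgroup.zpow_mem (MulAction.stabilizer G R) hfR k)⟩
        uniq := fun U => Subtype.ext (hfix U.1 (U.2 ⟨_, Subgroup.mem_zpowers _⟩)) }
    rwa [Nat.card_unique (α := MulAction.fixedPoints (Subgroup.zpowers (⟨f, hfH⟩ : H)) O)] at hcz
  obtain ⟨U, hU⟩ := T.isPGroup'.nonempty_fixed_point_of_prime_not_dvd_card O (fun hd => by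
    have := hcard.symm.trans (Nat.modEq_zero_iff_dvd.2 hd)
    exact absurd this (by decide))
  have hUR : U = ⟨R, hR'⟩ := hfix U (hU ⟨⟨f, hfH⟩, hT (Subgroup.mem_zpowers _)⟩)
  have hconj : ((a : G) * f' * (a : G)⁻¹) • R = R := by
    have := hU ⟨a * ⟨f', hf'H⟩ * a⁻¹, hmem⟩
    rw [hUR] at this
    exact congrArg Subtype.val this
  have haS : (a : G) • S = R := by
    have h1 : f' • ((a : G)⁻¹ • R) = (a : G)⁻¹ • R := by
      rw [eq_inv_smul_iff, smul_smul, smul_smul]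
      exact hconj
    rcases h.five_two_points hp' hS.symm hf'Q hf'S h1 hf'c with e | e
    · refine absurd ?_ hR
      have haQ : (a : G) • Q = Q := hHstab a.2
      rw [inv_smul_eq_iff, haQ] at e
      exact e
    · rw [← e, smul_inv_smul]
  -- split `a` into a centralising element and a power of `f`
  have hnorm : Subgroup.zpowers f ≤
      Subgroup.normalizer (Subgroup.centralizer (Q.1 : Set G) : Set G) := by
    rw [Subgroup.zpowers_le, Subgroup.mem_normalizer_iff]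
    intro x
    refine ⟨fun hx => centralizer_smul_mem Q hfQ hx, fun hx => ?_⟩
    have h2 := centralizer_smul_mem Q (g := f⁻¹) (inv_smul_eq_iff.2 hfQ.symm) hx
    rwa [show f⁻¹ * (f * x * f⁻¹) * f⁻¹⁻¹ = x by group] at h2
  have ha' : (a : G) ∈ (Subgroup.zpowers f : Set G) * (Subgroup.centralizer (Q.1 : Set G) : Set G) := by
    rw [← Subgroup.coe_mul_of_left_le_normalizer_right _ _ hnorm, sup_comm]
    exact a.2
  obtain ⟨z, hz, c, hc, hzc⟩ := ha'
  refine ⟨c⁻¹, inv_mem hc, ?_⟩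
  have hzR : z • R = R := by
    obtain ⟨k, rfl⟩ := hz
    exact MulAction.mem_stabilizer_iff.1 (Subgroup.zpow_mem (MulAction.stabilizer G R) hfR k)
  rw [← hzc, mul_smul, smul_eq_iff_eq_inv_smul, inv_smul_eq_iff.2 hzR.symm] at haS
  rw [inv_smul_eq_iff, haS]

theorem card_mod_five (h : LHyp P) : Nat.card (Mem P) % 5 = 2 := by
  haveI : Fact (Nat.Prime 5) := ⟨by norm_num⟩
  obtain ⟨R, hR⟩ := h.exists_ne (Mem.base P)
  obtain ⟨f, -, hf5, hfQ, hfR, hfc, -, -, -⟩ := h.exists_torus hR.symm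
  have hp : f ^ 5 = 1 := hf5 ▸ pow_orderOf_eq_one f
  have hpg : IsPGroup 5 (Subgroup.zpowers f) :=
    IsPGroup.of_card (n := 1) (by rw [Nat.card_zpowers, hf5, pow_one])
  have hc := hpg.card_modEq_card_fixedPoints (Mem P)
  have hfp : MulAction.fixedPoints (Subgroup.zpowers f) (Mem P) = {Mem.base P, R} := by
    ext U
    simp only [MulAction.mem_fixedPoints, Set.mem_insert_iff, Set.mem_singleton_iff]
    constructor
    · intro hU
      exact h.five_two_points hp hR.symm hfQ hfR (hU ⟨f, Subgroup.mem_zpowers f⟩) hfc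
    · rintro hU ⟨x, k, rfl⟩
      show f ^ k • U = U
      refine MulAction.mem_stabilizer_iff.1 (Subgroup.zpow_mem (MulAction.stabilizer G U) ?_ k)
      rcases hU with rfl | rfl
      exacts [hfQ, hfR]
  rw [hfp, Nat.card_coe_set_eq, Set.ncard_pair hR.symm] at hc
  exact hc

theorem card_mod_eleven (h : LHyp P) : Nat.card (Mem P) % 11 = 1 := by
  haveI : Fact (Nat.Prime 11) := fact_prime_eleven
  have hpg : IsPGroup 11 P := IsPGroup.of_card (n := 1) (by rw [h.card, pow_one])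
  have hc := hpg.card_modEq_card_fixedPoints (Mem P)
  have hfp : MulAction.fixedPoints P (Mem P) = {Mem.base P} := by
    ext U
    simp only [MulAction.mem_fixedPoints, Set.mem_singleton_iff]
    constructor
    · intro hU
      refine (h.eq_of_le_normalizer (Q := U) (R := Mem.base P) ?_).symm
      intro x hx
      exact (smul_eq_iff x U).1 (hU ⟨x, hx⟩)
    · rintro rfl ⟨x, hx⟩
      exact (smul_eq_iff x (Mem.base P)).2 (Subgroup.le_normalizer hx)
  rw [hfp, Nat.card_coe_set_eq, Set.ncard_singleton] at hc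
  exact hc

end LHyp

end Cfsg.Agent.ElevenPairs
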