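import Cfsg.Agent.Lib.ElevenPairs.LCase.Setup

/-!
# Lines, two point stabilisers and the counting of member elements

A line is a pair; it holds twelve members. An element of a member moving `Q` to `R` lies in the line
of `Q` and `R`, so products of elements of two members fix nothing outside their line.
-/

set_option autoImplicit false

namespace Cfsg.Agent.ElevenPairs

universe u

theorem card_ne_point {α : Type*} [Finite α] (a : α) :
    Nat.card {x : α // x ≠ a} = Nat.card α - 1 := by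
  classical
  haveI := Fintype.ofFinite α
  rw [Nat.card_eq_fintype_card, Nat.card_eq_fintype_card, Fintype.card_subtype_compl,
    Fintype.card_subtype_eq]

theorem card_of_fibres {α β : Type*} [Finite α] [Finite β] (f : α → β) (c : ℕ)
    (hc : ∀ b, Nat.card {a // f a = b} = c) : Nat.card α = Nat.card β * c := by
  haveI := Fintype.ofFinite β
  rw [← Nat.card_congr (Equiv.sigmaFiberEquiv f), Nat.card_sigma, Finset.sum_congr rfl (fun b _ => hc b),
    Finset.sum_const, Finset.card_univ, smul_eq_mul, Nat.card_eq_fintype_card]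

variable {G : Type u} [Group G] {P : Subgroup G}

/-- `y` is a nontrivial element of a member. -/
def InMember (P : Subgroup G) (y : G) : Prop := y ≠ 1 ∧ ∃ S : Mem P, y ∈ S.1

/-- The members inside a subgroup. -/
abbrev Line (P : Subgroup G) (X : Subgroup G) : Type u := {S : Mem P // S.1 ≤ X}

theorem mem_iff_smul {g x : G} {S : Mem P} : g * x * g⁻¹ ∈ (g • S).1 ↔ x ∈ S.1 :=
  Subgroup.mem_map_iff_mem (f := (MulAut.conj g).toMonoidHom) (MulAut.conj g).injective

theorem le_of_smul_le {g : G} {S : Mem P} {X : Subgroup G} (hg : g ∈ X) (hS : S.1 ≤ X) :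
    (g • S).1 ≤ X := by
  rintro _ ⟨x, hx, rfl⟩
  exact mul_mem (mul_mem hg (hS hx)) (inv_mem hg)

namespace LHyp

variable [Finite G]

theorem member_le (h : LHyp P) {y : G} (hy : y ≠ 1) {S : Mem P} (hS : y ∈ S.1) {X : Subgroup G}
    (hX : y ∈ X) : S.1 ≤ X := by
  intro x hx
  haveI : Fact (Nat.Prime 11) := fact_prime_eleven
  have hgen := zpowers_eq_top_of_prime_card (h.mem_card S) (g := (⟨y, hS⟩ : S.1))
    (fun e => hy (congrArg Subtype.val e))
  have hx' : (⟨x, hx⟩ : S.1) ∈ Subgroup.zpowers (⟨y, hS⟩ : S.1) := hgen ▸ Subgroup.mem_top _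
  obtain ⟨k, hk⟩ := hx'
  have hxy : y ^ k = x := congrArg Subtype.val hk
  rw [← hxy]
  exact Subgroup.zpow_mem _ hX k

theorem eq_of_mem (h : LHyp P) {y : G} (hy : y ≠ 1) {S T : Mem P} (hS : y ∈ S.1) (hT : y ∈ T.1) :
    S = T :=
  Subtype.ext (le_antisymm (h.member_le hy hS hT) (h.member_le hy hT hS))

/-- A nontrivial element of a member fixes only that member. -/
theorem eq_of_smul_eq (h : LHyp P) {y : G} (hy : y ≠ 1) {S T : Mem P} (hS : y ∈ S.1)
    (hT : y • T = T) : S = T :=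
  h.eq_of_le_normalizer (Q := T) (R := S) (h.member_le hy hS ((smul_eq_iff y T).1 hT))

theorem card_ne_one (h : LHyp P) (S : Mem P) : Nat.card {y : S.1 // y ≠ 1} = 10 := by
  rw [card_ne_point, h.mem_card]

/-- Counting member elements by their members. -/
theorem card_inMember (h : LHyp P) (p : G → Prop) (pS : Mem P → Prop)
    (hp : ∀ (S : Mem P) (y : G), y ≠ 1 → y ∈ S.1 → (p y ↔ pS S)) :
    Nat.card {y : G // InMember P y ∧ p y} = Nat.card {S : Mem P // pS S} * 10 := by
  classical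
  have key : ∀ y : {y : G // InMember P y ∧ p y}, pS y.2.1.2.choose := fun y =>
    (hp _ y.1 y.2.1.1 y.2.1.2.choose_spec).1 y.2.2
  refine card_of_fibres (fun y => (⟨y.2.1.2.choose, key y⟩ : {S : Mem P // pS S})) 10
    fun S => (Nat.card_congr ?_).trans (h.card_ne_one S.1)
  refine Equiv.ofBijective (fun y => (⟨⟨y.1.1, ?_⟩, fun e => y.1.2.1.1 (congrArg Subtype.val e)⟩ :
    {z : S.1.1 // z ≠ 1})) ⟨fun a b hab => Subtype.ext (Subtype.ext
      (congrArg (fun z : {z : S.1.1 // z ≠ 1} => (z.1 : G)) hab)), fun z => ?_⟩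
  · have e : y.1.2.1.2.choose = S.1 := congrArg Subtype.val y.2
    have hc := y.1.2.1.2.choose_spec
    rw [e] at hc
    exact hc
  · have hz1 : (z.1 : G) ≠ 1 := fun e => z.2 (Subtype.ext e)
    have hin : InMember P (z.1 : G) := ⟨hz1, S.1, z.1.2⟩
    refine ⟨⟨⟨z.1, hin, (hp S.1 _ hz1 z.1.2).2 S.2⟩, Subtype.ext ?_⟩, rfl⟩
    exact h.eq_of_mem hz1 hin.2.choose_spec z.1.2

/-- A line holds twelve members. -/
theorem card_line (h : LHyp P) {Q R : Mem P} (hne : Q ≠ R) :
    Nat.card (Line P (Q.1 ⊔ R.1)) = 12 := by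
  haveI : Fact (Nat.Prime 11) := fact_prime_eleven
  set X := Q.1 ⊔ R.1 with hXdef
  have hX := h.allL Q R hne
  have hfac : (Nat.card X).factorization 11 = 1 := IsPair.factorization (Or.inl hX)
  let e : Line P X → Sylow 11 X := fun S =>
    Sylow.ofCard (S.1.1.subgroupOf X) (by rw [h.card_subgroupOf S.1 S.2, hfac, pow_one])
  have he : Function.Bijective e := by
    constructor
    · intro S T hST
      by_contra hne'
      exact subgroupOf_ne S.2 T.2 (fun e' => hne' (Subtype.ext (Subtype.ext e')))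
        (congrArg Sylow.toSubgroup hST)
    · intro T
      have hT : Nat.card ((T : Subgroup X).map X.subtype) = 11 := by
        rw [Subgroup.card_map_of_injective X.subtype_injective, T.card_eq_multiplicity, hfac, pow_one]
      refine ⟨⟨⟨(T : Subgroup X).map X.subtype,
        h.member_of_le_pair Q R hne (Subgroup.map_subtype_le _) hT⟩, Subgroup.map_subtype_le _⟩,
        Sylow.ext ?_⟩
      exact Subgroup.comap_map_eq_self_of_injective X.subtype_injective _
  rw [Nat.card_congr (Equiv.ofBijective e he)]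
  obtain ⟨T⟩ : Nonempty (Sylow 11 X) := inferInstance
  have hd : Nat.card (Sylow 11 X) ∣ 60 := by
    have h1 := T.card_dvd_index
    have h2 := (T : Subgroup X).card_mul_index
    rw [T.card_eq_multiplicity, hfac, pow_one, hX.card] at h2
    rwa [show (T : Subgroup X).index = 60 by omega] at h1
  have hm : Nat.card (Sylow 11 X) % 11 = 1 := card_sylow_modEq_one 11 X
  have hge : 2 ≤ Nat.card (Sylow 11 X) := by
    rw [← Nat.card_congr (Equiv.ofBijective e he)]
    haveI : Nontrivial (Line P X) :=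
      ⟨⟨⟨Q, le_sup_left⟩, ⟨R, le_sup_right⟩, fun e' => hne (congrArg Subtype.val e')⟩⟩
    exact Finite.one_lt_card
  have key : ∀ a : Fin 61, a.val ∣ 60 → a.val % 11 = 1 → 2 ≤ a.val → a.val = 12 := by decide
  exact key ⟨_, Nat.lt_succ_of_le (Nat.le_of_dvd (by norm_num) hd)⟩ hd hm hge

/-- A member is regular on the others of a line through it. -/
theorem exists_smul_in_line (h : LHyp P) {Q R S : Mem P} (hne : Q ≠ R) (hS : S.1 ≤ Q.1 ⊔ R.1)
    (hSQ : S ≠ Q) : ∃ q ∈ Q.1, q • R = S := by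
  have hmem : ∀ q : Q.1, ((q : G) • R).1 ≤ Q.1 ⊔ R.1 ∧ (q : G) • R ≠ Q := fun q =>
    ⟨le_of_smul_le (Subgroup.mem_sup_left q.2) le_sup_right, fun e => hne (MulAction.injective
      (q : G) (((smul_eq_iff (q : G) Q).2 (Subgroup.le_normalizer q.2)).trans e.symm))⟩
  let m : Q.1 → {T : Line P (Q.1 ⊔ R.1) // T ≠ ⟨Q, le_sup_left⟩} := fun q =>
    ⟨⟨(q : G) • R, (hmem q).1⟩, fun e => (hmem q).2 (congrArg Subtype.val e)⟩
  have hinj : Function.Injective m := by
    intro a b hab
    have hab' : (a : G) • R = (b : G) • R := congrArg (fun T => T.1.1) hab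
    have hfix : ((b : G)⁻¹ * a) • R = R := by rw [mul_smul, hab', inv_smul_smul]
    by_contra hne'
    refine hne (h.eq_of_smul_eq (fun e => hne' ?_) (mul_mem (inv_mem b.2) a.2) hfix)
    exact Subtype.ext (inv_mul_eq_one.1 e).symm
  have hbij : Function.Bijective m := by
    refine (Nat.bijective_iff_injective_and_card m).2 ⟨hinj, ?_⟩
    rw [h.mem_card, card_ne_point, h.card_line hne]
  obtain ⟨q, hq⟩ := hbij.2 ⟨⟨S, hS⟩, fun e => hSQ (congrArg Subtype.val e)⟩
  exact ⟨q, q.2, congrArg (fun T => T.1.1) hq⟩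

/-- The member elements moving `Q` to `R`. -/
abbrev Moving (P : Subgroup G) (Q R : Mem P) : Type u := {y : G // InMember P y ∧ y • Q = R}

/-- Conjugation by an element fixing `Q` moves the sets `Moving`. -/
def movingEquiv {Q R : Mem P} (g : G) (hg : g • Q = Q) : Moving P Q R ≃ Moving P Q (g • R) where
  toFun y := ⟨g * y * g⁻¹, ⟨fun e => y.2.1.1 (conj_eq_one_iff.1 e),
      y.2.1.2.elim fun S hS => ⟨g • S, mem_iff_smul.2 hS⟩⟩, by
    rw [mul_smul, mul_smul, inv_smul_eq_iff.2 hg.symm, y.2.2]⟩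
  invFun y := ⟨g⁻¹ * y * g, ⟨fun e => y.2.1.1 (by
      have := congrArg (fun z => g * z * g⁻¹) e
      simpa [mul_assoc] using this),
      y.2.1.2.elim fun S hS => ⟨g⁻¹ • S, by
        have := (mem_iff_smul (g := g⁻¹) (x := (y : G))).2 hS
        rwa [inv_inv] at this⟩⟩, by
    rw [mul_smul, mul_smul, hg, y.2.2, inv_smul_smul]⟩
  left_inv y := Subtype.ext (by group)
  right_inv y := Subtype.ext (by group)

theorem card_moving (h : LHyp P) {Q R : Mem P} (hne : R ≠ Q) : Nat.card (Moving P Q R) = 10 := by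
  have hall : ∀ S : Mem P, S ≠ Q → Nat.card (Moving P Q S) = Nat.card (Moving P Q R) := by
    intro S hS
    obtain ⟨c, hc, rfl⟩ := h.exists_centralizing hne hS
    exact (Nat.card_congr (movingEquiv c (smul_eq_of_mem_centralizer hc))).symm
  have hA : Nat.card {y : G // InMember P y ∧ y • Q ≠ Q} = (Nat.card (Mem P) - 1) * 10 := by
    rw [← card_ne_point Q]
    refine h.card_inMember _ (fun S => S ≠ Q) fun S y hy hyS => ⟨fun hm e => hm ?_, fun hSQ e => ?_⟩
    · exact (smul_eq_iff y Q).2 (Subgroup.le_normalizer (e ▸ hyS))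
    · exact hSQ (h.eq_of_smul_eq hy hyS e)
  have hB : Nat.card {y : G // InMember P y ∧ y • Q ≠ Q} =
      (Nat.card (Mem P) - 1) * Nat.card (Moving P Q R) := by
    rw [← card_ne_point Q]
    refine card_of_fibres (fun y : {y : G // InMember P y ∧ y • Q ≠ Q} =>
      (⟨(y : G) • Q, y.2.2⟩ : {S : Mem P // S ≠ Q})) _
      fun S => (Nat.card_congr ?_).trans (hall S.1 S.2)
    exact
      { toFun := fun y => ⟨y.1.1, y.1.2.1, congrArg Subtype.val y.2⟩
        invFun := fun y => ⟨⟨y.1, y.2.1, by rw [y.2.2]; exact S.2⟩, Subtype.ext y.2.2⟩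
        left_inv := fun y => rfl
        right_inv := fun y => rfl }
  haveI : Nontrivial (Mem P) := ⟨⟨R, Q, hne⟩⟩
  have hn : 1 < Nat.card (Mem P) := Finite.one_lt_card
  rw [hA] at hB
  exact (Nat.eq_of_mul_eq_mul_left (by omega) hB).symm

theorem card_moving_line (h : LHyp P) {Q R : Mem P} (hne : Q ≠ R) :
    Nat.card {y : Moving P Q R // (y : G) ∈ Q.1 ⊔ R.1} = 10 := by
  set X := Q.1 ⊔ R.1 with hXdef
  set q0 : Line P X := ⟨Q, le_sup_left⟩ with hq0
  have h1 : Nat.card {T : Line P X // T ≠ q0} = 11 := by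
    rw [card_ne_point, h.card_line hne]
  have hA : Nat.card {y : G // (InMember P y ∧ y • Q ≠ Q) ∧ y ∈ X} = 11 * 10 := by
    rw [Nat.card_congr (Equiv.subtypeEquivRight fun y => and_assoc),
      h.card_inMember (fun y => y • Q ≠ Q ∧ y ∈ X) (fun S => S.1 ≤ X ∧ S ≠ Q)
      fun S y hy hyS => ⟨fun hm => ⟨h.member_le hy hyS hm.2, fun e => hm.1 ?_⟩,
        fun hm => ⟨fun e => hm.2 (h.eq_of_smul_eq hy hyS e), hm.1 hyS⟩⟩]
    · rw [← h1]
      congr 1
      exact Nat.card_congr
        { toFun := fun S => ⟨⟨S.1, S.2.1⟩, fun e => S.2.2 (congrArg Subtype.val e)⟩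
          invFun := fun T => ⟨T.1.1, T.1.2, fun e => T.2 (Subtype.ext e)⟩
          left_inv := fun _ => rfl
          right_inv := fun _ => rfl }
    · exact (smul_eq_iff y Q).2 (Subgroup.le_normalizer (e ▸ hyS))
  have hB : Nat.card {y : G // (InMember P y ∧ y • Q ≠ Q) ∧ y ∈ X} =
      11 * Nat.card {y : Moving P Q R // (y : G) ∈ X} := by
    rw [← h1]
    refine card_of_fibres (fun y : {y : G // (InMember P y ∧ y • Q ≠ Q) ∧ y ∈ X} =>
      (⟨⟨(y : G) • Q, le_of_smul_le y.2.2 le_sup_left⟩,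
      fun e => y.2.1.2 (congrArg Subtype.val e)⟩ : {T : Line P X // T ≠ q0})) _
      fun S => Nat.card_congr ?_
    choose q hq hqR using h.exists_smul_in_line hne S.1.2 (fun e => S.2 (Subtype.ext e))
    have hqX : q ∈ X := Subgroup.mem_sup_left hq
    have hqQ : q • Q = Q := (smul_eq_iff q Q).2 (Subgroup.le_normalizer hq)
    refine Equiv.trans
      (β := {y : Moving P Q S.1.1 // (y : G) ∈ X})
      { toFun := fun y => ⟨⟨y.1.1, y.1.2.1.1, congrArg (fun T => T.1.1) y.2⟩, y.1.2.2⟩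
        invFun := fun y => ⟨⟨y.1.1, ⟨y.1.2.1, by rw [y.1.2.2]; exact fun e => S.2 (Subtype.ext e)⟩,
          y.2⟩, Subtype.ext (Subtype.ext y.1.2.2)⟩
        left_inv := fun y => rfl
        right_inv := fun y => rfl } ?_
    rw [← hqR]
    refine (Equiv.subtypeEquiv (p := fun y : Moving P Q R => (y : G) ∈ X) (movingEquiv q hqQ)
      fun y => ?_).symm
    show (y : G) ∈ X ↔ q * y * q⁻¹ ∈ X
    rw [Subgroup.mul_mem_cancel_right _ (inv_mem hqX), Subgroup.mul_mem_cancel_left _ hqX]
  rw [hA] at hB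
  omega

/-- An element of a member moving `Q` to `R` lies in their line, with its member. -/
theorem le_of_moving (h : LHyp P) {Q R S : Mem P} (hne : Q ≠ R) {y : G} (hy : y ≠ 1) (hS : y ∈ S.1)
    (hQR : y • Q = R) : S.1 ≤ Q.1 ⊔ R.1 := by
  have hsurj : Function.Surjective
      (Subtype.val : {y : Moving P Q R // (y : G) ∈ Q.1 ⊔ R.1} → Moving P Q R) :=
    ((Nat.bijective_iff_injective_and_card _).2 ⟨Subtype.val_injective, by
      rw [h.card_moving_line hne, h.card_moving hne.symm]⟩).2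
  obtain ⟨⟨w, hw⟩, hwy⟩ := hsurj (⟨y, ⟨hy, S, hS⟩, hQR⟩ : Moving P Q R)
  have e : (w : G) = y := congrArg Subtype.val hwy
  exact h.member_le hy hS (e ▸ hw)

/-- A product of elements of two members fixes nothing outside their line. -/
theorem product_fix (h : LHyp P) {Q R S : Mem P} (hne : Q ≠ R) {x y : G} (hx : x ∈ Q.1)
    (hx1 : x ≠ 1) (hy : y ∈ R.1) (hy1 : y ≠ 1) (hS : (x * y) • S = S) : S.1 ≤ Q.1 ⊔ R.1 := by
  rcases eq_or_ne S R with rfl | hSR
  · exact le_sup_right
  have hmove : y • S ≠ S := fun e => hSR (h.eq_of_smul_eq hy1 hy e).symm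
  have hR' := h.le_of_moving hmove.symm hy1 hy rfl
  have hQ' : Q.1 ≤ S.1 ⊔ (y • S).1 :=
    h.le_of_moving hmove.symm (fun e => hx1 (inv_eq_one.1 e)) (inv_mem hx)
      (by rw [inv_smul_eq_iff, ← mul_smul, hS])
  rw [h.line_eq hne hmove.symm hQ' hR']
  exact le_sup_left

theorem card_stab_line (h : LHyp P) {Q R : Mem P} (hne : Q ≠ R) {S : Mem P}
    (hS : S.1 ≤ Q.1 ⊔ R.1) :
    Nat.card ((MulAction.stabilizer G S).subgroupOf (Q.1 ⊔ R.1)) = 55 := by
  set X := Q.1 ⊔ R.1 with hXdef
  have horb : MulAction.orbit X S = {T : Mem P | T.1 ≤ X} := by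
    ext T
    constructor
    · rintro ⟨x, rfl⟩
      exact le_of_smul_le x.2 hS
    · intro hT
      obtain ⟨a, ha, ha'⟩ := h.exists_conj_in_pair Q R hne hS (h.mem_card S)
      obtain ⟨b, hb, hb'⟩ := h.exists_conj_in_pair Q R hne hT (h.mem_card T)
      refine ⟨⟨b * a⁻¹, mul_mem hb (inv_mem ha)⟩, ?_⟩
      show (b * a⁻¹) • S = T
      rw [show S = a • Q from Subtype.ext ha'.symm, mul_smul, inv_smul_smul]
      exact Subtype.ext hb'
  have hc := (MulAction.stabilizer X S).card_mul_index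
  rw [MulAction.index_stabilizer, horb, ← Nat.card_coe_set_eq] at hc
  have e : MulAction.stabilizer X S = (MulAction.stabilizer G S).subgroupOf X := by
    ext x; rfl
  rw [e, (h.allL Q R hne).card] at hc
  have := h.card_line hne
  change Nat.card {T : Mem P // T.1 ≤ X} = 12 at this
  change _ * Nat.card {T : Mem P // T.1 ≤ X} = 660 at hc
  rw [this] at hc
  omega

/-- A product of order two or three of elements of two members fixes no member. -/
theorem product_free (h : LHyp P) {Q R : Mem P} (hne : Q ≠ R) {x y : G} (hx : x ∈ Q.1)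
    (hy : y ∈ R.1) (ho : orderOf (x * y) = 2 ∨ orderOf (x * y) = 3) (S : Mem P) :
    (x * y) • S ≠ S := by
  intro hfix
  have h11 : ∀ z : G, ∀ T : Mem P, z ∈ T.1 → orderOf z ∣ 11 := fun z T hz => by
    have := orderOf_dvd_natCard (⟨z, hz⟩ : T.1)
    rwa [h.mem_card, ← Subgroup.orderOf_coe] at this
  have hx1 : x ≠ 1 := fun e => by
    rw [e, one_mul] at ho
    have := h11 y R hy
    rcases ho with ho | ho <;> rw [ho] at this <;> norm_num at this
  have hy1 : y ≠ 1 := fun e => by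
    rw [e, mul_one] at ho
    have := h11 x Q hx
    rcases ho with ho | ho <;> rw [ho] at this <;> norm_num at this
  have hS := h.product_fix hne hx hx1 hy hy1 hfix
  have hd := orderOf_dvd_natCard (⟨⟨x * y, mul_mem (Subgroup.mem_sup_left hx)
    (Subgroup.mem_sup_right hy)⟩, hfix⟩ : (MulAction.stabilizer G S).subgroupOf (Q.1 ⊔ R.1))
  rw [h.card_stab_line hne hS, ← Subgroup.orderOf_coe, ← Subgroup.orderOf_coe] at hd
  change orderOf (x * y) ∣ 55 at hd
  rcases ho with ho | ho <;> rw [ho] at hd <;> norm_num at hd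

/-- An involution of a line fixes no member. -/
theorem involution_free (h : LHyp P) {Q R : Mem P} (hne : Q ≠ R) {z : G} (hz : z ∈ Q.1 ⊔ R.1)
    (hz2 : orderOf z = 2) (S : Mem P) : z • S ≠ S := by
  obtain ⟨A, B, x, y, hA, hB, hAB, hx, hy, hxy⟩ :=
    (h.allL Q R hne).involution_product (z := (⟨z, hz⟩ : ↥(Q.1 ⊔ R.1)))
      (by rw [← Subgroup.orderOf_coe]; exact hz2)
  have hm : ∀ C : Subgroup ↥(Q.1 ⊔ R.1), Nat.card C = 11 →
      Member P (C.map (Q.1 ⊔ R.1).subtype) := fun C hC =>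
    h.member_of_le_pair Q R hne (Subgroup.map_subtype_le _)
      (by rw [Subgroup.card_map_of_injective (Q.1 ⊔ R.1).subtype_injective, hC])
  have hne' : (⟨_, hm A hA⟩ : Mem P) ≠ ⟨_, hm B hB⟩ := fun e =>
    hAB (Subgroup.map_injective (Q.1 ⊔ R.1).subtype_injective (congrArg Subtype.val e))
  have e : (x : G) * (y : G) = z := congrArg Subtype.val hxy
  rw [← e]
  exact h.product_free hne' ⟨x, hx, rfl⟩ ⟨y, hy, rfl⟩ (Or.inl (e ▸ hz2)) S

end LHyp

end Cfsg.Agent.ElevenPairs
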